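/-
The Brauer-Suzuki-Wall setting: elementary facts.

* `conjInto`, `conjEquiv`, `ncard_conjInto`: non-identity elements conjugate into a TI subgroup
* `inverts_of_free`: a fixed-point-free involution inverts
* `Hyp t s K` : the hypotheses (an abelian TI subgroup `K` of index two in the centralizer of `t`)
* `out K`: non-identity elements not conjugate into `K`; their centralizers and inverting involutions
-/
import Cfsg.Agent.EqLemmas
import Cfsg.Agent.Lib.Involution.Basic

set_option autoImplicit false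

namespace Cfsg.Agent.BSW

open Cfsg.Agent

variable {G : Type*} [Group G]

/-- The centralizer of an element. -/
abbrev cent (x : G) : Subgroup G := Subgroup.centralizer ({x} : Set G)

theorem mem_cent {g x : G} : g ∈ cent x ↔ g * x = x * g :=
  Subgroup.mem_centralizer_singleton_iff

theorem self_mem_cent (x : G) : x ∈ cent x := mem_cent.2 rfl

theorem conj_eq_iff {g x : G} : g * x * g⁻¹ = x ↔ g * x = x * g := by
  rw [mul_inv_eq_iff_eq_mul]

theorem conj_mem_cent {g x y : G} (h : y ∈ cent x) : g * y * g⁻¹ ∈ cent (g * x * g⁻¹) := by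
  rw [mem_cent] at h ⊢
  calc g * y * g⁻¹ * (g * x * g⁻¹) = g * (y * x) * g⁻¹ := by group
    _ = g * x * g⁻¹ * (g * y * g⁻¹) := by rw [h]; group

theorem card_cent_conj (g x : G) : Nat.card (cent (g * x * g⁻¹)) = Nat.card (cent x) := by
  refine (Nat.card_congr (Equiv.subtypeEquiv (MulAut.conj g).toEquiv fun y => ?_)).symm
  refine ⟨fun h => conj_mem_cent h, fun h => ?_⟩
  have h' := conj_mem_cent (g := g⁻¹) h
  simpa [mul_assoc] using h'

/-- The non-identity elements conjugate into `A`. -/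
def conjInto (A : Subgroup G) : Set G := {y | y ≠ 1 ∧ ∃ g : G, g⁻¹ * y * g ∈ A}

theorem mem_conjInto_of_mem {A : Subgroup G} {x : G} (h : x ∈ A) (h1 : x ≠ 1) : x ∈ conjInto A :=
  ⟨h1, 1, by simpa using h⟩

theorem conj_mem_conjInto {A : Subgroup G} {x : G} (h : x ∈ conjInto A) (g : G) :
    g * x * g⁻¹ ∈ conjInto A := by
  obtain ⟨h1, c, hc⟩ := h
  exact ⟨fun e => h1 (conj_eq_one_iff.1 e), g * c, by simpa [mul_assoc] using hc⟩

theorem exists_eq_conj {A : Subgroup G} {x : G} (h : x ∈ conjInto A) :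
    ∃ g a : G, a ∈ A ∧ a ≠ 1 ∧ x = g * a * g⁻¹ := by
  obtain ⟨h1, c, hc⟩ := h
  exact ⟨c, c⁻¹ * x * c, hc, fun e => h1 (by
    rw [mul_assoc, inv_mul_eq_one] at e; simpa using congrArg (· * c⁻¹) e.symm), by group⟩

section TI

variable (A N : Subgroup G)
  (hN : ∀ g ∈ N, ∀ x ∈ A, g * x * g⁻¹ ∈ A)
  (hTI : ∀ g x : G, x ∈ A → x ≠ 1 → g * x * g⁻¹ ∈ A → g ∈ N)

include hN hTI in
/-- The parametrization of the conjugates of a TI subgroup. -/
theorem conjInto_bijective :
    Function.Bijective (fun p : (G ⧸ N) × {x : G // x ∈ A ∧ x ≠ 1} =>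
      (⟨p.1.out * p.2.1 * p.1.out⁻¹,
        conj_mem_conjInto (mem_conjInto_of_mem p.2.2.1 p.2.2.2) _⟩ : conjInto A)) := by
  refine ⟨fun p q h => ?_, fun y => ?_⟩
  · obtain ⟨c, x, hx, hx1⟩ := p
    obtain ⟨d, x', hx', hx1'⟩ := q
    have h' : c.out * x * c.out⁻¹ = d.out * x' * d.out⁻¹ := congrArg Subtype.val h
    have e : (d.out⁻¹ * c.out) * x * (d.out⁻¹ * c.out)⁻¹ = x' := by
      calc _ = d.out⁻¹ * (c.out * x * c.out⁻¹) * d.out := by group
        _ = x' := by rw [h']; group
    have hm : d.out⁻¹ * c.out ∈ N := hTI _ x hx hx1 (by rw [e]; exact hx')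
    have hcd : d = c := by
      rw [← QuotientGroup.out_eq' d, ← QuotientGroup.out_eq' c]
      exact QuotientGroup.eq.2 hm
    subst hcd
    exact Prod.ext rfl (Subtype.ext (conj_injective h'))
  · obtain ⟨g, a, ha, ha1, hy⟩ := exists_eq_conj y.2
    obtain ⟨m, hm⟩ := QuotientGroup.mk_out_eq_mul N g
    refine ⟨(QuotientGroup.mk g, ⟨(m : G)⁻¹ * a * (m : G), ?_, ?_⟩), Subtype.ext ?_⟩
    · simpa using hN _ (inv_mem m.2) a ha
    · intro e
      apply ha1
      rw [mul_assoc, inv_mul_eq_one] at e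
      simpa using congrArg (· * (m : G)⁻¹) e.symm
    · show (QuotientGroup.mk g : G ⧸ N).out * ((m : G)⁻¹ * a * m) * _⁻¹ = (y : G)
      rw [hm, hy]; group
where
  conj_injective {g x x' : G} (h : g * x * g⁻¹ = g * x' * g⁻¹) : x = x' :=
    mul_left_cancel (mul_right_cancel h)

/-- The non-identity elements of a finite subgroup. -/
theorem card_ne_one [Finite G] : Nat.card {x : G // x ∈ A ∧ x ≠ 1} = Nat.card A - 1 := by
  have h : {x : G | x ∈ A ∧ x ≠ 1} = (A : Set G) \ {1} := rfl
  rw [show Nat.card {x : G // x ∈ A ∧ x ≠ 1} = ({x : G | x ∈ A ∧ x ≠ 1}).ncard from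
    Nat.card_coe_set_eq _, h, Set.ncard_sdiff_singleton_of_mem A.one_mem, ← Nat.card_coe_set_eq]
  rfl

include hN hTI in
theorem ncard_conjInto [Finite G] : (conjInto A).ncard = N.index * (Nat.card A - 1) := by
  rw [← Nat.card_coe_set_eq, ← Nat.card_congr (Equiv.ofBijective _ (conjInto_bijective A N hN hTI)),
    Nat.card_prod, card_ne_one A]
  rfl

end TI

/-- An involution acting without fixed points inverts, and the group it acts on is abelian. -/
theorem inverts_of_free [Finite G] (E : Subgroup G) {u : G} (hu : u * u = 1)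
    (hnorm : ∀ x ∈ E, u * x * u⁻¹ ∈ E) (hfree : ∀ x ∈ E, u * x = x * u → x = 1) :
    (∀ x ∈ E, u * x * u⁻¹ = x⁻¹) ∧ (∀ x ∈ E, ∀ y ∈ E, x * y = y * x) := by
  let φ : E →* E :=
    { toFun := fun x => ⟨u * x * u⁻¹, hnorm x x.2⟩
      map_one' := Subtype.ext (by simp)
      map_mul' := fun x y => Subtype.ext (by simp [mul_assoc]) }
  have hφ : MonoidHom.FixedPointFree φ := fun x hx => Subtype.ext <|
    hfree x x.2 (conj_eq_iff.1 (congrArg Subtype.val hx))
  have h2 : Function.Involutive φ := fun x => Subtype.ext <| by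
    show u * (u * x * u⁻¹) * u⁻¹ = x
    rw [inv_eq_of_mul_eq_one_right hu, show u * (u * (x : G) * u) * u = (u * u) * x * (u * u) by
      group, hu, one_mul, mul_one]
  refine ⟨fun x hx => ?_, fun x hx y hy => ?_⟩
  · have := congrFun (hφ.coe_eq_inv_of_involutive h2) ⟨x, hx⟩
    exact congrArg Subtype.val this
  · exact congrArg Subtype.val (hφ.commute_all_of_involutive h2 ⟨x, hx⟩ ⟨y, hy⟩).eq

/-- The hypotheses of the theorem of Brauer, Suzuki and Wall. -/
structure Hyp (t s : G) (K : Subgroup G) : Prop where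
  ht : orderOf t = 2
  hs : orderOf s = 2
  comm : ∀ x ∈ K, ∀ y ∈ K, x * y = y * x
  le_cent : K ≤ cent t
  t_mem : t ∈ K
  s_mem : s ∈ cent t
  s_not : s ∉ K
  cent_le : cent t ≤ K ⊔ Subgroup.zpowers s
  fix : ∀ x ∈ K, s * x = x * s → x = 1 ∨ x = t
  inv : ∀ x ∈ K, s * x * s⁻¹ = x⁻¹
  ti : ∀ g x : G, x ∈ K → x ≠ 1 → g * x * g⁻¹ ∈ K → g ∈ cent t
  all_conj : ∀ x y : G, orderOf x = 2 → orderOf y = 2 → IsConj x y

/-- The non-identity elements not conjugate into `K`. -/
def out (K : Subgroup G) : Set G := {y | y ≠ 1 ∧ y ∉ conjInto K}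

/-- The involutions inverting `y`. -/
def invols (y : G) : Set G := {u | orderOf u = 2 ∧ u * y * u⁻¹ = y⁻¹}

/-- The members of `out K` inverted by `t`. -/
def invertedBy (K : Subgroup G) (t : G) : Set G := {x | x ∈ out K ∧ t * x * t⁻¹ = x⁻¹}

namespace Hyp

set_option linter.unusedSectionVars false

variable {t s : G} {K : Subgroup G} (h : Hyp t s K)
include h

theorem t_ne_one : t ≠ 1 := Involution.ne_one h.ht

theorem tt : t * t = 1 := Involution.mul_self h.ht

theorem eq_of_sq {x : G} (hx : x ∈ K) (h2 : x * x = 1) : x = 1 ∨ x = t := by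
  refine h.fix x hx (conj_eq_iff.1 ?_)
  rw [h.inv x hx, inv_eq_of_mul_eq_one_right h2]

theorem eq_t {x : G} (hx : x ∈ K) (h2 : orderOf x = 2) : x = t :=
  (h.eq_of_sq hx (Involution.mul_self h2)).resolve_left (Involution.ne_one h2)

theorem mul_s_sq {k : G} (hk : k ∈ K) : k * s * (k * s) = 1 := by
  have e := h.inv k hk
  rw [Involution.inv_eq h.hs] at e
  rw [show k * s * (k * s) = k * (s * k * s) by group, e, mul_inv_cancel]

theorem s_conj_mem {k : G} (hk : k ∈ K) : s * k * s⁻¹ ∈ K := by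
  rw [h.inv k hk]; exact K.inv_mem hk

theorem mem_cent_iff {g : G} : g ∈ cent t ↔ g ∈ K ∨ g * s ∈ K := by
  refine ⟨fun hg => ?_, ?_⟩
  · have ss := Involution.mul_self h.hs
    let S : Subgroup G :=
      { carrier := {g | g ∈ K ∨ g * s ∈ K}
        one_mem' := Or.inl K.one_mem
        mul_mem' := by
          rintro a b (ha | ha) (hb | hb)
          · exact Or.inl (K.mul_mem ha hb)
          · right; rw [mul_assoc]; exact K.mul_mem ha hb
          · right
            have := K.mul_mem ha (h.s_conj_mem hb)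
            rw [Involution.inv_eq h.hs, show a * s * (s * b * s) = a * (s * s) * b * s by group,
              ss, mul_one] at this
            exact this
          · left
            have := K.mul_mem ha (h.s_conj_mem hb)
            rw [Involution.inv_eq h.hs,
              show a * s * (s * (b * s) * s) = a * (s * s) * b * (s * s) by group,
              ss, mul_one, mul_one] at this
            exact this
        inv_mem' := by
          rintro a (ha | ha)
          · exact Or.inl (K.inv_mem ha)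
          · right
            have e := h.mul_s_sq ha
            rw [mul_assoc a s s, ss, mul_one] at e
            rwa [inv_eq_of_mul_eq_one_right e] }
    have hle : K ⊔ Subgroup.zpowers s ≤ S := by
      refine sup_le (fun x hx => Or.inl hx) (Subgroup.zpowers_le.2 (Or.inr ?_))
      rw [ss]; exact K.one_mem
    exact hle (h.cent_le hg)
  · rintro (hg | hg)
    · exact h.le_cent hg
    · simpa using (cent t).mul_mem (h.le_cent hg) ((cent t).inv_mem h.s_mem)

theorem mul_s_mem_cent {k : G} (hk : k ∈ K) : k * s ∈ cent t :=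
  (cent t).mul_mem (h.le_cent hk) h.s_mem

theorem mul_s_not_mem {k : G} (hk : k ∈ K) : k * s ∉ K := fun e =>
  h.s_not (by simpa using K.mul_mem (K.inv_mem hk) e)

theorem exists_eq_mul_s {g : G} (hg : g ∈ cent t) (hgK : g ∉ K) : ∃ k ∈ K, g = k * s :=
  ⟨g * s, (h.mem_cent_iff.1 hg).resolve_left hgK, by
    rw [mul_assoc, Involution.mul_self h.hs, mul_one]⟩

theorem sq_of_not_mem {g : G} (hg : g ∈ cent t) (hgK : g ∉ K) : g * g = 1 := by
  obtain ⟨k, hk, rfl⟩ := h.exists_eq_mul_s hg hgK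
  exact h.mul_s_sq hk

theorem orderOf_not_mem {g : G} (hg : g ∈ cent t) (hgK : g ∉ K) : orderOf g = 2 :=
  Involution.orderOf_of_sq (h.sq_of_not_mem hg hgK) fun e => hgK (e ▸ K.one_mem)

theorem inverts_not_mem {g x : G} (hg : g ∈ cent t) (hgK : g ∉ K) (hx : x ∈ K) :
    g * x * g⁻¹ = x⁻¹ := by
  obtain ⟨k, hk, rfl⟩ := h.exists_eq_mul_s hg hgK
  rw [show k * s * x * (k * s)⁻¹ = k * (s * x * s⁻¹) * k⁻¹ by group, h.inv x hx,
    h.comm k hk _ (K.inv_mem hx), mul_inv_cancel_right]

theorem conj_mem {g x : G} (hg : g ∈ cent t) (hx : x ∈ K) : g * x * g⁻¹ ∈ K := by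
  by_cases hgK : g ∈ K
  · exact K.mul_mem (K.mul_mem hgK hx) (K.inv_mem hgK)
  · rw [h.inverts_not_mem hg hgK hx]; exact K.inv_mem hx

theorem mem_cent_of_commute {g x : G} (hx : x ∈ K) (hx1 : x ≠ 1) (hc : g * x = x * g) :
    g ∈ cent t :=
  h.ti g x hx hx1 (by rw [conj_eq_iff.2 hc]; exact hx)

theorem cent_le_of_mem {x : G} (hx : x ∈ K) (hx1 : x ≠ 1) : cent x ≤ cent t :=
  fun _ hg => h.mem_cent_of_commute hx hx1 (mem_cent.1 hg)

theorem cent_eq {x : G} (hx : x ∈ K) (h2 : x * x ≠ 1) : cent x = K := by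
  refine le_antisymm (fun g hg => ?_) fun g hg => mem_cent.2 (h.comm g hg x hx)
  by_contra hgK
  have hc := mem_cent.1 hg
  have hx1 : x ≠ 1 := fun e => h2 (by simp [e])
  have := h.inverts_not_mem (h.mem_cent_of_commute hx hx1 hc) hgK hx
  rw [conj_eq_iff.2 hc] at this
  exact h2 (mul_eq_one_iff_eq_inv.2 this)

theorem mem_conjInto_involution {u : G} (hu : orderOf u = 2) : u ∈ conjInto K := by
  obtain ⟨c, rfl⟩ := isConj_iff.1 (h.all_conj t u h.ht hu)
  exact conj_mem_conjInto (mem_conjInto_of_mem h.t_mem h.t_ne_one) c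

theorem orderOf_ne_two {y : G} (hy : y ∈ out K) : orderOf y ≠ 2 :=
  fun e => hy.2 (h.mem_conjInto_involution e)

theorem mem_conjInto_of_commute {x y : G} (hx : x ∈ conjInto K) (hc : y * x = x * y)
    (hy : y ≠ 1) : y ∈ conjInto K := by
  obtain ⟨g, a, ha, ha1, rfl⟩ := exists_eq_conj hx
  have hc' : g⁻¹ * y * g ∈ cent a := by
    simpa [mul_assoc] using conj_mem_cent (g := g⁻¹) (mem_cent.2 hc)
  have hH := h.cent_le_of_mem ha ha1 hc'
  by_cases hK : g⁻¹ * y * g ∈ K
  · exact ⟨hy, g, hK⟩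
  · refine h.mem_conjInto_involution ?_
    have := h.orderOf_not_mem hH hK
    rwa [show g⁻¹ * y * g = g⁻¹ * y * g⁻¹⁻¹ by simp, Involution.orderOf_conj] at this

theorem mem_out_of_commute {x y : G} (hy : y ∈ out K) (hc : x * y = y * x) (hx : x ≠ 1) :
    x ∈ out K :=
  ⟨hx, fun hxK => hy.2 (h.mem_conjInto_of_commute hxK hc.symm hy.1)⟩

theorem mem_out_of_mem_cent {x y : G} (hy : y ∈ out K) (hx : x ∈ cent y) (hx1 : x ≠ 1) :
    x ∈ out K :=
  h.mem_out_of_commute hy (mem_cent.1 hx) hx1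

theorem conj_mem_out {y : G} (hy : y ∈ out K) (g : G) : g * y * g⁻¹ ∈ out K :=
  ⟨fun e => hy.1 (conj_eq_one_iff.1 e), fun e =>
    hy.2 (by simpa [mul_assoc] using conj_mem_conjInto e g⁻¹)⟩

theorem inv_mem_out {y : G} (hy : y ∈ out K) : y⁻¹ ∈ out K :=
  h.mem_out_of_commute hy (by group) (inv_ne_one.2 hy.1)

theorem pow_mem_out {y : G} (hy : y ∈ out K) {k : ℕ} (hk : y ^ k ≠ 1) : y ^ k ∈ out K :=
  h.mem_out_of_commute hy (Commute.pow_self y k).eq hk

theorem not_commute_involution {u y : G} (hu : orderOf u = 2) (hy : y ∈ out K) :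
    u * y ≠ y * u :=
  fun hc => hy.2 (h.mem_conjInto_of_commute (h.mem_conjInto_involution hu) hc.symm hy.1)

section finite

variable [Finite G]

theorem card_cent_t : Nat.card (cent t) = 2 * Nat.card K := by
  let f : Bool × K → cent t := fun p =>
    if p.1 then ⟨p.2 * s, h.mul_s_mem_cent p.2.2⟩ else ⟨p.2, h.le_cent p.2.2⟩
  have hf : Function.Bijective f := by
    refine ⟨?_, fun g => ?_⟩
    · rintro ⟨a, x⟩ ⟨b, y⟩ e
      have e' := congrArg Subtype.val e
      cases a <;> cases b <;> simp only [f, Bool.false_eq_true, if_false, if_true] at e'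
      · exact Prod.ext rfl (Subtype.ext e')
      · exact absurd (e' ▸ x.2) (h.mul_s_not_mem y.2)
      · exact absurd (e'.symm ▸ y.2) (h.mul_s_not_mem x.2)
      · exact Prod.ext rfl (Subtype.ext (mul_right_cancel e'))
    · by_cases hg : (g : G) ∈ K
      · exact ⟨(false, ⟨g, hg⟩), Subtype.ext rfl⟩
      · obtain ⟨k, hk, hgk⟩ := h.exists_eq_mul_s g.2 hg
        exact ⟨(true, ⟨k, hk⟩), Subtype.ext hgk.symm⟩
  rw [← Nat.card_congr (Equiv.ofBijective f hf), Nat.card_prod, Nat.card_eq_fintype_card (α := Bool),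
    Fintype.card_bool]

theorem two_dvd_card : 2 ∣ Nat.card K := h.ht ▸ Subgroup.orderOf_dvd_natCard K h.t_mem

theorem card_eq : Nat.card G = 2 * Nat.card K * (cent t).index := by
  rw [← h.card_cent_t, Subgroup.card_mul_index]

theorem card_cent_involution {u : G} (hu : orderOf u = 2) :
    Nat.card (cent u) = 2 * Nat.card K := by
  obtain ⟨c, rfl⟩ := isConj_iff.1 (h.all_conj t u h.ht hu)
  rw [card_cent_conj, h.card_cent_t]

theorem ncard_conjInto_K : (conjInto K).ncard = (cent t).index * (Nat.card K - 1) :=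
  ncard_conjInto K (cent t) (fun _ hg _ hx => h.conj_mem hg hx) h.ti

theorem ncard_involutions : {u : G | orderOf u = 2}.ncard = (cent t).index := by
  have hmem : ∀ x : G, x ∈ Subgroup.zpowers t → x = 1 ∨ x = t := by
    intro x hx
    obtain ⟨k, rfl⟩ := Subgroup.mem_zpowers_iff.1 hx
    exact h.eq_of_sq (K.zpow_mem h.t_mem k) (by
      rw [← (Commute.refl t).mul_zpow, h.tt, one_zpow])
  have e := ncard_conjInto (Subgroup.zpowers t) (cent t)
    (fun g hg x hx => by
      rcases hmem x hx with rfl | rfl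
      · simp
      · rw [conj_eq_iff.2 (mem_cent.1 hg)]; exact hx)
    (fun g x hx hx1 hgx => by
      obtain rfl := (hmem x hx).resolve_left hx1
      refine mem_cent.2 (conj_eq_iff.1 ((hmem _ hgx).resolve_left fun e => ?_))
      exact hx1 (conj_eq_one_iff.1 e))
  rw [Nat.card_zpowers, h.ht, Nat.succ_sub_one, mul_one] at e
  rw [← e]
  congr 1
  ext u
  refine ⟨fun hu => ?_, ?_⟩
  · obtain ⟨c, rfl⟩ := isConj_iff.1 (h.all_conj t u h.ht hu)
    exact conj_mem_conjInto (mem_conjInto_of_mem (Subgroup.mem_zpowers t) h.t_ne_one) c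
  · intro hu
    obtain ⟨g, a, ha, ha1, rfl⟩ := exists_eq_conj hu
    show orderOf _ = 2
    rw [Involution.orderOf_conj, (hmem a ha).resolve_left ha1, h.ht]

theorem exists_sylow_center (p : ℕ) [Fact p.Prime] (P : Sylow p G) (hp : p ∣ Nat.card G) :
    ∃ z : G, z ∈ (P : Subgroup G) ∧ z ≠ 1 ∧ orderOf z = p ∧
      ∀ x ∈ (P : Subgroup G), x * z = z * x := by
  have hne : (P : Subgroup G) ≠ ⊥ := P.ne_bot_of_dvd_card hp
  have : Nontrivial (P : Subgroup G) := (Subgroup.nontrivial_iff_ne_bot _).2 hne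
  have := IsPGroup.center_nontrivial P.isPGroup'
  have hdvd : p ∣ Nat.card (Subgroup.center (P : Subgroup G)) := by
    obtain ⟨k, hk⟩ := IsPGroup.iff_card.1 (P.isPGroup'.to_subgroup (Subgroup.center _))
    rcases k with _ | k
    · rw [pow_zero] at hk
      exact absurd hk (Finite.one_lt_card (α := Subgroup.center (P : Subgroup G))).ne'
    · exact hk ▸ dvd_pow_self p (Nat.succ_ne_zero k)
  obtain ⟨z, hz⟩ := exists_prime_orderOf_dvd_card' p hdvd
  have hz' : orderOf ((z : (P : Subgroup G)) : G) = p := by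
    rwa [Subgroup.orderOf_coe, Subgroup.orderOf_coe]
  refine ⟨((z : (P : Subgroup G)) : G), (z : (P : Subgroup G)).2, fun e => ?_, hz', fun x hx => ?_⟩
  · rw [e, orderOf_one] at hz'; exact (Fact.out : p.Prime).one_lt.ne hz'
  · exact congrArg Subtype.val (Subgroup.mem_center_iff.1 z.2 ⟨x, hx⟩)

theorem sylow_dvd (p : ℕ) [hp : Fact p.Prime] (hd : p ∣ 2 * Nat.card K) :
    p ^ (Nat.card G).factorization p ∣ 2 * Nat.card K ∧
      (p ≠ 2 → ∀ x : G, orderOf x = p → x ∈ conjInto K) := by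
  have hpG : p ∣ Nat.card G := hd.trans (h.card_eq ▸ dvd_mul_right _ _)
  rcases eq_or_ne p 2 with rfl | hp2
  · refine ⟨?_, fun e => absurd rfl e⟩
    obtain ⟨z, -, -, hz, hzc⟩ := h.exists_sylow_center 2 default hpG
    rw [← Sylow.card_eq_multiplicity (default : Sylow 2 G), ← h.card_cent_involution hz]
    exact Subgroup.card_dvd_of_le fun x hx => mem_cent.2 (hzc x hx)
  · have hpK : p ∣ Nat.card K :=
      (hp.out.dvd_mul.1 hd).resolve_left fun e =>
        hp2 ((Nat.prime_dvd_prime_iff_eq hp.out Nat.prime_two).1 e)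
    obtain ⟨x, hx⟩ := exists_prime_orderOf_dvd_card' p hpK
    have hx' : orderOf (x : G) = p := by rwa [Subgroup.orderOf_coe]
    have hxP : IsPGroup p (Subgroup.zpowers (x : G)) :=
      IsPGroup.of_card (n := 1) (by rw [Nat.card_zpowers, hx', pow_one])
    obtain ⟨P, hP⟩ := hxP.exists_le_sylow
    obtain ⟨z, -, hz1, hz, hzc⟩ := h.exists_sylow_center p P hpG
    have hxz := hzc (x : G) (hP (Subgroup.mem_zpowers _))
    have hx1 : (x : G) ≠ 1 := fun e => by rw [e, orderOf_one] at hx'; exact hp.out.one_lt.ne hx'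
    have hzH := h.mem_cent_of_commute x.2 hx1 hxz.symm
    have hzK : z ∈ K := by
      by_contra hzK
      exact hp2 (hz ▸ h.orderOf_not_mem hzH hzK)
    have hPH : (P : Subgroup G) ≤ cent t := fun y hy => h.mem_cent_of_commute hzK hz1 (hzc y hy)
    refine ⟨?_, fun _ y hy => ?_⟩
    · rw [← Sylow.card_eq_multiplicity P, ← h.card_cent_t]
      exact Subgroup.card_dvd_of_le hPH
    · have hy' : IsPGroup p (Subgroup.zpowers y) :=
        IsPGroup.of_card (n := 1) (by rw [Nat.card_zpowers, hy, pow_one])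
      obtain ⟨R, hR⟩ := hy'.exists_le_sylow
      obtain ⟨g, hg⟩ := MulAction.exists_smul_eq G R P
      have hyP : g * y * g⁻¹ ∈ (P : Subgroup G) := by
        rw [← hg, Sylow.coe_subgroup_smul]
        exact ⟨y, hR (Subgroup.mem_zpowers y), rfl⟩
      have hK : g * y * g⁻¹ ∈ K := by
        by_contra hK
        have := h.orderOf_not_mem (hPH hyP) hK
        rw [Involution.orderOf_conj, hy] at this
        exact hp2 this
      exact ⟨fun e => by rw [e, orderOf_one] at hy; exact hp.out.one_lt.ne hy, g⁻¹, by simpa using hK⟩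

theorem coprime_index : Nat.Coprime (cent t).index (2 * Nat.card K) := by
  refine Nat.coprime_of_dvd fun p hp h1 h2 => ?_
  have := Fact.mk hp
  have h3 := (h.sylow_dvd p h2).1
  have hK0 : 2 * Nat.card K ≠ 0 := mul_ne_zero two_ne_zero Nat.card_pos.ne'
  rw [h.card_eq, Nat.factorization_mul hK0 Subgroup.index_ne_zero_of_finite, Finsupp.add_apply,
    hp.pow_dvd_iff_le_factorization hK0] at h3
  have := hp.factorization_pos_of_dvd Subgroup.index_ne_zero_of_finite h1
  omega

theorem odd_index : Odd (cent t).index :=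
  Nat.coprime_two_right.1 (h.coprime_index.coprime_mul_right_right)

theorem mem_conjInto_of_prime {p : ℕ} (hp : p.Prime) (hd : p ∣ 2 * Nat.card K) {x : G}
    (hx : orderOf x = p) : x ∈ conjInto K := by
  have := Fact.mk hp
  rcases eq_or_ne p 2 with rfl | hp2
  · exact h.mem_conjInto_involution hx
  · exact (h.sylow_dvd p hd).2 hp2 x hx

theorem coprime_card_cent {y : G} (hy : y ∈ out K) :
    Nat.Coprime (Nat.card (cent y)) (2 * Nat.card K) := by
  refine Nat.coprime_of_dvd fun p hp h1 h2 => ?_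
  have := Fact.mk hp
  obtain ⟨x, hx⟩ := exists_prime_orderOf_dvd_card' p h1
  have hx' : orderOf (x : G) = p := by rwa [Subgroup.orderOf_coe]
  have hx1 : (x : G) ≠ 1 := fun e => by rw [e, orderOf_one] at hx'; exact hp.one_lt.ne hx'
  exact (h.mem_out_of_mem_cent hy x.2 hx1).2 (h.mem_conjInto_of_prime hp h2 hx')

theorem card_cent_dvd {y : G} (hy : y ∈ out K) : Nat.card (cent y) ∣ (cent t).index :=
  (h.coprime_card_cent hy).dvd_of_dvd_mul_left (h.card_eq ▸ Subgroup.card_subgroup_dvd_card _)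

theorem ncard_out : (out K).ncard + 1 = (cent t).index * (Nat.card K + 1) := by
  have e : out K = (conjInto K ∪ {1})ᶜ := by
    ext y
    simp [out]
  have h1 : (1 : G) ∉ conjInto K := fun h1 => h1.1 rfl
  have e2 : (conjInto K ∪ {1}).ncard = (cent t).index * (Nat.card K - 1) + 1 := by
    rw [Set.union_singleton, Set.ncard_insert_of_notMem h1, h.ncard_conjInto_K]
  have e3 := Set.ncard_add_ncard_compl (conjInto K ∪ {1})
  rw [← e, e2, h.card_eq] at e3
  obtain ⟨j, hj⟩ : ∃ j, Nat.card K = j + 1 :=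
    ⟨Nat.card K - 1, (Nat.sub_add_cancel Nat.card_pos).symm⟩
  rw [hj] at e3 ⊢
  rw [Nat.add_sub_cancel] at e3
  linarith

theorem inverts_cent {u y : G} (hu : orderOf u = 2) (hy : y ∈ out K)
    (hi : u * y * u⁻¹ = y⁻¹) :
    (∀ x ∈ cent y, u * x * u⁻¹ = x⁻¹) ∧ (∀ x ∈ cent y, ∀ z ∈ cent y, x * z = z * x) := by
  refine inverts_of_free (cent y) (Involution.mul_self hu) (fun x hx => ?_) fun x hx hc => ?_
  · have := conj_mem_cent (g := u) hx
    rw [hi] at this
    exact mem_cent.2 (Commute.inv_right_iff.1 (mem_cent.1 this)).eq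
  · by_contra hx1
    exact h.not_commute_involution hu (h.mem_out_of_mem_cent hy hx hx1) hc

theorem mul_mem_invols {u y c : G} (hu : u ∈ invols y) (hy : y ∈ out K) (hc : c ∈ cent y) :
    u * c ∈ invols y := by
  obtain ⟨hu2, hi⟩ := hu
  have hcu := (h.inverts_cent hu2 hy hi).1 c hc
  have e2 : (u * c) * (u * c) = 1 := by
    rw [Involution.inv_eq hu2] at hcu
    rw [show (u * c) * (u * c) = u * c * u * c by group, hcu, inv_mul_cancel]
  refine ⟨Involution.orderOf_of_sq e2 fun e => ?_, ?_⟩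
  · have : u ∈ cent y := eq_inv_of_mul_eq_one_left e ▸ (cent y).inv_mem hc
    exact h.not_commute_involution hu2 hy (mem_cent.1 this)
  · rw [show u * c * y * (u * c)⁻¹ = u * (c * y * c⁻¹) * u⁻¹ by group,
      conj_eq_iff.2 (mem_cent.1 hc), hi]

theorem ncard_invols {u y : G} (hu : u ∈ invols y) (hy : y ∈ out K) :
    (invols y).ncard = Nat.card (cent y) := by
  rw [← Nat.card_coe_set_eq]
  refine (Nat.card_congr (Equiv.ofBijective
    (fun c : cent y => (⟨u * c, h.mul_mem_invols hu hy c.2⟩ : invols y)) ⟨?_, ?_⟩)).symm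
  · intro a b e
    exact Subtype.ext (mul_left_cancel (congrArg Subtype.val e))
  · rintro ⟨v, hv⟩
    refine ⟨⟨u⁻¹ * v, mem_cent.2 (conj_eq_iff.1 ?_)⟩, Subtype.ext (by simp)⟩
    calc u⁻¹ * v * y * (u⁻¹ * v)⁻¹ = u⁻¹ * (v * y * v⁻¹) * u := by group
      _ = u⁻¹ * (u * y * u⁻¹) * u := by rw [hv.2, hu.2]
      _ = y := by group

theorem ncard_invols_eq (y : G) (hy : y ∈ out K) :
    (invols y).ncard = 0 ∨ (invols y).ncard = Nat.card (cent y) := by
  rcases (invols y).eq_empty_or_nonempty with e | ⟨u, hu⟩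
  · exact Or.inl (by simp [e])
  · exact Or.inr (h.ncard_invols hu hy)

theorem card_K_ge : 2 ≤ Nat.card K := Nat.le_of_dvd Nat.card_pos h.two_dvd_card

/-- The count of the elements inverted by `t`. -/
theorem ncard_invertedBy :
    (cent t).index + Nat.card K = Nat.card K * Nat.card K + 1 + (invertedBy K t).ncard := by
  classical
  -- involutions commuting with `t`, other than `t`
  set V : Set G := {v | v ∈ cent t ∧ v ∉ K} with hV
  have hVcard : V.ncard = Nat.card K := by
    have e : V = (fun k => k * s) '' (K : Set G) := by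
      ext v
      refine ⟨fun hv => ?_, ?_⟩
      · obtain ⟨k, hk, rfl⟩ := h.exists_eq_mul_s hv.1 hv.2
        exact ⟨k, hk, rfl⟩
      · rintro ⟨k, hk, rfl⟩
        exact ⟨h.mul_s_mem_cent hk, h.mul_s_not_mem hk⟩
    rw [e, Set.ncard_image_of_injective _ (mul_left_injective s), ← Nat.card_coe_set_eq]
    rfl
  set X : Set G := {x | x ∈ conjInto K ∧ x * x ≠ 1 ∧ t * x * t⁻¹ = x⁻¹} with hX
  have hXcard : X.ncard = Nat.card K * (Nat.card K - 2) := by
    have hrep : ∀ v : V, ∃ g : G, g * t * g⁻¹ = v := fun v =>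
      isConj_iff.1 (h.all_conj t v h.ht (h.orderOf_not_mem v.2.1 v.2.2))
    choose r hr using hrep
    have hK2 : ({x : G | x ∈ K ∧ x * x ≠ 1}).ncard = Nat.card K - 2 := by
      have e : {x : G | x ∈ K ∧ x * x ≠ 1} = (K : Set G) \ {1, t} := by
        ext x
        simp only [Set.mem_ofPred_eq, Set.mem_sdiff, SetLike.mem_coe, Set.mem_insert_iff,
          Set.mem_singleton_iff]
        refine and_congr_right fun hx => ⟨fun h2 e => ?_, fun h1 h2 => h1 (h.eq_of_sq hx h2)⟩
        rcases e with rfl | rfl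
        · exact h2 (one_mul _)
        · exact h2 h.tt
      rw [e, Set.ncard_sdiff (by simp [Set.insert_subset_iff, K.one_mem, h.t_mem]),
        Set.ncard_pair h.t_ne_one.symm, ← Nat.card_coe_set_eq]
      rfl
    rw [← hK2, ← hVcard, ← Nat.card_coe_set_eq, ← Nat.card_coe_set_eq, ← Nat.card_coe_set_eq,
      ← Nat.card_prod]
    have hmem : ∀ (v : V) (k : {x : G | x ∈ K ∧ x * x ≠ 1}), r v * k * (r v)⁻¹ ∈ X := by
      intro v k
      have hk1 : (k : G) ≠ 1 := fun e => k.2.2 (by simp [e])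
      refine ⟨conj_mem_conjInto (mem_conjInto_of_mem k.2.1 hk1) _, fun e => k.2.2 ?_, ?_⟩
      · refine (conj_eq_one_iff (a := r v)).1 (Eq.trans ?_ e)
        group
      · set w := (r v)⁻¹ * t * r v with hw
        have hvt : (v : G) * t = t * v := mem_cent.1 v.2.1
        have hwH : w ∈ cent t := by
          have := conj_mem_cent (g := (r v)⁻¹) (mem_cent.2 hvt.symm : t ∈ cent (v : G))
          rw [← hr v] at this
          simpa [hw, mul_assoc] using this
        have hwK : w ∉ K := fun hwK => v.2.2 <| by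
          have e : w = t := h.eq_t hwK (by
            rw [hw, show (r v)⁻¹ * t * r v = (r v)⁻¹ * t * (r v)⁻¹⁻¹ by simp,
              Involution.orderOf_conj, h.ht])
          have : r v * t * (r v)⁻¹ = t := by
            calc r v * t * (r v)⁻¹ = r v * w * (r v)⁻¹ := by rw [e]
              _ = t := by rw [hw]; group
          rw [← hr v, this]; exact h.t_mem
        have := h.inverts_not_mem hwH hwK k.2.1
        calc t * (r v * k * (r v)⁻¹) * t⁻¹ = r v * (w * k * w⁻¹) * (r v)⁻¹ := by rw [hw]; group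
          _ = (r v * k * (r v)⁻¹)⁻¹ := by rw [this]; group
    refine (Nat.card_congr (Equiv.ofBijective
      (fun p : V × {x : G | x ∈ K ∧ x * x ≠ 1} => (⟨_, hmem p.1 p.2⟩ : X)) ⟨?_, ?_⟩)).symm
    · rintro ⟨v, k⟩ ⟨v', k'⟩ e
      have e' : r v * k * (r v)⁻¹ = r v' * k' * (r v')⁻¹ := congrArg Subtype.val e
      have hk1 : (k : G) ≠ 1 := fun e => k.2.2 (by simp [e])
      have e2 : ((r v')⁻¹ * r v) * k * ((r v')⁻¹ * r v)⁻¹ = k' := by
        calc _ = (r v')⁻¹ * (r v * k * (r v)⁻¹) * r v' := by group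
          _ = k' := by rw [e']; group
      have hm := h.ti _ _ k.2.1 hk1 (by rw [e2]; exact k'.2.1)
      have hvv : v = v' := Subtype.ext <| by
        rw [← hr v, ← hr v']
        calc r v * t * (r v)⁻¹
            = r v' * (((r v')⁻¹ * r v) * t * ((r v')⁻¹ * r v)⁻¹) * (r v')⁻¹ := by group
          _ = r v' * t * (r v')⁻¹ := by rw [conj_eq_iff.2 (mem_cent.1 hm)]
      subst hvv
      exact Prod.ext rfl (Subtype.ext (mul_left_cancel (mul_right_cancel e')))
    · rintro ⟨x, hxK, hx2, hxt⟩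
      obtain ⟨g, a, ha, ha1, rfl⟩ := exists_eq_conj hxK
      have ha2 : a * a ≠ 1 := fun e => hx2 <| by
        rw [show g * a * g⁻¹ * (g * a * g⁻¹) = g * (a * a) * g⁻¹ by group, e]; group
      have hwa : (g⁻¹ * t * g) * a * (g⁻¹ * t * g)⁻¹ = a⁻¹ := by
        calc _ = g⁻¹ * (t * (g * a * g⁻¹) * t⁻¹) * g := by group
          _ = a⁻¹ := by rw [hxt]; group
      have hwH : g⁻¹ * t * g ∈ cent t := h.ti _ a ha ha1 (hwa ▸ K.inv_mem ha)
      have hwK : g⁻¹ * t * g ∉ K := fun hwK => by
        rw [conj_eq_iff.2 (h.comm _ hwK a ha)] at hwa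
        exact ha2 (mul_eq_one_iff_eq_inv.2 hwa)
      have hv : g * t * g⁻¹ ∈ V := by
        have hc := conj_mem_cent (g := g) (mem_cent.2 (mem_cent.1 hwH).symm : t ∈ cent (g⁻¹ * t * g))
        rw [show g * (g⁻¹ * t * g) * g⁻¹ = t by group] at hc
        refine ⟨hc, fun hK => hwK ?_⟩
        have e : g * t * g⁻¹ = t := h.eq_t hK (by rw [Involution.orderOf_conj, h.ht])
        have : g⁻¹ * t * g = t := by
          calc g⁻¹ * t * g = g⁻¹ * (g * t * g⁻¹) * g := by rw [e]
            _ = t := by group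
        rw [this]; exact h.t_mem
      have hm : (r ⟨_, hv⟩)⁻¹ * g ∈ cent t := by
        refine mem_cent.2 (conj_eq_iff.1 ?_)
        calc _ = (r ⟨_, hv⟩)⁻¹ * (g * t * g⁻¹) * r ⟨_, hv⟩ := by group
          _ = t := by
            have := hr ⟨_, hv⟩
            dsimp only at this
            generalize r ⟨_, hv⟩ = ρ at this ⊢
            rw [← this]; group
      refine ⟨(⟨_, hv⟩, ⟨((r ⟨_, hv⟩)⁻¹ * g) * a * ((r ⟨_, hv⟩)⁻¹ * g)⁻¹,
        h.conj_mem hm ha, fun e => ha2 ?_⟩), Subtype.ext ?_⟩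
      · refine (conj_eq_one_iff (a := (r ⟨_, hv⟩)⁻¹ * g)).1 (Eq.trans ?_ e)
        group
      · group
  set I : Set G := {x | t * x * t⁻¹ = x⁻¹} with hI
  have hIcard : I.ncard = (cent t).index + 1 := by
    have e : I = (fun u => t * u) '' (insert 1 {u : G | orderOf u = 2}) := by
      ext x
      simp only [hI, Set.mem_ofPred_eq, Set.mem_image, Set.mem_insert_iff]
      refine ⟨fun hx => ⟨t * x, ?_, by rw [← mul_assoc, h.tt, one_mul]⟩, ?_⟩
      · have e2 : t * x * (t * x) = 1 := by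
          rw [Involution.inv_eq h.ht] at hx
          rw [show t * x * (t * x) = t * x * t * x by group, hx, inv_mul_cancel]
        by_cases e1 : t * x = 1
        · exact Or.inl e1
        · exact Or.inr (Involution.orderOf_of_sq e2 e1)
      · rintro ⟨u, hu, rfl⟩
        have uu : u * u = 1 := by
          rcases hu with rfl | hu
          · simp
          · exact Involution.mul_self hu
        rw [Involution.inv_eq h.ht, show t * (t * u) * t = (t * t) * u * t by group, h.tt, one_mul,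
          mul_inv_rev, inv_eq_of_mul_eq_one_right uu, Involution.inv_eq h.ht]
    rw [e, Set.ncard_image_of_injective _ (mul_right_injective t),
      Set.ncard_insert_of_notMem (by simp), h.ncard_involutions]
  have hsplit : I = insert 1 (insert t V) ∪ (X ∪ invertedBy K t) := by
    ext x
    simp only [hI, hV, hX, invertedBy, Set.mem_ofPred_eq, Set.mem_union, Set.mem_insert_iff]
    refine ⟨fun hx => ?_, ?_⟩
    · by_cases hx2 : x * x = 1
      · left
        rw [inv_eq_of_mul_eq_one_right hx2, conj_eq_iff] at hx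
        by_cases hxK : x ∈ K
        · exact (h.eq_of_sq hxK hx2).imp_right Or.inl
        · exact Or.inr (Or.inr ⟨mem_cent.2 hx.symm, hxK⟩)
      · right
        by_cases hxc : x ∈ conjInto K
        · exact Or.inl ⟨hxc, hx2, hx⟩
        · exact Or.inr ⟨⟨fun e => hx2 (by simp [e]), hxc⟩, hx⟩
    · rintro ((rfl | rfl | ⟨hv, hvK⟩) | ⟨-, -, hx⟩ | ⟨-, hx⟩)
      · simp
      · rw [Involution.inv_eq h.ht, h.tt, one_mul]
      · rw [inv_eq_of_mul_eq_one_right (h.sq_of_not_mem hv hvK), conj_eq_iff]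
        exact (mem_cent.1 hv).symm
      · exact hx
      · exact hx
  have hd1 : Disjoint X (invertedBy K t) := by
    rw [Set.disjoint_left]
    exact fun x hx hx' => hx'.1.2 hx.1
  have hd2 : Disjoint (insert 1 (insert t V)) (X ∪ invertedBy K t) := by
    rw [Set.disjoint_left]
    intro x hx hx'
    have hx2 : x * x = 1 := by
      rcases hx with rfl | rfl | hv
      · simp
      · exact h.tt
      · exact h.sq_of_not_mem hv.1 hv.2
    rcases hx' with hx' | hx'
    · exact hx'.2.1 hx2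
    · exact h.orderOf_ne_two hx'.1 (Involution.orderOf_of_sq hx2 hx'.1.1)
  rw [hsplit, Set.ncard_union_eq hd2, Set.ncard_union_eq hd1, hXcard,
    Set.ncard_insert_of_notMem (by
      simp only [Set.mem_insert_iff, not_or]
      exact ⟨h.t_ne_one.symm, fun e => e.2 K.one_mem⟩),
    Set.ncard_insert_of_notMem (fun e => e.2 h.t_mem), hVcard] at hIcard
  obtain ⟨j, hj⟩ : ∃ j, Nat.card K = j + 2 :=
    ⟨Nat.card K - 2, (Nat.sub_add_cancel h.card_K_ge).symm⟩
  rw [hj] at hIcard ⊢
  rw [Nat.add_sub_cancel] at hIcard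
  linarith

theorem dvd_ncard_invertedBy : 2 * Nat.card K ∣ (invertedBy K t).ncard := by
  have hmem : ∀ (c : cent t) (x : invertedBy K t),
      (c : G) * x * (c : G)⁻¹ ∈ invertedBy K t := by
    intro c x
    refine ⟨h.conj_mem_out x.2.1 _, ?_⟩
    have hc := (mem_cent.1 c.2)
    calc t * ((c : G) * x * (c : G)⁻¹) * t⁻¹ = (t * c) * x * (t * c)⁻¹ := by group
      _ = (c : G) * (t * x * t⁻¹) * (c : G)⁻¹ := by rw [← hc]; group
      _ = _ := by rw [x.2.2]; group
  let act : MulAction (cent t) (invertedBy K t) :=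
    { smul := fun c x => ⟨(c : G) * x * (c : G)⁻¹, hmem c x⟩
      one_smul := fun x => Subtype.ext (show (1 : G) * x * (1 : G)⁻¹ = x by simp)
      mul_smul := fun a b x => Subtype.ext (show ((a : G) * b) * x * ((a : G) * b)⁻¹ =
        (a : G) * ((b : G) * x * (b : G)⁻¹) * (a : G)⁻¹ by group) }
  have hstab : ∀ x : invertedBy K t, MulAction.stabilizer (cent t) x = ⊥ := by
    intro x
    refine (Subgroup.eq_bot_iff_forall _).2 fun c hc => Subtype.ext ?_
    have e : (c : G) * x * (c : G)⁻¹ = x := congrArg Subtype.val hc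
    by_contra hc1
    refine x.2.1.2 ?_
    refine h.mem_conjInto_of_commute (x := (c : G)) ?_ (conj_eq_iff.1 e).symm x.2.1.1
    by_cases hK : (c : G) ∈ K
    · exact mem_conjInto_of_mem hK hc1
    · exact h.mem_conjInto_involution (h.orderOf_not_mem c.2 hK)
  rw [← Nat.card_coe_set_eq, Nat.card_congr (MulAction.selfEquivOrbitsQuotientProd hstab),
    Nat.card_prod, h.card_cent_t]
  exact dvd_mul_left _ _

end finite

theorem sum_ncard_invols [Fintype G] [DecidablePred (· ∈ out K)] :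
    ∑ y ∈ Finset.univ.filter (· ∈ out K), (invols y).ncard =
      (cent t).index * (invertedBy K t).ncard := by
  classical
  have e1 : ∀ y : G, (invols y).ncard = ((Finset.univ.filter fun u : G => orderOf u = 2).filter
      fun u => u * y * u⁻¹ = y⁻¹).card := by
    intro y
    rw [← Set.ncard_coe_finset]
    congr 1
    ext u; simp [invols]
  have e2 : ∀ u : G, orderOf u = 2 → ((Finset.univ.filter (· ∈ out K)).filter
      fun y => u * y * u⁻¹ = y⁻¹).card = (invertedBy K t).ncard := by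
    intro u hu
    obtain ⟨c, rfl⟩ := isConj_iff.1 (h.all_conj t u h.ht hu)
    rw [← Set.ncard_coe_finset, ← Set.ncard_image_of_injective (invertedBy K t)
      (f := fun x => c * x * c⁻¹) (fun a b e => mul_left_cancel (mul_right_cancel e))]
    congr 1
    ext y
    simp only [Finset.coe_filter, Finset.mem_filter, Finset.mem_univ, true_and, Set.mem_ofPred_eq,
      Set.mem_image, invertedBy]
    refine ⟨fun hy => ⟨c⁻¹ * y * c, ⟨by simpa using h.conj_mem_out hy.1 c⁻¹, ?_⟩, by group⟩, ?_⟩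
    · calc t * (c⁻¹ * y * c) * t⁻¹ = c⁻¹ * ((c * t * c⁻¹) * y * (c * t * c⁻¹)⁻¹) * c := by group
        _ = (c⁻¹ * y * c)⁻¹ := by rw [hy.2]; group
    · rintro ⟨x, ⟨hx, hxt⟩, rfl⟩
      refine ⟨h.conj_mem_out hx c, ?_⟩
      calc c * t * c⁻¹ * (c * x * c⁻¹) * (c * t * c⁻¹)⁻¹ = c * (t * x * t⁻¹) * c⁻¹ := by group
        _ = (c * x * c⁻¹)⁻¹ := by rw [hxt]; group
  simp only [e1, Finset.card_filter]
  rw [Finset.sum_comm]
  simp only [← Finset.card_filter]
  rw [Finset.sum_congr rfl (fun u hu => e2 u (Finset.mem_filter.1 hu).2), Finset.sum_const,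
    smul_eq_mul]
  congr 1
  rw [← h.ncard_involutions, ← Set.ncard_coe_finset]
  congr 1
  ext u; simp

end Hyp

end Cfsg.Agent.BSW
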