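/-
Linear characters of an abelian subgroup and a combinatorial lemma on integral vectors
for the theorem of Brauer, Suzuki and Wall.

* `lin`, `classInner_lin`, `eq_zero_of_const_classInner`
* `exists_omega`, `card_dual`
* `combi`
-/
import Cfsg.Agent.Lib.Char.Linear

set_option autoImplicit false

namespace Cfsg.Agent.BSW

open Cfsg Cfsg.Agent
open scoped ComplexConjugate

section dual

variable {A : Type*} [Group A]

/-- The function underlying a linear character. -/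
def lin (φ : A →* ℂˣ) : A → ℂ := fun x => ((φ x : ℂˣ) : ℂ)

theorem lin_apply_one (φ : A →* ℂˣ) : lin φ 1 = 1 := by simp [lin]

theorem lin_one : lin (1 : A →* ℂˣ) = 1 := by funext x; simp [lin]

theorem isIrr_lin (φ : A →* ℂˣ) : IsIrrCharacter A (lin φ) :=
  Char.isIrrCharacter_of_hom ((Units.coeHom ℂ).comp φ)

theorem lin_injective : Function.Injective (lin : (A →* ℂˣ) → A → ℂ) := fun _ _ h =>
  MonoidHom.ext fun x => Units.ext (congrFun h x)

theorem lin_inv_apply (φ : A →* ℂˣ) (x : A) : lin φ⁻¹ x = lin φ x⁻¹ := by simp [lin]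

open Classical in
theorem classInner_lin [Fintype A] (φ ψ : A →* ℂˣ) :
    classInner (lin φ) (lin ψ) = if φ = ψ then 1 else 0 := by
  rw [Char.classInner_irr (isIrr_lin φ) (isIrr_lin ψ)]
  exact if_congr lin_injective.eq_iff rfl rfl

theorem eq_zero_of_const_classInner [Fintype A] (hA : ∀ x y : A, x * y = y * x) {f : A → ℂ}
    {z : ℂ} (hz : ∀ φ : A →* ℂˣ, classInner (lin φ) f = z) :
    (∀ x, x ≠ 1 → f x = 0) ∧ f 1 = (Nat.card A : ℂ) * conj z := by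
  classical
  have := Fintype.ofFinite (IrrCharacter A)
  have hf : IsClassFunction A f := fun g x => by rw [hA x g, mul_inv_cancel_right]
  have hc : ∀ χ : IrrCharacter A, classInner f (χ : A → ℂ) = conj z := by
    intro χ
    obtain ⟨φ, hφ⟩ := (Char.linearCharEquiv A).surjective ⟨χ, Char.apply_one_eq_one_of_comm hA χ⟩
    have e : lin φ = (χ : A → ℂ) :=
      congrArg (fun x : {χ : IrrCharacter A // (χ : A → ℂ) 1 = 1} => (x.1 : A → ℂ)) hφ
    rw [← Char.classInner_conj_symm, ← e, hz φ]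
  have hexp := Char.classFunction_eq_sum hf
  have hsum : ∀ x : A, f x = conj z * (if x = 1 then (Nat.card A : ℂ) else 0) := by
    intro x
    rw [← Char.sum_degree_mul_apply x, Finset.mul_sum]
    conv_lhs => rw [hexp]
    rw [Finset.sum_apply]
    refine Finset.sum_congr rfl fun χ _ => ?_
    rw [Pi.smul_apply, hc χ, Char.apply_one_eq_one_of_comm hA χ, one_mul, smul_eq_mul]
  exact ⟨fun x hx => by rw [hsum x, if_neg hx, mul_zero],
    by rw [hsum 1, if_pos rfl, mul_comm]⟩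

end dual

section count

variable {G : Type*} [Group G] [Finite G] (K : Subgroup G) (hK : ∀ x ∈ K, ∀ y ∈ K, x * y = y * x)
include hK

theorem card_dual : Nat.card (K →* ℂˣ) = Nat.card K := by
  let _ : CommGroup K :=
    { (inferInstance : Group K) with mul_comm := fun a b => Subtype.ext (hK a a.2 b b.2) }
  have : NeZero (Monoid.exponent K) := ⟨Monoid.exponent_ne_zero_of_finite⟩
  obtain ⟨e⟩ := CommGroup.monoidHom_mulEquiv_of_hasEnoughRootsOfUnity K ℂ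
  exact Nat.card_congr e.toEquiv

theorem exists_omega {t : G} (htK : t ∈ K) (ht : t ≠ 1) (htt : t * t = 1)
    (hsq : ∀ x ∈ K, x * x = 1 → x = 1 ∨ x = t) :
    ∃ ω : K →* ℂˣ, ω ≠ 1 ∧ ω * ω = 1 ∧ ∀ φ : K →* ℂˣ, φ * φ = 1 → φ = 1 ∨ φ = ω := by
  let _ : CommGroup K :=
    { (inferInstance : Group K) with mul_comm := fun a b => Subtype.ext (hK a a.2 b b.2) }
  have : NeZero (Monoid.exponent K) := ⟨Monoid.exponent_ne_zero_of_finite⟩
  obtain ⟨e⟩ := CommGroup.monoidHom_mulEquiv_of_hasEnoughRootsOfUnity K ℂ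
  refine ⟨e.symm ⟨t, htK⟩, fun h1 => ht ?_, ?_, fun φ hφ => ?_⟩
  · have := congrArg e h1
    rw [MulEquiv.apply_symm_apply, map_one] at this
    exact congrArg Subtype.val this
  · rw [← map_mul, show (⟨t, htK⟩ : K) * ⟨t, htK⟩ = 1 from Subtype.ext htt, map_one]
  · have h2 : e φ * e φ = 1 := by rw [← map_mul, hφ, map_one]
    rcases hsq _ (e φ).2 (congrArg Subtype.val h2) with h3 | h3
    · exact Or.inl (e.injective (by rw [map_one]; exact Subtype.ext h3))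
    · exact Or.inr (e.injective (by rw [MulEquiv.apply_symm_apply]; exact Subtype.ext h3))

end count

section combinatorics

set_option linter.unusedSectionVars false

variable {ι : Type*} [Fintype ι] [DecidableEq ι]

theorem entry_le_one {w : ι → ℤ} (h : ∑ c, w c * w c ≤ 3) (c : ι) :
    -1 ≤ w c ∧ w c ≤ 1 := by
  have h1 := Finset.single_le_sum (f := fun c => w c * w c) (fun c _ => mul_self_nonneg (w c))
    (Finset.mem_univ c)
  constructor <;> nlinarith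

theorem sum_split {w w' : ι → ℤ} {a b : ι} (hab : a ≠ b) :
    ∑ c, w c * w' c = w a * w' a + w b * w' b + ∑ c ∈ (Finset.univ.erase a).erase b, w c * w' c := by
  rw [← Finset.add_sum_erase _ _ (Finset.mem_univ a),
    ← Finset.add_sum_erase _ _ (Finset.mem_erase.2 ⟨hab.symm, Finset.mem_univ b⟩), add_assoc]

/-- A vector of square length one on a set. -/
theorem exists_single {w : ι → ℤ} (s : Finset ι) (h : ∑ c ∈ s, w c * w c = 1) :
    ∃ c ∈ s, w c * w c = 1 ∧ ∀ d ∈ s, d ≠ c → w d = 0 := by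
  obtain ⟨c, hc, hc0⟩ : ∃ c ∈ s, w c ≠ 0 := by
    by_contra hne
    push Not at hne
    rw [Finset.sum_eq_zero fun c hc => by rw [hne c hc, mul_zero]] at h
    exact zero_ne_one h
  have h1 := Finset.add_sum_erase s (fun c => w c * w c) hc
  have h2 : 0 ≤ ∑ d ∈ s.erase c, w d * w d := Finset.sum_nonneg fun d _ => mul_self_nonneg _
  have h3 : 0 < w c * w c := mul_self_pos.2 hc0
  refine ⟨c, hc, by linarith, fun d hd hdc => ?_⟩
  have h4 := Finset.single_le_sum (f := fun d => w d * w d) (fun d _ => mul_self_nonneg (w d))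
    (Finset.mem_erase.2 ⟨hdc, hd⟩)
  exact mul_self_eq_zero.1 (le_antisymm (by linarith) (mul_self_nonneg _))

theorem exists_supp_two {w : ι → ℤ} (h : ∑ c, w c * w c = 2) :
    ∃ a b : ι, a ≠ b ∧ w a * w a = 1 ∧ w b * w b = 1 ∧ ∀ c, c ≠ a → c ≠ b → w c = 0 := by
  obtain ⟨a, ha⟩ : ∃ a, w a ≠ 0 := by
    by_contra hne
    push Not at hne
    simp [hne] at h
  obtain ⟨l1, l2⟩ := entry_le_one (w := w) (by omega) a
  have ha1 : w a * w a = 1 := by
    rcases (show w a = 1 ∨ w a = -1 by omega) with e | e <;> simp [e]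
  rw [← Finset.add_sum_erase _ _ (Finset.mem_univ a)] at h
  obtain ⟨b, hb, hb1, hb0⟩ := exists_single (w := w) (Finset.univ.erase a) (by omega)
  exact ⟨a, b, (Finset.ne_of_mem_erase hb).symm, ha1, hb1, fun c hca hcb =>
    hb0 c (Finset.mem_erase.2 ⟨hca, Finset.mem_univ c⟩) hcb⟩

theorem dot_of_supp {w w' : ι → ℤ} {a b : ι} (hab : a ≠ b)
    (hw : ∀ c, c ≠ a → c ≠ b → w c = 0) : ∑ c, w c * w' c = w a * w' a + w b * w' b := by
  rw [sum_split hab, Finset.sum_eq_zero, add_zero]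
  intro c hc
  simp only [Finset.mem_erase] at hc
  rw [hw c hc.2.1 hc.1, zero_mul]

theorem mul_eq_one_cases {σ x : ℤ} (h : σ * x = 1) : x = σ ∧ (σ = 1 ∨ σ = -1) := by
  rcases Int.eq_one_or_neg_one_of_mul_eq_one h with e | e
  · subst e; exact ⟨by linarith, Or.inl rfl⟩
  · subst e; exact ⟨by linarith, Or.inr rfl⟩

variable {D : Type*} [CommGroup D] [Finite D] [DecidableEq D]

/-- The integral vectors attached to the non-trivial elements of the dual. -/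
theorem combi (v : D → ι → ℤ) (ω : D) (hω : ω ≠ 1) (hω2 : ω * ω = 1)
    (huniq : ∀ φ : D, φ * φ = 1 → φ = 1 ∨ φ = ω) (hcard : 4 ≤ Nat.card D)
    (hdot : ∀ φ ψ : D, φ ≠ 1 → ψ ≠ 1 →
      ∑ c, v φ c * v ψ c = 1 + (if φ = ψ then 1 else 0) + (if φ = ψ⁻¹ then 1 else 0)) :
    ∃ (i : ι) (σ : ℤ), (σ = 1 ∨ σ = -1) ∧
      ((∀ φ : D, φ ≠ 1 → σ * v φ i = 1) ∨
        (6 ≤ Nat.card D ∧ Nat.card D ≤ 8 ∧ σ * v ω i = 0 ∧
          (∀ φ : D, φ ≠ 1 → φ ≠ ω → σ * v φ i = 1) ∧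
          ∃ φ ψ : D, φ * φ ≠ 1 ∧ ψ * ψ ≠ 1 ∧ φ ≠ ψ ∧ φ ≠ ψ⁻¹)) := by
  have := Fintype.ofFinite D
  have hωi : ω⁻¹ = ω := inv_eq_of_mul_eq_one_right hω2
  have hnon : ∀ φ : D, φ ≠ 1 → φ ≠ ω → φ * φ ≠ 1 := fun φ h1 h2 e =>
    (huniq φ e).elim h1 h2
  have hne : ∀ φ : D, φ * φ ≠ 1 → φ ≠ 1 ∧ φ ≠ ω ∧ φ ≠ φ⁻¹ := fun φ h =>
    ⟨fun e => h (by simp [e]), fun e => h (by rw [e, hω2]),
      fun e => h (mul_eq_one_iff_eq_inv.2 e)⟩
  have hnorm : ∀ φ : D, φ * φ ≠ 1 → ∑ c, v φ c * v φ c = 2 := fun φ h => by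
    obtain ⟨h1, -, h3⟩ := hne φ h
    rw [hdot φ φ h1 h1, if_pos rfl, if_neg h3]; norm_num
  have hnormω : ∑ c, v ω c * v ω c = 3 := by
    rw [hdot ω ω hω hω, if_pos rfl, hωi, if_pos rfl]; norm_num
  obtain ⟨φ0, hφ0⟩ : ∃ φ : D, φ * φ ≠ 1 := by
    by_contra hall
    push Not at hall
    have hsub : (Finset.univ : Finset D) ⊆ {1, ω} := fun φ _ => by simpa using huniq φ (hall φ)
    have := (Finset.card_le_card hsub).trans Finset.card_le_two
    rw [Finset.card_univ, ← Nat.card_eq_fintype_card] at this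
    omega
  obtain ⟨a, b, hab, ha, hb, hsupp⟩ := exists_supp_two (hnorm φ0 hφ0)
  obtain ⟨h01, h0ω, h0i⟩ := hne φ0 hφ0
  have hprod : ∀ ψ : D, ψ ≠ 1 → ψ ≠ φ0 → ψ ≠ φ0⁻¹ →
      v φ0 a * v ψ a + v φ0 b * v ψ b = 1 := by
    intro ψ hψ h1 h2
    rw [← dot_of_supp hab hsupp, hdot φ0 ψ h01 hψ, if_neg (Ne.symm h1),
      if_neg (fun e => h2 (by rw [e, inv_inv])), add_zero, add_zero]
  have hle3 : ∀ ψ : D, ψ ≠ 1 → ∑ c, v ψ c * v ψ c ≤ 3 := fun ψ hψ => by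
    rw [hdot ψ ψ hψ hψ]; split_ifs <;> norm_num
  have key : ∀ α β : ι, α ≠ β → v φ0 α * v φ0 α = 1 → v φ0 β * v φ0 β = 1 →
      (∀ c, c ≠ α → c ≠ β → v φ0 c = 0) → v φ0 α * v ω α = 1 →
      (∀ ψ : D, ψ ≠ 1 → ψ ≠ φ0 → ψ ≠ φ0⁻¹ →
        (v φ0 α * v ψ α = 1 ∧ v ψ β = 0) ∨ (v φ0 β * v ψ β = 1 ∧ v ψ α = 0)) →
      ∃ (i : ι) (σ : ℤ), (σ = 1 ∨ σ = -1) ∧
        ((∀ φ : D, φ ≠ 1 → σ * v φ i = 1) ∨
          (6 ≤ Nat.card D ∧ Nat.card D ≤ 8 ∧ σ * v ω i = 0 ∧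
            (∀ φ : D, φ ≠ 1 → φ ≠ ω → σ * v φ i = 1) ∧
            ∃ φ ψ : D, φ * φ ≠ 1 ∧ ψ * ψ ≠ 1 ∧ φ ≠ ψ ∧ φ ≠ ψ⁻¹)) := by
    intro α β hαβ hα hβ hs hωα htype
    have hinv0 : v φ0⁻¹ = v φ0 := by
      have h1 : φ0⁻¹ ≠ 1 := inv_ne_one.2 h01
      have e1 := hdot φ0⁻¹ φ0⁻¹ h1 h1
      rw [if_pos rfl, inv_inv, if_neg h0i.symm] at e1
      have e2 := hdot φ0 φ0⁻¹ h01 h1
      rw [if_neg h0i, inv_inv, if_pos rfl] at e2
      have e3 := hnorm φ0 hφ0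
      have e4 : ∑ c, (v φ0⁻¹ c - v φ0 c) * (v φ0⁻¹ c - v φ0 c) = 0 := by
        rw [Finset.sum_congr rfl fun c _ => show (v φ0⁻¹ c - v φ0 c) * (v φ0⁻¹ c - v φ0 c) =
          v φ0⁻¹ c * v φ0⁻¹ c + v φ0 c * v φ0 c - 2 * (v φ0 c * v φ0⁻¹ c) by ring,
          Finset.sum_sub_distrib, Finset.sum_add_distrib, ← Finset.mul_sum, e1, e2, e3]
        norm_num
      funext c
      have := (Finset.sum_eq_zero_iff_of_nonneg (fun c _ => mul_self_nonneg _)).1 e4 c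
        (Finset.mem_univ c)
      linarith [mul_self_eq_zero.1 this]
    by_cases hall : ∀ ψ : D, ψ ≠ 1 → ψ ≠ φ0 → ψ ≠ φ0⁻¹ → v φ0 α * v ψ α = 1
    · refine ⟨α, v φ0 α, (Int.eq_one_or_neg_one_of_mul_eq_one hα), Or.inl fun φ hφ => ?_⟩
      by_cases e1 : φ = φ0
      · rw [e1]; exact hα
      by_cases e2 : φ = φ0⁻¹
      · rw [e2, hinv0]; exact hα
      exact hall φ hφ e1 e2
    push Not at hall
    obtain ⟨ψ1, hψ1, hn1, hn1', hψ1a⟩ := hall
    obtain ⟨hψ1b, hψ1α⟩ := (htype ψ1 hψ1 hn1 hn1').resolve_left (fun e => hψ1a e.1)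
    have hψ1ω : ψ1 ≠ ω := fun e => hψ1a (by rw [e]; exact hωα)
    have hψ1r := hnon ψ1 hψ1 hψ1ω
    have hωi' : ω ≠ φ0⁻¹ := fun e => h0ω (by rw [← hωi, e, inv_inv])
    have hωβ : v ω β = 0 := by
      rcases htype ω hω h0ω.symm hωi' with e | e
      · exact e.2
      · rw [e.2, mul_zero] at hωα; exact absurd hωα zero_ne_one
    have hψ1β : v ψ1 β * v ψ1 β = 1 := by
      obtain ⟨e, hc⟩ := mul_eq_one_cases hψ1b
      rw [e]; exact hβ
    -- the second position of ψ1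
    obtain ⟨γ, hγ, hγ1, hγ0⟩ : ∃ γ, (γ ≠ α ∧ γ ≠ β) ∧ v ψ1 γ * v ψ1 γ = 1 ∧
        ∀ c, c ≠ γ → c ≠ β → v ψ1 c = 0 := by
      have h2 := hnorm ψ1 hψ1r
      rw [sum_split hαβ, hψ1α, hψ1β] at h2
      obtain ⟨γ, hγ, hγ1, hγ0⟩ := exists_single (w := v ψ1)
        ((Finset.univ.erase α).erase β) (by omega)
      simp only [Finset.mem_erase, Finset.mem_univ, and_true] at hγ hγ0
      refine ⟨γ, ⟨hγ.2, hγ.1⟩, hγ1, fun c hc hcβ => ?_⟩
      by_cases hcα : c = α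
      · rw [hcα, hψ1α]
      · exact hγ0 c ⟨hcβ, hcα⟩ hc
    have hdot1 : ∀ ψ : D, ψ ≠ 1 → ψ ≠ ψ1 → ψ ≠ ψ1⁻¹ →
        v ψ1 γ * v ψ γ + v ψ1 β * v ψ β = 1 := by
      intro ψ hψ e1 e2
      rw [← dot_of_supp hγ.2 hγ0, hdot ψ1 ψ hψ1 hψ, if_neg (Ne.symm e1),
        if_neg (fun e => e2 (by rw [e, inv_inv])), add_zero, add_zero]
    have hωψ : ω ≠ ψ1⁻¹ := fun e => hψ1ω (by rw [← hωi, e, inv_inv])
    have hωγ : v ψ1 γ * v ω γ = 1 := by
      have := hdot1 ω hω hψ1ω.symm hωψ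
      rwa [hωβ, mul_zero, add_zero] at this
    have hωγ2 : v ω γ * v ω γ = 1 := by
      obtain ⟨e, hc⟩ := mul_eq_one_cases hωγ
      rw [e]; exact hγ1
    have hωα2 : v ω α * v ω α = 1 := by
      obtain ⟨e, hc⟩ := mul_eq_one_cases hωα
      rw [e]; exact hα
    -- the third position of ω
    obtain ⟨δ, hδ1, hδ0⟩ : ∃ δ, v ω δ * v ω δ = 1 ∧ ∀ c, c ≠ α → c ≠ γ → c ≠ δ → v ω c = 0 := by
      have h3 := hnormω
      rw [sum_split hγ.1.symm, hωα2, hωγ2] at h3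
      obtain ⟨δ, -, hδ1, hδ0⟩ := exists_single (w := v ω)
        ((Finset.univ.erase α).erase γ) (by omega)
      simp only [Finset.mem_erase, Finset.mem_univ, and_true] at hδ0
      exact ⟨δ, hδ1, fun c h1 h2 h3 => hδ0 c ⟨h2, h1⟩ h3⟩
    have hother : ∀ ψ : D, ψ * ψ ≠ 1 → ψ ≠ φ0 → ψ ≠ φ0⁻¹ → ψ ≠ ψ1 → ψ ≠ ψ1⁻¹ →
        v φ0 β * v ψ β = 1 ∧ v ψ δ = v ω δ ∧ δ ≠ β ∧ ∀ c, c ≠ β → c ≠ δ → v ψ c = 0 := by
      intro ψ hψr e1 e2 e3 e4
      obtain ⟨hψ, hψω, -⟩ := hne ψ hψr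
      have hψωi : ψ ≠ ω⁻¹ := by rwa [hωi]
      rcases htype ψ hψ e1 e2 with ⟨hA, hA0⟩ | ⟨hB, hB0⟩
      · exfalso
        have h1 := hdot1 ψ hψ e3 e4
        rw [hA0, mul_zero, add_zero] at h1
        obtain ⟨eg, -⟩ := mul_eq_one_cases h1
        obtain ⟨ea, -⟩ := mul_eq_one_cases hA
        have h2 := hnorm ψ hψr
        rw [sum_split hγ.1.symm, eg, ea, hγ1, hα] at h2
        have hz : ∀ c, c ≠ α → c ≠ γ → v ψ c = 0 := by
          intro c hcα hcγ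
          have h4 := Finset.single_le_sum (f := fun c => v ψ c * v ψ c)
            (s := (Finset.univ.erase α).erase γ) (fun c _ => mul_self_nonneg (v ψ c))
            (Finset.mem_erase.2 ⟨hcγ, Finset.mem_erase.2 ⟨hcα, Finset.mem_univ c⟩⟩)
          exact mul_self_eq_zero.1 (le_antisymm (by linarith) (mul_self_nonneg _))
        have h3 := hdot ψ ω hψ hω
        rw [if_neg hψω, if_neg hψωi, dot_of_supp hγ.1.symm hz, eg, ea, hωα, hωγ] at h3
        norm_num at h3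
      · obtain ⟨eb, -⟩ := mul_eq_one_cases hB
        have hψβ2 : v ψ β * v ψ β = 1 := by rw [eb]; exact hβ
        obtain ⟨c0, d0, hcd, hc1, hd1, hsup⟩ := exists_supp_two (hnorm ψ hψr)
        obtain ⟨c, hcβ, hc1, hcs⟩ : ∃ c, c ≠ β ∧ v ψ c * v ψ c = 1 ∧
            ∀ x, x ≠ β → x ≠ c → v ψ x = 0 := by
          have hmem : β = c0 ∨ β = d0 := by
            by_contra hn
            push Not at hn
            rw [hsup β hn.1 hn.2] at hψβ2
            norm_num at hψβ2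
          rcases hmem with rfl | rfl
          · exact ⟨d0, hcd.symm, hd1, fun x h1 h2 => hsup x h1 h2⟩
          · exact ⟨c0, hcd, hc1, fun x h1 h2 => hsup x h2 h1⟩
        have h3 := hdot ψ ω hψ hω
        rw [if_neg hψω, if_neg hψωi, dot_of_supp hcβ.symm hcs, hωβ, mul_zero, zero_add] at h3
        obtain ⟨ecω, -⟩ := mul_eq_one_cases (show v ψ c * v ω c = 1 by linarith)
        have hcα : c ≠ α := fun e => by rw [e, hB0] at hc1; norm_num at hc1
        have hcγ : c ≠ γ := by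
          intro e
          have h1 := hdot1 ψ hψ e3 e4
          have h2 : v ψ1 β * v ψ β = 1 := by
            rw [eb, (mul_eq_one_cases hψ1b).1]; exact hβ
          rw [h2] at h1
          have h5 : v ψ1 γ * v ψ γ = 0 := by linarith
          rcases mul_eq_zero.1 h5 with h6 | h6
          · rw [h6] at hγ1; norm_num at hγ1
          · rw [e, h6] at hc1; norm_num at hc1
        have hcδ : c = δ := by
          by_contra hn
          have h0 := hδ0 c hcα hcγ hn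
          rw [ecω] at h0
          rw [h0] at hc1
          norm_num at hc1
        subst hcδ
        exact ⟨hB, ecω.symm, hcβ, hcs⟩
    have hφψ : φ0 ≠ ψ1⁻¹ := fun e => hn1' (by rw [e, inv_inv])
    have hpair : ∀ ψ ψ' : D, ψ * ψ ≠ 1 → ψ ≠ φ0 → ψ ≠ φ0⁻¹ → ψ ≠ ψ1 → ψ ≠ ψ1⁻¹ →
        ψ' * ψ' ≠ 1 → ψ' ≠ φ0 → ψ' ≠ φ0⁻¹ → ψ' ≠ ψ1 → ψ' ≠ ψ1⁻¹ → ψ' = ψ ∨ ψ' = ψ⁻¹ := by
      intro ψ ψ' a0 a1 a2 a3 a4 b0 b1 b2 b3 b4
      obtain ⟨p1, p2, p3, p4⟩ := hother ψ a0 a1 a2 a3 a4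
      obtain ⟨q1, q2, -, -⟩ := hother ψ' b0 b1 b2 b3 b4
      by_contra hn
      push Not at hn
      have h1 := hdot ψ ψ' (hne ψ a0).1 (hne ψ' b0).1
      rw [if_neg hn.1.symm, if_neg (fun e => hn.2 (by rw [e, inv_inv])),
        dot_of_supp p3.symm p4, p2, q2, (mul_eq_one_cases p1).1, (mul_eq_one_cases q1).1, hβ,
        hδ1] at h1
      norm_num at h1
    refine ⟨β, v φ0 β, Int.eq_one_or_neg_one_of_mul_eq_one hβ, Or.inr ⟨?_, ?_, ?_, ?_, ?_⟩⟩
    · -- six distinct elements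
      have hi : ∀ φ : D, φ * φ ≠ 1 → φ⁻¹ ≠ 1 ∧ φ⁻¹ ≠ ω := fun φ hφ =>
        ⟨inv_ne_one.2 (hne φ hφ).1, fun e => (hne φ hφ).2.1 (by rw [← inv_inv φ, e, hωi])⟩
      have hcard6 : ({1, ω, φ0, φ0⁻¹, ψ1, ψ1⁻¹} : Finset D).card = 6 := by
        have := hne ψ1 hψ1r
        rw [Finset.card_insert_of_notMem, Finset.card_insert_of_notMem,
          Finset.card_insert_of_notMem, Finset.card_insert_of_notMem,
          Finset.card_insert_of_notMem, Finset.card_singleton]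
        · simp [this.2.2]
        · simp [hn1'.symm, hn1.symm]
        · simp [h0i, hn1.symm, hφψ]
        · simp [h0ω.symm, hωi', hψ1ω.symm, hωψ]
        · simp [hω.symm, h01.symm, hψ1.symm, (hi φ0 hφ0).1.symm, (hi ψ1 hψ1r).1.symm]
      rw [Nat.card_eq_fintype_card, ← hcard6]
      exact Finset.card_le_univ _
    · by_contra h8
      push Not at h8
      rw [Nat.card_eq_fintype_card, ← Finset.card_univ] at h8
      set S : Finset D := {1, ω, φ0, φ0⁻¹, ψ1, ψ1⁻¹} with hS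
      have hS6 : S.card ≤ 6 := Finset.card_le_six
      obtain ⟨ψ, -, hψ⟩ := Finset.exists_mem_notMem_of_card_lt_card (by omega : S.card < Finset.univ.card)
      have hins := Finset.card_insert_le ψ⁻¹ (insert ψ S)
      have hins' := Finset.card_insert_le ψ S
      obtain ⟨ψ', -, hψ'⟩ := Finset.exists_mem_notMem_of_card_lt_card
        (by omega : (insert ψ⁻¹ (insert ψ S)).card < Finset.univ.card)
      simp only [hS, Finset.mem_insert, Finset.mem_singleton, not_or] at hψ hψ'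
      obtain ⟨a1, a2, a3, a4, a5, a6⟩ := hψ
      obtain ⟨c1, c2, b1, b2, b3, b4, b5, b6⟩ := hψ'
      exact (hpair ψ ψ' (hnon ψ a1 a2) a3 a4 a5 a6 (hnon ψ' b1 b2) b3 b4 b5 b6).elim c2 c1
    · rw [hωβ, mul_zero]
    · intro φ hφ1 hφω
      by_cases e1 : φ = φ0
      · rw [e1]; exact hβ
      by_cases e2 : φ = φ0⁻¹
      · rw [e2, hinv0]; exact hβ
      rcases htype φ hφ1 e1 e2 with ⟨hA, hA0⟩ | ⟨hB, -⟩
      · exfalso
        by_cases e3 : φ = ψ1
        · exact hψ1a (by rw [← e3]; exact hA)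
        by_cases e4 : φ = ψ1⁻¹
        · have h1 : φ ≠ φ⁻¹ := (hne φ (hnon φ hφ1 hφω)).2.2
          have hp := hdot ψ1 φ hψ1 hφ1
          rw [if_neg (fun e => e3 e.symm), e4, inv_inv, if_pos rfl, dot_of_supp hγ.2 hγ0,
            ← e4, hA0, mul_zero, add_zero] at hp
          obtain ⟨l1, l2⟩ := entry_le_one (hle3 φ hφ1) γ
          obtain ⟨m1, m2⟩ := entry_le_one (hle3 ψ1 hψ1) γ
          nlinarith
        · have := (hother φ (hnon φ hφ1 hφω) e1 e2 e3 e4).1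
          rw [hA0, mul_zero] at this
          exact zero_ne_one this
      · exact hB
    · exact ⟨φ0, ψ1, hφ0, hψ1r, hn1.symm, hφψ⟩
  have htype : ∀ ψ : D, ψ ≠ 1 → ψ ≠ φ0 → ψ ≠ φ0⁻¹ →
      (v φ0 a * v ψ a = 1 ∧ v ψ b = 0) ∨ (v φ0 b * v ψ b = 1 ∧ v ψ a = 0) := by
    intro ψ hψ h1 h2
    have hs := hprod ψ hψ h1 h2
    obtain ⟨la, ua⟩ := entry_le_one (hle3 ψ hψ) a
    obtain ⟨lb, ub⟩ := entry_le_one (hle3 ψ hψ) b
    rcases Int.eq_one_or_neg_one_of_mul_eq_one ha with ea | ea <;>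
    rcases Int.eq_one_or_neg_one_of_mul_eq_one hb with eb | eb <;>
    rw [ea, eb] at hs ⊢ <;> omega
  rcases htype ω hω h0ω.symm (fun e => h0ω (by rw [← hωi, e, inv_inv])) with ⟨e, -⟩ | ⟨e, -⟩
  · exact key a b hab ha hb hsupp e htype
  · exact key b a hab.symm hb ha (fun c h1 h2 => hsupp c h2 h1) e
      (fun ψ h0 h1 h2 => (htype ψ h0 h1 h2).symm)

end combinatorics

end Cfsg.Agent.BSW
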