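/-
Characters in the theorem of Brauer, Suzuki and Wall: the exceptional character.

* `Phi K φ` : the function induced from `1 - φ`
* `Hyp.classInner_Phi`, `Hyp.fibreCount_eq`, `Hyp.class_sum_eq`
* `Hyp.exists_gamma` : an irreducible character equal to `±1` on all of `K` but the identity, with the
  resulting values of the parameters
-/
import Cfsg.Agent.Lib.BSW.Basic
import Cfsg.Agent.Lib.BSW.Dual
import Cfsg.Agent.Lib.Char.Virtual
import Cfsg.Agent.Lib.ClassCount.CharSum

set_option autoImplicit false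

namespace Cfsg.Agent.BSW

open Cfsg Cfsg.Agent
open scoped ComplexConjugate

variable {G : Type*} [Group G]

/-- The function induced from `1 - φ`. -/
noncomputable def Phi [Fintype G] (K : Subgroup G) (φ : K →* ℂˣ) : G → ℂ :=
  indFun K (lin 1 - lin φ)

theorem lin_pm_of_sq {A : Type*} [Group A] (φ : A →* ℂˣ) {x : A} (hx : x * x = 1) :
    lin φ x = 1 ∨ lin φ x = -1 := by
  refine mul_self_eq_one_iff.1 ?_
  rw [lin, ← Units.val_mul, ← map_mul, hx, map_one, Units.val_one]

/-- The arithmetic of the main case. -/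
theorem arith_good {n h i : ℤ} (hn : Odd n)
    (he' : n * i ^ 2 = 2 * (1 + i * h) * (2 + i * h)) :
    ∃ ε : ℤ, (ε = 1 ∨ ε = -1) ∧ 1 + i * h = ε * (2 * h + ε) ∧ n = (h + ε) * (2 * h + ε) := by
  have hi : Even i := by
    have h2 : Even (n * i ^ 2) := by
      rw [he', mul_assoc]; exact even_two_mul _
    rcases Int.even_mul.1 h2 with h3 | h3
    · exact absurd h3 (Int.not_even_iff_odd.2 hn)
    · exact (Int.even_pow.1 h3).1
  obtain ⟨j, rfl⟩ := hi
  have h4 : j * (n * j - 3 * h - 2 * j * h ^ 2) = 1 := by nlinarith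
  rcases Int.eq_one_or_neg_one_of_mul_eq_one h4 with rfl | rfl
  · exact ⟨1, Or.inl rfl, by ring, by nlinarith⟩
  · exact ⟨-1, Or.inr rfl, by ring, by nlinarith⟩

theorem arith_six {n i : ℤ} (he : n * (1 + 3 * i) = 108 * (1 + 2 * i)) (hn : Odd n) : n = 81 := by
  have hd : (1 + 3 * i) ∣ 108 := ⟨3 * n - 216, by linarith⟩
  have h1 : 1 + 3 * i ≤ 108 := Int.le_of_dvd (by norm_num) hd
  have h2 : -(1 + 3 * i) ≤ 108 := Int.le_of_dvd (by norm_num) (Int.neg_dvd.2 hd)
  have hl : -36 ≤ i := by omega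
  have hu : i ≤ 35 := by omega
  obtain ⟨k, rfl⟩ := hn
  interval_cases i <;> omega

theorem arith_eight {n i : ℤ} (he : n * i ^ 2 = 4 * (1 + 4 * i) * (3 + 8 * i)) (hn : Odd n) :
    n = 171 ∨ n = 91 ∨ n = 115 := by
  have hd : i ∣ 12 := ⟨n * i - 80 - 128 * i, by linarith⟩
  have h1 : i ≤ 12 := Int.le_of_dvd (by norm_num) hd
  have h2 : -i ≤ 12 := Int.le_of_dvd (by norm_num) (Int.neg_dvd.2 hd)
  have hl : -12 ≤ i := by omega
  obtain ⟨k, rfl⟩ := hn
  interval_cases i <;> norm_num at he <;> omega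

namespace Hyp

variable {t s : G} {K : Subgroup G} (h : Hyp t s K)
include h

set_option linter.unusedSectionVars false

theorem exists_lin_t_eq_one {φ ψ : K →* ℂˣ} {ω : K →* ℂˣ}
    (huniq : ∀ φ : K →* ℂˣ, φ * φ = 1 → φ = 1 ∨ φ = ω) (hφ : φ * φ ≠ 1) (hψ : ψ * ψ ≠ 1)
    (h1 : φ ≠ ψ) (h2 : φ ≠ ψ⁻¹) : ∃ θ : K →* ℂˣ, θ * θ ≠ 1 ∧ lin θ ⟨t, h.t_mem⟩ = 1 := by
  have htt : (⟨t, h.t_mem⟩ : K) * ⟨t, h.t_mem⟩ = 1 := Subtype.ext h.tt
  rcases lin_pm_of_sq φ htt with e | e
  · exact ⟨φ, hφ, e⟩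
  rcases lin_pm_of_sq ψ htt with e' | e'
  · exact ⟨ψ, hψ, e'⟩
  by_cases hp : (φ * ψ) * (φ * ψ) = 1
  · refine ⟨φ * ψ⁻¹, fun hp' => ?_, ?_⟩
    · rcases huniq _ hp with q | q
      · exact h2 (eq_inv_of_mul_eq_one_left (a := φ) (b := ψ) q)
      · rcases huniq _ hp' with q' | q'
        · exact h1 (mul_inv_eq_one.1 q')
        · have e2 : ψ = ψ⁻¹ := mul_left_cancel (q.trans q'.symm)
          exact hψ (by nth_rewrite 2 [e2]; exact mul_inv_cancel ψ)
    · have et : lin ψ⁻¹ (⟨t, h.t_mem⟩ : K) = lin ψ ⟨t, h.t_mem⟩ := by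
        rw [lin_inv_apply, inv_eq_of_mul_eq_one_right htt]
      simp only [lin, MonoidHom.mul_apply, Units.val_mul] at e et e' ⊢
      rw [e, et, e']; ring
  · refine ⟨φ * ψ, hp, ?_⟩
    simp only [lin, MonoidHom.mul_apply, Units.val_mul] at e e' ⊢
    rw [e, e']; ring

theorem card_filter_conj_sum [Fintype G] [DecidablePred (· ∈ K)] (a b : ℂ) :
    ∑ x : G, ((if x ∈ K then a else 0) + (if x * s ∈ K then b else 0)) =
      (Nat.card K : ℂ) * (a + b) := by
  have e : ∀ c : ℂ, ∑ x : G, (if x ∈ K then c else 0) = (Nat.card K : ℂ) * c := by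
    intro c
    rw [← Finset.sum_filter, Finset.sum_const, nsmul_eq_mul, Nat.card_eq_fintype_card,
      Fintype.card_subtype]
  rw [Finset.sum_add_distrib, e a,
    Fintype.sum_equiv (Equiv.mulRight s) (fun x => if x * s ∈ K then b else 0)
      (fun x => if x ∈ K then b else 0) (fun x => rfl), e b, mul_add]

variable [Fintype G]

theorem Phi_apply_mem (φ : K →* ℂˣ) {x : G} (hx : x ∈ K) (hx1 : x ≠ 1) :
    Phi K φ x = 2 - lin φ ⟨x, hx⟩ - lin φ⁻¹ ⟨x, hx⟩ := by
  classical
  set θ : K → ℂ := lin 1 - lin φ with hθ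
  have key : ∀ g : G, extendByZero K θ (g⁻¹ * x * g) =
      (if g ∈ K then θ ⟨x, hx⟩ else 0) + (if g * s ∈ K then θ ⟨x, hx⟩⁻¹ else 0) := by
    intro g
    by_cases hg : g ∈ cent t
    · by_cases hgK : g ∈ K
      · have hgs : g * s ∉ K := h.mul_s_not_mem hgK
        have e : g⁻¹ * x * g = x := by rw [mul_assoc, h.comm x hx g hgK, inv_mul_cancel_left]
        rw [e, if_pos hgK, if_neg hgs, add_zero, Char.extendByZero_mem _ _ hx]
      · have hgs : g * s ∈ K := (h.mem_cent_iff.1 hg).resolve_left hgK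
        have e : g⁻¹ * x * g = x⁻¹ := by
          have := h.inverts_not_mem ((cent t).inv_mem hg) (fun e => hgK (by simpa using K.inv_mem e)) hx
          rwa [inv_inv] at this
        rw [e, if_neg hgK, if_pos hgs, zero_add, Char.extendByZero_mem _ _ (K.inv_mem hx)]
        rfl
    · have hgK : g ∉ K := fun e => hg (h.le_cent e)
      have hgs : g * s ∉ K := fun e => hg (h.mem_cent_iff.2 (Or.inr e))
      rw [if_neg hgK, if_neg hgs, add_zero, Char.extendByZero_not_mem]
      intro hm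
      exact hg (inv_inv g ▸ (cent t).inv_mem (h.ti g⁻¹ x hx hx1 (by simpa using hm)))
  have hh : (Nat.card K : ℂ) ≠ 0 := Nat.cast_ne_zero.2 Nat.card_pos.ne'
  rw [Phi, indFun, Finset.sum_congr rfl fun g _ => key g, h.card_filter_conj_sum, ← mul_assoc,
    inv_mul_cancel₀ hh, one_mul]
  simp only [hθ, lin_one, lin_inv_apply, Pi.sub_apply, Pi.one_apply]
  ring

theorem Phi_apply_of_not_mem (φ : K →* ℂˣ) {x : G} (hx : x ∉ conjInto K) : Phi K φ x = 0 := by
  rw [Phi, indFun, Finset.sum_eq_zero, mul_zero]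
  intro g _
  by_cases hm : g⁻¹ * x * g ∈ K
  · have hx1 : x = 1 := by
      by_contra hx1
      exact hx ⟨hx1, g, hm⟩
    subst hx1
    rw [Char.extendByZero_mem _ _ hm,
      show (⟨g⁻¹ * 1 * g, hm⟩ : K) = 1 from Subtype.ext (by simp)]
    simp [lin]
  · exact Char.extendByZero_not_mem _ _ hm

theorem Phi_apply_one (φ : K →* ℂˣ) : Phi K φ 1 = 0 :=
  h.Phi_apply_of_not_mem φ fun e => e.1 rfl

theorem isClassFunction_Phi (φ : K →* ℂˣ) : IsClassFunction G (Phi K φ) :=
  Char.indFun_isClassFunction _ _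

theorem isGC_Phi (φ : K →* ℂˣ) : IsGeneralizedCharacter G (Phi K φ) :=
  Char.IsGeneralizedCharacter.indFun (Char.IsGeneralizedCharacter.sub
    (Char.isGeneralizedCharacter_of_isCharacter (Char.IsIrrCharacter.isCharacter (isIrr_lin 1)))
    (Char.isGeneralizedCharacter_of_isCharacter (Char.IsIrrCharacter.isCharacter (isIrr_lin φ))))

variable [Fintype K]

theorem classInner_Phi_left (φ : K →* ℂˣ) {f : G → ℂ} (hf : IsClassFunction G f) :
    classInner (Phi K φ) f = classInner (lin 1 - lin φ) (fun k : K => f k) :=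
  Char.frobenius_reciprocity _ _ hf

open Classical in
theorem classInner_Phi_one {φ : K →* ℂˣ} (hφ : φ ≠ 1) : classInner (Phi K φ) (1 : G → ℂ) = 1 := by
  rw [h.classInner_Phi_left φ (Char.IsIrrCharacter.isClassFunction Char.isIrrCharacter_one),
    show (fun k : K => (1 : G → ℂ) k) = lin (1 : K →* ℂˣ) from lin_one.symm,
    Char.classInner_sub_left, classInner_lin, classInner_lin, if_pos rfl, if_neg hφ, sub_zero]

open Classical in
theorem classInner_Phi {φ ψ : K →* ℂˣ} (hφ : φ ≠ 1) (hψ : ψ ≠ 1) :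
    classInner (Phi K φ) (Phi K ψ) =
      2 + (if φ = ψ then 1 else 0) + (if φ = ψ⁻¹ then 1 else 0) := by
  have e : (fun k : K => Phi K ψ k) =
      (2 : ℂ) • lin (1 : K →* ℂˣ) - lin ψ - lin ψ⁻¹ := by
    funext k
    by_cases hk : (k : G) = 1
    · have hk' : k = 1 := Subtype.ext hk
      subst hk'
      simp only [OneMemClass.coe_one, h.Phi_apply_one, Pi.sub_apply, Pi.smul_apply, lin_apply_one,
        smul_eq_mul]
      norm_num
    · rw [h.Phi_apply_mem ψ k.2 hk]
      simp [lin]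
  have hψi : (1 : K →* ℂˣ) ≠ ψ⁻¹ := fun e => hψ ((inv_eq_one (a := ψ)).1 e.symm)
  rw [h.classInner_Phi_left φ (h.isClassFunction_Phi ψ), e]
  simp only [Char.classInner_sub_left, Char.classInner_sub_right, Char.classInner_smul_right,
    classInner_lin, if_neg hφ, if_neg (Ne.symm hψ), if_neg hψi, if_true,
    Complex.conj_ofNat]
  ring

theorem fibreCount_eq {y : G} (hy : y ∈ K) (hy1 : y ≠ 1) :
    ClassCount.fibreCount t t y = Nat.card K := by
  rw [ClassCount.fibreCount]
  have key : ∀ g : G, (IsConj t g ∧ IsConj t (g⁻¹ * y)) ↔ g * s ∈ K := by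
    intro g
    constructor
    · rintro ⟨hg, hg'⟩
      have g2 : orderOf g = 2 := by rw [← Involution.orderOf_eq_of_isConj hg, h.ht]
      have g2' : orderOf (g⁻¹ * y) = 2 := by rw [← Involution.orderOf_eq_of_isConj hg', h.ht]
      have hinv : g * y * g⁻¹ = y⁻¹ := by
        have e := Involution.mul_self g2'
        rw [Involution.inv_eq g2] at e ⊢
        rw [← mul_eq_one_iff_eq_inv, ← e]; group
      have hgH : g ∈ cent t := h.ti g y hy hy1 (hinv ▸ K.inv_mem hy)
      refine (h.mem_cent_iff.1 hgH).resolve_left fun hgK => hy1 ?_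
      obtain rfl : g = t := h.eq_t hgK g2
      have e := h.eq_t (K.mul_mem (K.inv_mem h.t_mem) hy) g2'
      rw [Involution.inv_eq h.ht] at e
      exact mul_eq_left.1 e
    · intro hgs
      have hgH : g ∈ cent t := h.mem_cent_iff.2 (Or.inr hgs)
      have hgK : g ∉ K := fun e => h.mul_s_not_mem e hgs
      have g2 := h.orderOf_not_mem hgH hgK
      have hH' : g⁻¹ * y ∈ cent t := (cent t).mul_mem ((cent t).inv_mem hgH) (h.le_cent hy)
      have hK' : g⁻¹ * y ∉ K := fun e => hgK <| by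
        have := K.mul_mem hy (K.inv_mem e)
        simpa using this
      exact ⟨h.all_conj t g h.ht g2, h.all_conj t _ h.ht (h.orderOf_not_mem hH' hK')⟩
  refine Nat.card_congr ((Equiv.mulRight s).subtypeEquiv fun g => ?_)
  exact key g

theorem fibreCount_one : ClassCount.fibreCount t t 1 = (cent t).index := by
  rw [ClassCount.fibreCount, ← ClassCount.card_class_eq_index]
  refine Nat.card_congr (Equiv.subtypeEquivRight fun g => ⟨fun e => e.1, fun e => ⟨e, ?_⟩⟩)
  have g2 : orderOf g = 2 := by rw [← Involution.orderOf_eq_of_isConj e, h.ht]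
  rw [mul_one, Involution.inv_eq g2]
  exact e

open Classical in
theorem class_sum_eq [Fintype (IrrCharacter G)] {lam : K →* ℂˣ} (hlam : lam ≠ 1) :
    ((cent t).index : ℂ) * (∑ χ : IrrCharacter G, classInner (Phi K lam) (χ : G → ℂ) *
      (χ : G → ℂ) t ^ 2 / (χ : G → ℂ) 1) = 2 * (Nat.card K : ℂ) ^ 2 := by
  set n : ℂ := ((cent t).index : ℂ) with hn
  set hh : ℂ := (Nat.card K : ℂ) with hhh
  set θ : K → ℂ := lin 1 - lin lam with hθ
  have hθ1 : θ 1 = 0 := by simp [hθ, lin]
  have hθsum : ∑ y : K, θ y = hh := by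
    have := Char.card_mul_classInner θ (lin (1 : K →* ℂˣ))
    rw [hθ, Char.classInner_sub_left, classInner_lin, classInner_lin, if_pos rfl, if_neg hlam,
      sub_zero, mul_one] at this
    rw [hhh, this]
    exact Finset.sum_congr rfl fun y _ => by simp [hθ, lin_one]
  have hL : ∑ y : K, θ y * ((Nat.card G : ℂ) * (ClassCount.fibreCount t t (y : G) : ℂ)) =
      (Nat.card G : ℂ) * hh * hh := by
    rw [Finset.sum_congr rfl fun y _ => show θ y * ((Nat.card G : ℂ) *
      (ClassCount.fibreCount t t (y : G) : ℂ)) = (Nat.card G : ℂ) * hh * θ y from ?_,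
      ← Finset.mul_sum, hθsum]
    by_cases hy : (y : G) = 1
    · have hy' : y = 1 := Subtype.ext hy
      subst hy'
      rw [hθ1, mul_zero, zero_mul]
    · rw [h.fibreCount_eq y.2 hy]; ring
  have hR : ∑ y : K, θ y * ((Nat.card G : ℂ) * (ClassCount.fibreCount t t (y : G) : ℂ)) =
      hh * n ^ 2 * ∑ χ : IrrCharacter G, classInner (Phi K lam) (χ : G → ℂ) *
      (χ : G → ℂ) t ^ 2 / (χ : G → ℂ) 1 := by
    simp only [ClassCount.card_mul_fibreCount, Finset.mul_sum]
    rw [Finset.sum_comm]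
    refine Finset.sum_congr rfl fun χ _ => ?_
    have hc := Char.card_mul_classInner θ (fun k : K => (χ : G → ℂ) k)
    rw [← h.classInner_Phi_left lam (Char.IsIrrCharacter.isClassFunction χ.2)] at hc
    have hne := Char.IsIrrCharacter.apply_one_ne_zero χ.2
    have hω : ClassCount.omega (χ : G → ℂ) t = n * (χ : G → ℂ) t / (χ : G → ℂ) 1 := by
      rw [ClassCount.omega, ClassCount.card_class_eq_index]
    rw [hω]
    have e : ∑ y : K, θ y * ((χ : G → ℂ) 1 * (n * (χ : G → ℂ) t / (χ : G → ℂ) 1) *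
        (n * (χ : G → ℂ) t / (χ : G → ℂ) 1) * (χ : G → ℂ) (y : G)⁻¹) =
        n ^ 2 * (χ : G → ℂ) t ^ 2 / (χ : G → ℂ) 1 *
          ∑ y : K, θ y * conj ((χ : G → ℂ) (y : G)) := by
      rw [Finset.mul_sum]
      refine Finset.sum_congr rfl fun y _ => ?_
      rw [Char.IsCharacter.apply_inv (Char.IsIrrCharacter.isCharacter χ.2)]
      field_simp
    rw [e, ← hc, hhh]
    field_simp
  rw [hR] at hL
  have hg : (Nat.card G : ℂ) = 2 * hh * n := by rw [h.card_eq]; push_cast; rfl
  rw [hg] at hL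
  have h0 : hh * n ≠ 0 := mul_ne_zero (Nat.cast_ne_zero.2 Nat.card_pos.ne')
    (Nat.cast_ne_zero.2 Subgroup.index_ne_zero_of_finite)
  refine mul_left_cancel₀ h0 ?_
  linear_combination hL

/-- An irreducible character up to sign, trivial on `K` minus the identity. -/
theorem exists_gamma (h4 : 4 ≤ Nat.card K) :
    ∃ (σ : ℤ) (χ : IrrCharacter G) (ω lam : K →* ℂˣ) (ε : ℤ),
      (σ = 1 ∨ σ = -1) ∧ (χ : G → ℂ) ≠ 1 ∧
      (∀ x ∈ K, x ≠ 1 → (σ : ℂ) * (χ : G → ℂ) x = 1) ∧
      (∀ φ : K →* ℂˣ, φ ≠ 1 → classInner (Phi K φ) ((σ : ℂ) • (χ : G → ℂ)) = 1) ∧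
      ω ≠ 1 ∧ lam ≠ 1 ∧ lam * lam ≠ 1 ∧ ω * ω = 1 ∧
      (ε = 1 ∨ ε = -1) ∧ (σ : ℂ) * (χ : G → ℂ) 1 = ((ε * (2 * Nat.card K + ε) : ℤ) : ℂ) ∧
      ((cent t).index : ℤ) = (Nat.card K + ε) * (2 * Nat.card K + ε) := by
  classical
  have := Fintype.ofFinite (IrrCharacter G)
  let one : IrrCharacter G := ⟨1, Char.isIrrCharacter_one⟩
  obtain ⟨ω, hω1, hω2, huniq⟩ := exists_omega K h.comm h.t_mem h.t_ne_one h.tt
    (fun x hx h2 => h.eq_of_sq hx h2)
  have hcoef : ∀ φ : K →* ℂˣ, ∃ m : IrrCharacter G → ℤ,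
      (∀ χ : IrrCharacter G, classInner (Phi K φ) (χ : G → ℂ) = m χ) ∧
      ∀ f, IsClassFunction G f → classInner (Phi K φ) f =
        ∑ χ : IrrCharacter G, (m χ : ℂ) * classInner (χ : G → ℂ) f := by
    intro φ
    obtain ⟨m, hm1, hm2, -⟩ := Char.IsGeneralizedCharacter.exists_coeffs (h.isGC_Phi φ)
    refine ⟨m, hm2, fun f _ => ?_⟩
    conv_lhs => rw [hm1]
    rw [Char.classInner_sum_left]
    exact Finset.sum_congr rfl fun χ _ => Char.classInner_smul_left _ _ _
  choose m hm hm' using hcoef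
  have hm1 : ∀ φ : K →* ℂˣ, φ ≠ 1 → m φ one = 1 := fun φ hφ => by
    have := hm φ one
    rw [show (one : G → ℂ) = 1 from rfl, h.classInner_Phi_one hφ] at this
    exact_mod_cast this.symm
  let v : (K →* ℂˣ) → IrrCharacter G → ℤ := fun φ χ => if χ = one then 0 else m φ χ
  have hdot : ∀ φ ψ : K →* ℂˣ, φ ≠ 1 → ψ ≠ 1 →
      ∑ χ, v φ χ * v ψ χ = 1 + (if φ = ψ then 1 else 0) + (if φ = ψ⁻¹ then 1 else 0) := by
    intro φ ψ hφ hψ
    have e1 : ∑ χ, m φ χ * m ψ χ = 2 + (if φ = ψ then 1 else 0) + (if φ = ψ⁻¹ then 1 else 0) := by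
      have e := h.classInner_Phi hφ hψ
      rw [hm' φ _ (h.isClassFunction_Phi ψ),
        Finset.sum_congr rfl fun (χ : IrrCharacter G) _ =>
          show (m φ χ : ℂ) * classInner (χ : G → ℂ) (Phi K ψ) = (m φ χ : ℂ) * (m ψ χ : ℂ) by
          rw [← Char.classInner_conj_symm (Phi K ψ) (χ : G → ℂ), hm ψ χ, map_intCast]] at e
      have e' : ((∑ χ, m φ χ * m ψ χ : ℤ) : ℂ) =
          ((2 + (if φ = ψ then 1 else 0) + (if φ = ψ⁻¹ then 1 else 0) : ℤ) : ℂ) := by
        push_cast; exact e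
      exact_mod_cast e'
    have e2 : ∀ χ, m φ χ * m ψ χ = v φ χ * v ψ χ + (if χ = one then 1 else 0) := by
      intro χ
      simp only [v]
      split_ifs with hχ
      · rw [hχ, hm1 φ hφ, hm1 ψ hψ]; ring
      · ring
    rw [Finset.sum_congr rfl fun χ _ => e2 χ, Finset.sum_add_distrib, Finset.sum_ite_eq'] at e1
    simp only [Finset.mem_univ, if_true] at e1
    linarith
  have : Finite (K →* ℂˣ) := Nat.finite_of_card_ne_zero (by rw [card_dual K h.comm]; omega)
  have hcardD : 4 ≤ Nat.card (K →* ℂˣ) := by rwa [card_dual K h.comm]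
  obtain ⟨i, σ, hσ, hcase⟩ := combi v ω hω1 hω2 huniq hcardD hdot
  obtain ⟨ψ0, hψ0⟩ : ∃ ψ : K →* ℂˣ, ψ * ψ ≠ 1 := by
    have := Fintype.ofFinite (K →* ℂˣ)
    by_contra hall
    push Not at hall
    have hsub : (Finset.univ : Finset (K →* ℂˣ)) ⊆ {1, ω} := fun φ _ => by
      simpa using huniq φ (hall φ)
    have := (Finset.card_le_card hsub).trans Finset.card_le_two
    rw [Finset.card_univ, ← Nat.card_eq_fintype_card] at this
    omega
  have hψ01 : ψ0 ≠ 1 := fun e => hψ0 (MonoidHom.ext fun x => by simp [e])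
  have hψ0ω : ψ0 ≠ ω := fun e => hψ0 (by rw [e, hω2])
  have hv0 : σ * v ψ0 i = 1 := by
    rcases hcase with hg | ⟨-, -, -, hg, -⟩
    · exact hg ψ0 hψ01
    · exact hg ψ0 hψ01 hψ0ω
  have hine : i ≠ one := fun e => by simp [v, e] at hv0
  have hvm : ∀ φ, v φ i = m φ i := fun φ => if_neg hine
  set Γ : G → ℂ := (σ : ℂ) • (i : G → ℂ) with hΓ
  have hΓgc : IsGeneralizedCharacter G Γ := Char.IsGeneralizedCharacter.intCast_smul
    (Char.isGeneralizedCharacter_of_isCharacter (Char.IsIrrCharacter.isCharacter i.2)) σ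
  have hΓin : ∀ φ, classInner (Phi K φ) Γ = ((σ * v φ i : ℤ) : ℂ) := fun φ => by
    rw [hΓ, Char.classInner_smul_right, hm φ i, map_intCast, hvm]; push_cast; rfl
  have hΓ1 : classInner Γ (1 : G → ℂ) = 0 := by
    rw [hΓ, Char.classInner_smul_left,
      Char.classInner_irr_of_ne i.2 Char.isIrrCharacter_one (fun e => hine (Subtype.ext e)), mul_zero]
  have hΓΓ : classInner Γ Γ = 1 := by
    rw [hΓ, Char.classInner_smul_left, Char.classInner_smul_right, Char.classInner_irr_self i.2,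
      map_intCast, mul_one]
    rcases hσ with rfl | rfl <;> norm_num
  -- the deficiency at the real character
  obtain ⟨c, hc, hcω, hcase'⟩ : ∃ c : ℤ, (∀ φ : K →* ℂˣ, φ ≠ 1 → φ ≠ ω → σ * v φ i = 1) ∧
      σ * v ω i = 1 - c ∧ (c = 0 ∨ c = 1 ∧ (6 ≤ Nat.card K ∧ Nat.card K ≤ 8) ∧
        ∃ φ ψ : K →* ℂˣ, φ * φ ≠ 1 ∧ ψ * ψ ≠ 1 ∧ φ ≠ ψ ∧ φ ≠ ψ⁻¹) := by
    rcases hcase with hg | ⟨h6, h8, hz, hg, hex⟩
    · exact ⟨0, fun φ hφ _ => hg φ hφ, by rw [hg ω hω1]; ring, Or.inl rfl⟩
    · rw [card_dual K h.comm] at h6 h8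
      exact ⟨1, hg, by rw [hz]; ring, Or.inr ⟨rfl, ⟨h6, h8⟩, hex⟩⟩
  -- the restriction to K
  obtain ⟨z, hz⟩ : ∃ z : ℤ, classInner (lin (1 : K →* ℂˣ)) (fun k : K => Γ k) = z :=
    Char.IsGeneralizedCharacter.classInner_int
      (Char.isGeneralizedCharacter_of_isCharacter (Char.IsIrrCharacter.isCharacter (isIrr_lin 1)))
      (Char.IsGeneralizedCharacter.restrict hΓgc K)
  have hres : ∀ φ : K →* ℂˣ, classInner (lin φ)
      ((fun k : K => Γ k) - lin 1 - (c : ℂ) • lin ω) = ((z - 1 : ℤ) : ℂ) := by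
    intro φ
    rw [Char.classInner_sub_right, Char.classInner_sub_right, Char.classInner_smul_right,
      classInner_lin, classInner_lin, map_intCast]
    have e := hΓin φ
    rw [h.classInner_Phi_left φ (Char.IsGeneralizedCharacter.isClassFunction hΓgc),
      Char.classInner_sub_left, hz] at e
    by_cases hφ1 : φ = 1
    · subst hφ1
      rw [hz, if_pos rfl, if_neg hω1.symm]; push_cast; ring
    rw [if_neg hφ1]
    by_cases hφω : φ = ω
    · rw [if_pos hφω]
      subst hφω
      rw [hcω] at e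
      push_cast at e ⊢
      linear_combination -e
    · rw [if_neg hφω]
      rw [hc φ hφ1 hφω] at e
      push_cast at e ⊢
      linear_combination -e
  obtain ⟨hres0, hres1⟩ := eq_zero_of_const_classInner
    (fun x y => Subtype.ext (h.comm x x.2 y y.2)) hres
  have hΓK : ∀ (x : G) (hx : x ∈ K), x ≠ 1 → Γ x = 1 + (c : ℂ) * lin ω ⟨x, hx⟩ := by
    intro x hx hx1
    have := hres0 ⟨x, hx⟩ (fun e => hx1 (congrArg Subtype.val e))
    simp only [Pi.sub_apply, Pi.smul_apply, lin_one, Pi.one_apply, smul_eq_mul] at this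
    linear_combination this
  have hΓone : Γ 1 = ((1 + c + (z - 1) * (Nat.card K : ℤ) : ℤ) : ℂ) := by
    simp only [Pi.sub_apply, Pi.smul_apply, lin_one, Pi.one_apply, lin_apply_one, smul_eq_mul,
      map_intCast, OneMemClass.coe_one] at hres1
    push_cast at hres1 ⊢
    linear_combination hres1
  -- choice of λ
  obtain ⟨lam, hlam, hlamt⟩ : ∃ lam : K →* ℂˣ, lam * lam ≠ 1 ∧
      (c = 1 → lin lam ⟨t, h.t_mem⟩ = 1) := by
    rcases hcase' with e | ⟨-, -, φ, ψ, a1, a2, a3, a4⟩
    · exact ⟨ψ0, hψ0, fun e' => absurd (e.symm.trans e') zero_ne_one⟩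
    · obtain ⟨θ, hθ, hθt⟩ := h.exists_lin_t_eq_one huniq a1 a2 a3 a4
      exact ⟨θ, hθ, fun _ => hθt⟩
  have hlam1 : lam ≠ 1 := fun e => hlam (MonoidHom.ext fun x => by simp [e])
  have hlamω : lam ≠ ω := fun e => hlam (by rw [e, hω2])
  have hlami : lam ≠ lam⁻¹ := fun e => hlam ((mul_eq_one_iff_eq_inv (a := lam) (b := lam)).2 e)
  -- the third constituent
  set A : G → ℂ := Phi K lam - 1 - Γ with hA
  have hAgc : IsGeneralizedCharacter G A :=
    Char.IsGeneralizedCharacter.sub (Char.IsGeneralizedCharacter.sub (h.isGC_Phi lam)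
      (Char.isGeneralizedCharacter_of_isCharacter Char.isCharacter_one)) hΓgc
  have hPΓ : classInner (Phi K lam) Γ = 1 := by
    rw [hΓin, hc lam hlam1 hlamω, Int.cast_one]
  have hAA : classInner A A = 1 := by
    have s1 : classInner (1 : G → ℂ) (Phi K lam) = 1 := by
      rw [← Char.classInner_conj_symm, h.classInner_Phi_one hlam1, map_one]
    have s2 : classInner Γ (Phi K lam) = 1 := by
      rw [← Char.classInner_conj_symm, hPΓ, map_one]
    have s3 : classInner (1 : G → ℂ) Γ = 0 := by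
      rw [← Char.classInner_conj_symm, hΓ1, map_zero]
    simp only [hA, Char.classInner_sub_left, Char.classInner_sub_right, s1, s2, s3, hΓ1, hΓΓ, hPΓ,
      h.classInner_Phi_one hlam1, Char.classInner_irr_self Char.isIrrCharacter_one,
      h.classInner_Phi hlam1 hlam1, if_neg hlami, if_true]
    norm_num
  obtain ⟨χA, hχA, hAsign⟩ := Char.IsGeneralizedCharacter.exists_irr_of_norm_one hAgc hAA
  have hA1ne : A 1 ≠ 0 := by
    have h0 := Char.IsIrrCharacter.apply_one_ne_zero hχA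
    rcases hAsign with e | e <;> rw [e]
    · exact h0
    · simpa using h0
  have hΓ1ne : Γ 1 ≠ 0 := by
    have h0 := Char.IsIrrCharacter.apply_one_ne_zero i.2
    rcases hσ with rfl | rfl <;> simpa [hΓ] using h0
  -- the class equation
  have hL : ((cent t).index : ℂ) * (1 + Γ t ^ 2 / Γ 1 + A t ^ 2 / A 1) =
      2 * (Nat.card K : ℂ) ^ 2 := by
    rw [← h.class_sum_eq hlam1]
    congr 1
    have hdec : ∀ ξ : IrrCharacter G, classInner (Phi K lam) (ξ : G → ℂ) =
        classInner (one : G → ℂ) (ξ : G → ℂ) + classInner Γ (ξ : G → ℂ) +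
          classInner A (ξ : G → ℂ) := fun ξ => by
      rw [hA, Char.classInner_sub_left, Char.classInner_sub_left]
      show _ = classInner (1 : G → ℂ) _ + _ + _
      ring
    have hirr : ∀ (ξ₀ : IrrCharacter G), ∑ ξ : IrrCharacter G,
        classInner (ξ₀ : G → ℂ) (ξ : G → ℂ) * ((ξ : G → ℂ) t ^ 2 / (ξ : G → ℂ) 1) =
        (ξ₀ : G → ℂ) t ^ 2 / (ξ₀ : G → ℂ) 1 := by
      intro ξ₀
      rw [Finset.sum_eq_single ξ₀ (fun ξ _ hne => by
        rw [Char.classInner_irr_of_ne ξ₀.2 ξ.2 (fun e => hne (Subtype.ext e.symm)), zero_mul])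
        (fun hn => absurd (Finset.mem_univ _) hn), Char.classInner_irr_self ξ₀.2, one_mul]
    have hone : ∑ ξ : IrrCharacter G, classInner (one : G → ℂ) (ξ : G → ℂ) *
        ((ξ : G → ℂ) t ^ 2 / (ξ : G → ℂ) 1) = 1 := by
      rw [hirr one]; simp [one]
    have hΓs : ∑ ξ : IrrCharacter G, classInner Γ (ξ : G → ℂ) *
        ((ξ : G → ℂ) t ^ 2 / (ξ : G → ℂ) 1) = Γ t ^ 2 / Γ 1 := by
      simp only [hΓ, Char.classInner_smul_left, mul_assoc, ← Finset.mul_sum, hirr i,
        Pi.smul_apply, smul_eq_mul]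
      have h0 := Char.IsIrrCharacter.apply_one_ne_zero i.2
      rcases hσ with rfl | rfl <;> push_cast <;> field_simp
    have hAs : ∑ ξ : IrrCharacter G, classInner A (ξ : G → ℂ) *
        ((ξ : G → ℂ) t ^ 2 / (ξ : G → ℂ) 1) = A t ^ 2 / A 1 := by
      have hi := hirr ⟨χA, hχA⟩
      rcases hAsign with e | e <;> rw [e]
      · exact hi
      · simp only [Char.classInner_neg_left, neg_mul, Finset.sum_neg_distrib, hi, Pi.neg_apply]
        ring
    simp only [hdec, add_mul, add_div, Finset.sum_add_distrib]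
    simp only [mul_div_assoc, hone, hΓs, hAs]
  have hA1 : A 1 = -1 - Γ 1 := by
    simp only [hA, Pi.sub_apply, h.Phi_apply_one, Pi.one_apply]; ring
  have htt : (⟨t, h.t_mem⟩ : K) * ⟨t, h.t_mem⟩ = 1 := Subtype.ext h.tt
  have hAt : A t = 1 - 2 * lin lam ⟨t, h.t_mem⟩ - Γ t := by
    simp only [hA, Pi.sub_apply, h.Phi_apply_mem lam h.t_mem h.t_ne_one, Pi.one_apply,
      lin_inv_apply, inv_eq_of_mul_eq_one_right htt]
    ring
  have hΓt := hΓK t h.t_mem h.t_ne_one
  have hnodd : Odd ((cent t).index : ℤ) := by exact_mod_cast h.odd_index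
  rw [hΓone] at hA1 hΓ1ne hL
  rw [hA1] at hA1ne hL
  rcases hcase' with hc0 | ⟨hc1, ⟨h6, h8⟩, -⟩
  · -- main case
    subst hc0
    refine ⟨σ, i, ω, lam, ?_⟩
    rw [Int.cast_zero, zero_mul, add_zero] at hΓt
    have hAt2 : A t ^ 2 = 4 := by
      rw [hAt, hΓt]
      rcases lin_pm_of_sq lam htt with e | e <;> rw [e] <;> norm_num
    rw [hAt2, hΓt] at hL
    push_cast at hL hΓ1ne hA1ne
    field_simp at hL
    have hL' : ((cent t).index : ℤ) * (z - 1) ^ 2 =
        2 * (1 + (z - 1) * Nat.card K) * (2 + (z - 1) * Nat.card K) := by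
      have hK0 : (Nat.card K : ℂ) ≠ 0 := Nat.cast_ne_zero.2 Nat.card_pos.ne'
      have e : (((cent t).index : ℤ) : ℂ) * ((z : ℂ) - 1) ^ 2 * (Nat.card K : ℂ) ^ 2 =
          2 * (1 + ((z : ℂ) - 1) * Nat.card K) * (2 + ((z : ℂ) - 1) * Nat.card K) *
            (Nat.card K : ℂ) ^ 2 := by
        push_cast
        linear_combination (-1 : ℂ) * hL
      have e' := mul_right_cancel₀ (pow_ne_zero 2 hK0) e
      exact_mod_cast e'
    obtain ⟨ε, hε, e1, e2⟩ := arith_good hnodd hL'
    refine ⟨ε, hσ, fun e => hine (Subtype.ext e), fun x hx hx1 => ?_, fun φ hφ => ?_, hω1, hlam1,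
      hlam, hω2, hε, ?_, e2⟩
    · have := hΓK x hx hx1
      simp only [hΓ, Pi.smul_apply, smul_eq_mul, Int.cast_zero, zero_mul, add_zero] at this
      exact this
    · rw [hΓin]
      by_cases hφω : φ = ω
      · rw [hφω, hcω]; norm_num
      · rw [hc φ hφ hφω]; norm_num
    · rw [← e1]
      have := hΓone
      simp only [hΓ, Pi.smul_apply, smul_eq_mul] at this
      rw [this, add_zero]
  · -- the exceptional case is impossible
    exfalso
    subst hc1
    have hlt := hlamt rfl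
    rw [hlt] at hAt
    rw [Int.cast_one, one_mul] at hΓt
    rw [hAt, hΓt] at hL
    have hcount := h.ncard_invertedBy
    obtain ⟨r, hr⟩ := h.dvd_ncard_invertedBy
    have hK8 : Nat.card K = 6 ∨ Nat.card K = 8 := by
      have := h.two_dvd_card; omega
    have hωt := lin_pm_of_sq ω htt
    rcases hK8 with hK | hK
    · have hω' : lin ω (⟨t, h.t_mem⟩ : K) = -1 := by
        refine hωt.resolve_left fun e => hω1 (MonoidHom.ext fun x => ?_)
        rw [MonoidHom.one_apply]
        have hx2 : ω x * ω x = 1 := by rw [← MonoidHom.mul_apply, hω2, MonoidHom.one_apply]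
        have hx6 : x ^ 6 = 1 := hK ▸ pow_card_eq_one'
        have hx3 : (x ^ 3 : K) = 1 ∨ (x ^ 3 : K) = ⟨t, h.t_mem⟩ := by
          rcases h.eq_of_sq (x ^ 3).2 (by
            rw [← Subgroup.coe_mul, ← pow_add]; norm_num; exact congrArg Subtype.val hx6) with q | q
          · exact Or.inl (Subtype.ext q)
          · exact Or.inr (Subtype.ext q)
        have : ω (x ^ 3) = 1 := by
          rcases hx3 with q | q <;> rw [q]
          · exact map_one ω
          · exact Units.ext (by simpa [lin] using e)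
        rw [map_pow, pow_succ, sq, hx2, one_mul] at this
        exact this
      rw [hω', hK] at hL
      push_cast at hL hΓ1ne hA1ne
      rw [hK] at hΓ1ne hA1ne hcount hr
      push_cast at hΓ1ne hA1ne
      field_simp at hL
      have e : ((cent t).index : ℤ) * (1 + 3 * (z - 1)) = 108 * (1 + 2 * (z - 1)) := by
        have e : (((cent t).index : ℤ) : ℂ) * (1 + 3 * ((z : ℂ) - 1)) =
            108 * (1 + 2 * ((z : ℂ) - 1)) := by
          push_cast
          refine mul_left_cancel₀ (mul_ne_zero hΓ1ne (two_ne_zero' ℂ)) ?_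
          linear_combination -hL
        exact_mod_cast e
      have := arith_six e hnodd
      omega
    · have hω' : lin ω (⟨t, h.t_mem⟩ : K) = 1 := by
        refine hωt.resolve_right fun e => ?_
        have hker : ∀ x : K, ω x = 1 → x = 1 := by
          intro x hx
          have hx8 : x ^ 8 = 1 := hK ▸ pow_card_eq_one'
          have step : ∀ y : K, y * y = 1 → ω y = 1 → y = 1 := by
            intro y hy hy1
            rcases h.eq_of_sq y.2 (congrArg Subtype.val hy) with q | q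
            · exact Subtype.ext q
            · exfalso
              rw [show y = ⟨t, h.t_mem⟩ from Subtype.ext q] at hy1
              rw [lin, hy1] at e
              norm_num at e
          have e4 : x ^ 4 = 1 := step _ (by rw [← pow_add]; exact hx8) (by rw [map_pow, hx, one_pow])
          have e2 : x ^ 2 = 1 := step _ (by rw [← pow_add]; exact e4) (by rw [map_pow, hx, one_pow])
          exact step _ (by rw [← sq]; exact e2) hx
        have hinj : Function.Injective (fun x : K => lin ω x) := by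
          intro x y hxy
          have := hker (x⁻¹ * y) (by
            rw [map_mul, map_inv, inv_mul_eq_one]; exact Units.ext hxy)
          exact inv_mul_eq_one.1 this
        have hsub : Finset.univ.image (fun x : K => lin ω x) ⊆ {1, -1} := by
          intro a ha
          obtain ⟨x, -, rfl⟩ := Finset.mem_image.1 ha
          have : lin ω x * lin ω x = 1 := by
            rw [lin, ← Units.val_mul, ← MonoidHom.mul_apply, hω2]; simp
          simpa using mul_self_eq_one_iff.1 this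
        have := (Finset.card_le_card hsub).trans Finset.card_le_two
        rw [Finset.card_image_of_injective _ hinj, Finset.card_univ, ← Nat.card_eq_fintype_card,
          hK] at this
        omega
      rw [hω', hK] at hL
      push_cast at hL hΓ1ne hA1ne
      rw [hK] at hΓ1ne hA1ne hcount hr
      push_cast at hΓ1ne hA1ne
      field_simp at hL
      have e : ((cent t).index : ℤ) * (z - 1) ^ 2 =
          4 * (1 + 4 * (z - 1)) * (3 + 8 * (z - 1)) := by
        have e : (((cent t).index : ℤ) : ℂ) * ((z : ℂ) - 1) ^ 2 =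
            4 * (1 + 4 * ((z : ℂ) - 1)) * (3 + 8 * ((z : ℂ) - 1)) := by
          push_cast
          refine mul_left_cancel₀ (show (64 : ℂ) ≠ 0 by norm_num) ?_
          linear_combination -hL
        exact_mod_cast e
      rcases arith_eight e hnodd with q | q | q <;> omega

end Hyp

end Cfsg.Agent.BSW
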