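/-
The theorem of Brauer, Suzuki and Wall: the values of the exceptional character.

* `exists_int_of_invariant` : a function given by polynomials in roots of unity which is fixed by
  the powers prime to the group order is integer valued
* `Hyp.char_facts` : the parameters `q` and `a` and the orders of the centralizers
-/
import Cfsg.Agent.Lib.BSW.Exceptional
import Cfsg.Agent.Lib.GaloisAvg.Basic
import Cfsg.Agent.Lib.GaloisPow.Twist
import Cfsg.Agent.Lib.CentralChar.Congr

set_option autoImplicit false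

namespace Cfsg.Agent.BSW

open Cfsg Cfsg.Agent
open Polynomial

variable {G : Type*} [Group G]

/-- A value fixed under all powers prime to the group order is an integer. -/
theorem exists_int_of_invariant [Finite G] {f : G → ℂ} (hf : GaloisAvg.CycloValued f) (y : G)
    (h : ∀ k : ℕ, k.Coprime (Nat.card G) → f (y ^ k) = f y) : ∃ m : ℤ, f y = m := by
  obtain ⟨P, hP⟩ := hf y
  set N := Nat.card G with hN
  have : NeZero N := ⟨Nat.card_pos.ne'⟩
  have hz := GaloisAvg.zeta_isPrimitiveRoot (NeZero.ne N)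
  have : NeZero (N : ℚ) := NeZero.charZero
  have : IsCyclotomicExtension {N} ℚ (CyclotomicField N ℚ) :=
    CyclotomicField.isCyclotomicExtension N ℚ
  have hK : IsPrimitiveRoot (IsCyclotomicExtension.zeta N ℚ (CyclotomicField N ℚ)) N :=
    IsCyclotomicExtension.zeta_spec N ℚ (CyclotomicField N ℚ)
  set z0 := IsCyclotomicExtension.zeta N ℚ (CyclotomicField N ℚ) with hz0
  have hirr : Irreducible (cyclotomic N ℚ) := cyclotomic.irreducible_rat (NeZero.pos N)
  let e := hK.embeddingsEquivPrimitiveRoots ℂ hirr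
  have : FiniteDimensional ℚ (CyclotomicField N ℚ) :=
    IsCyclotomicExtension.finiteDimensional {N} ℚ (CyclotomicField N ℚ)
  have hval : ∀ σ : (CyclotomicField N ℚ) →ₐ[ℚ] ℂ, σ (aeval z0 P) = f y := by
    intro σ
    have h1 : ((e σ : primitiveRoots N ℂ) : ℂ) = σ z0 := rfl
    obtain ⟨k, -, hk, hkz⟩ := (hz.isPrimitiveRoot_iff).mp
      ((mem_primitiveRoots (NeZero.pos N)).mp (e σ).2)
    rw [← h k hk, hP k, hkz, h1]
    exact (aeval_algHom_apply (σ.restrictScalars ℤ) z0 P).symm
  have h1 : algebraMap ℚ ℂ (Algebra.trace ℚ (CyclotomicField N ℚ) (aeval z0 P)) =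
      ∑ σ : (CyclotomicField N ℚ) →ₐ[ℚ] ℂ, σ (aeval z0 P) := trace_eq_sum_embeddings ℂ
  rw [Finset.sum_congr rfl fun σ _ => hval σ, Finset.sum_const, nsmul_eq_mul] at h1
  set M := (Finset.univ : Finset ((CyclotomicField N ℚ) →ₐ[ℚ] ℂ)).card with hM
  set r : ℚ := Algebra.trace ℚ (CyclotomicField N ℚ) (aeval z0 P) with hr
  have hM0 : (M : ℂ) ≠ 0 := by
    refine Nat.cast_ne_zero.2 (Finset.card_pos.2 ⟨e.symm ⟨GaloisAvg.zeta N, ?_⟩,
      Finset.mem_univ _⟩).ne'
    exact (mem_primitiveRoots (NeZero.pos N)).2 hz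
  have hy : f y = algebraMap ℚ ℂ (r / M) := by
    rw [map_div₀, map_natCast, h1]
    field_simp
  have hint := hf.isIntegral y
  rw [hy, isIntegral_algebraMap_iff (algebraMap ℚ ℂ).injective] at hint
  obtain ⟨m, hm⟩ := IsIntegrallyClosed.isIntegral_iff.mp hint
  refine ⟨m, ?_⟩
  rw [hy, ← hm]
  simp

/-- The congruence between integral values at `g` and `g ^ p`. -/
theorem int_frobenius_congr [Finite G] {p : ℕ} (hp : p.Prime) {χ : G → ℂ} (hχ : IsCharacter G χ)
    (g : G) {a b : ℤ} (ha : χ g = a) (hb : χ (g ^ p) = b) : (p : ℤ) ∣ a ^ p - b := by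
  obtain ⟨r, hr, he⟩ := CentralChar.frobenius_congr hp 1 hχ g
  rw [pow_one, ha, hb] at he
  have hp0 : (p : ℂ) ≠ 0 := Nat.cast_ne_zero.2 hp.ne_zero
  have hr' : r = algebraMap ℚ ℂ (((a ^ p - b : ℤ) : ℚ) / p) := by
    rw [map_div₀, map_intCast, map_natCast]
    push_cast
    rw [he]
    field_simp
  rw [hr', isIntegral_algebraMap_iff (algebraMap ℚ ℂ).injective] at hr
  obtain ⟨m, hm⟩ := IsIntegrallyClosed.isIntegral_iff.mp hr
  have hm' : (m : ℚ) = ((a ^ p - b : ℤ) : ℚ) / p := by simpa using hm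
  have hpQ : (p : ℚ) ≠ 0 := Nat.cast_ne_zero.2 hp.ne_zero
  refine ⟨m, ?_⟩
  have : (((p : ℤ) * m : ℤ) : ℚ) = ((a ^ p - b : ℤ) : ℚ) := by
    rw [Int.cast_mul, hm']; push_cast; field_simp
  exact (Int.cast_inj.1 this).symm

namespace Hyp

variable {t s : G} {K : Subgroup G} (h : Hyp t s K)
include h

set_option linter.unusedSectionVars false

set_option maxHeartbeats 1000000 in
theorem char_facts [Finite G] (h4 : 4 ≤ Nat.card K) : ∃ q a : ℕ,
    (cent t).index = a * q ∧
    ((q = 2 * Nat.card K + 1 ∧ a = Nat.card K + 1) ∨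
      (q + 1 = 2 * Nat.card K ∧ a + 1 = Nat.card K)) ∧
    (∀ y ∈ out K, Nat.card (cent y) ∣ q ∨ Nat.card (cent y) ∣ a) ∧
    {y | y ∈ out K ∧ Nat.card (cent y) ∣ q}.ncard + 1 = q * q := by
  classical
  have := Fintype.ofFinite G
  have := Fintype.ofFinite K
  have := Fintype.ofFinite (IrrCharacter G)
  obtain ⟨σ, χ, ω, lam, ε, hσ, hχ1, hK1, hin, hω1, hlam1, hlam2, hω2, hε, hdeg, hn⟩ :=
    h.exists_gamma h4
  set Γ : G → ℂ := (σ : ℂ) • (χ : G → ℂ) with hΓ
  have hσ2 : (σ : ℂ) * σ = 1 := by rcases hσ with rfl | rfl <;> norm_num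
  have hΓK : ∀ x ∈ K, x ≠ 1 → Γ x = 1 := hK1
  -- the exceptional character is rational
  have hrat : ∀ k : ℕ, k.Coprime (Nat.card G) → ∀ y : G, Γ (y ^ k) = Γ y := by
    intro k hk
    set χ' : IrrCharacter G := GaloisPow.powIrr hk χ with hχ'
    suffices hkey : χ' = χ by
      intro y
      have := congrFun (congrArg Subtype.val hkey) y
      rw [GaloisPow.powIrr_apply] at this
      simp only [hΓ, Pi.smul_apply, this]
    set Γ' : G → ℂ := (σ : ℂ) • (χ' : G → ℂ) with hΓ'
    have hres : (fun x : K => Γ' x) = fun x : K => Γ x := by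
      funext x
      show (σ : ℂ) * (χ : G → ℂ) ((x : G) ^ k) = (σ : ℂ) * (χ : G → ℂ) x
      by_cases hx : (x : G) = 1
      · rw [hx, one_pow]
      · have hxk : (x : G) ^ k ≠ 1 := fun e => hx ((powCoprime hk.symm).injective (by simpa using e))
        rw [hK1 _ (K.pow_mem x.2 k) hxk, hK1 _ x.2 hx]
    have hcl : ∀ ψ : IrrCharacter G, IsClassFunction G ((σ : ℂ) • (ψ : G → ℂ)) := fun ψ =>
      Char.isClassFunction_smul (Char.IsIrrCharacter.isClassFunction ψ.2) _
    have hin' : ∀ φ : K →* ℂˣ, φ ≠ 1 → classInner (Phi K φ) Γ' = 1 := fun φ hφ => by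
      rw [h.classInner_Phi_left φ (hcl χ'), hres, ← h.classInner_Phi_left φ (hcl χ)]
      exact hin φ hφ
    by_contra hne
    have hχ'1 : (χ' : G → ℂ) ≠ 1 := by
      intro e
      refine hχ1 ?_
      have e1 : χ' = GaloisPow.powIrr hk ⟨1, Char.isIrrCharacter_one⟩ := Subtype.ext (by
        rw [e]; funext g; simp)
      exact congrArg Subtype.val (GaloisPow.powIrr_injective hk e1)
    have hΓΓ : classInner Γ Γ = 1 := by
      rw [hΓ, Char.classInner_smul_left, Char.classInner_smul_right, Char.classInner_irr_self χ.2,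
        map_intCast, mul_one, hσ2]
    have hΓΓ' : classInner Γ' Γ' = 1 := by
      rw [hΓ', Char.classInner_smul_left, Char.classInner_smul_right,
        Char.classInner_irr_self χ'.2, map_intCast, mul_one, hσ2]
    have hperp : classInner Γ Γ' = 0 := by
      rw [hΓ, hΓ', Char.classInner_smul_left, Char.classInner_smul_right,
        Char.classInner_irr_of_ne χ.2 χ'.2 (fun e => hne (Subtype.ext e.symm)), mul_zero, mul_zero]
    have h1Γ : classInner (1 : G → ℂ) Γ = 0 := by
      rw [hΓ, Char.classInner_smul_right, Char.classInner_irr_of_ne Char.isIrrCharacter_one χ.2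
        (Ne.symm hχ1), mul_zero]
    have h1Γ' : classInner (1 : G → ℂ) Γ' = 0 := by
      rw [hΓ', Char.classInner_smul_right, Char.classInner_irr_of_ne Char.isIrrCharacter_one χ'.2
        (Ne.symm hχ'1), mul_zero]
    have hlami : lam ≠ lam⁻¹ := fun e =>
      hlam2 ((mul_eq_one_iff_eq_inv (a := lam) (b := lam)).2 e)
    have hωlam : ω ≠ lam := fun e => hlam2 (e ▸ hω2)
    have hωlam' : ω ≠ lam⁻¹ := fun e => hωlam (by
      have e2 : ω⁻¹ = ω := inv_eq_of_mul_eq_one_right (a := ω) (b := ω) hω2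
      rw [← e2, e]; exact inv_inv lam)
    -- the decomposition of the induced function
    set A : G → ℂ := Phi K lam - 1 - Γ - Γ' with hA
    have sym : ∀ f f' : G → ℂ, classInner f f' = 0 → classInner f' f = 0 := fun f f' e => by
      rw [← Char.classInner_conj_symm, e, map_zero]
    have sym1 : ∀ f f' : G → ℂ, classInner f f' = 1 → classInner f' f = 1 := fun f f' e => by
      rw [← Char.classInner_conj_symm, e, map_one]
    have hA0 : A = 0 := by
      rw [← Char.classInner_self_eq_zero]
      simp only [hA, Char.classInner_sub_left, Char.classInner_sub_right, hin lam hlam1,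
        hin' lam hlam1, sym1 _ _ (hin lam hlam1), sym1 _ _ (hin' lam hlam1), hΓΓ, hΓΓ', hperp,
        sym _ _ hperp, h1Γ, sym _ _ h1Γ, h1Γ', sym _ _ h1Γ', h.classInner_Phi_one hlam1,
        sym1 _ _ (h.classInner_Phi_one hlam1), Char.classInner_irr_self Char.isIrrCharacter_one,
        h.classInner_Phi hlam1 hlam1, if_neg hlami, if_true]
      norm_num
    have hdec : Phi K lam = 1 + Γ + Γ' := by
      rw [hA, sub_sub, sub_sub, sub_eq_zero] at hA0
      rw [hA0]; abel
    have h2 := h.classInner_Phi hω1 hlam1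
    rw [if_neg hωlam, if_neg hωlam', hdec, Char.classInner_add_right, Char.classInner_add_right,
      h.classInner_Phi_one hω1, hin ω hω1, hin' ω hω1] at h2
    norm_num at h2
  have hcyc := GaloisAvg.cycloValued_character (Char.IsIrrCharacter.isCharacter χ.2)
  have hint : ∀ y : G, ∃ m : ℤ, (χ : G → ℂ) y = m := fun y =>
    exists_int_of_invariant hcyc y fun k hk => by
      have e := hrat k hk y
      simp only [hΓ, Pi.smul_apply, smul_eq_mul] at e
      exact mul_left_cancel₀ (left_ne_zero_of_mul_eq_one hσ2) e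
  choose b hb using hint
  set F : G → ℤ := fun y => σ * b y with hF
  have hΓF : ∀ y, Γ y = (F y : ℂ) := fun y => by
    simp only [hΓ, Pi.smul_apply, smul_eq_mul, hb y, hF]; push_cast; rfl
  set hh := Nat.card K with hhh
  set n := (cent t).index with hnn
  set qZ : ℤ := 2 * hh + ε with hqZ
  set aZ : ℤ := hh + ε with haZ
  have hF1 : F 1 = ε * qZ := by
    have := hΓF 1
    simp only [hΓ, Pi.smul_apply, smul_eq_mul] at this
    rw [hdeg] at this
    exact_mod_cast this.symm
  have hFKc : ∀ y ∈ conjInto K, F y = 1 := by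
    intro y hy
    obtain ⟨g, x, hx, hx1, rfl⟩ := exists_eq_conj hy
    have e := hΓF (g * x * g⁻¹)
    rw [show Γ (g * x * g⁻¹) = Γ x from
      Char.isClassFunction_smul (Char.IsIrrCharacter.isClassFunction χ.2) _ x g, hΓK x hx hx1] at e
    exact_mod_cast e.symm
  -- sums over the whole group
  have hsum1 : ∑ y, F y = 0 := by
    have e := Char.card_mul_classInner Γ (1 : G → ℂ)
    rw [hΓ, Char.classInner_smul_left, Char.classInner_irr_of_ne χ.2 Char.isIrrCharacter_one hχ1,
      mul_zero, mul_zero, ← hΓ] at e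
    simp only [hΓF, Pi.one_apply, map_one, mul_one] at e
    exact_mod_cast e.symm
  have hsum2 : ∑ y, F y * F y = (Nat.card G : ℤ) := by
    have e := Char.card_mul_classInner Γ Γ
    rw [hΓ, Char.classInner_smul_left, Char.classInner_smul_right, Char.classInner_irr_self χ.2,
      map_intCast, mul_one, hσ2, mul_one, ← hΓ] at e
    simp only [hΓF, map_intCast] at e
    exact_mod_cast e.symm
  -- the three parts of the group
  set S1 := (Finset.univ : Finset G).filter (· ∈ conjInto K) with hS1
  set S2 := (Finset.univ : Finset G).filter (· ∈ out K) with hS2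
  have hS1card : (S1.card : ℤ) = n * (hh - 1 : ℤ) := by
    have e : S1.card = n * (hh - 1) := by
      rw [← h.ncard_conjInto_K, ← Set.ncard_coe_finset]
      congr 1; ext y; simp [hS1]
    rw [e, Nat.cast_mul, Nat.cast_sub (by omega)]; rfl
  have hS2card : (S2.card : ℤ) + 1 = n * (hh + 1 : ℤ) := by
    have e : S2.card + 1 = n * (hh + 1) := by
      rw [← h.ncard_out, ← Set.ncard_coe_finset]
      congr 2; ext y; simp [hS2]
    exact_mod_cast e
  have hsplit : ∀ f : G → ℤ, ∑ y, f y = f 1 + ∑ y ∈ S1, f y + ∑ y ∈ S2, f y := by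
    intro f
    have e : (Finset.univ : Finset G) = insert 1 (S1 ∪ S2) := by
      ext y
      simp only [hS1, hS2, Finset.mem_univ, Finset.mem_insert, Finset.mem_union, Finset.mem_filter,
        true_and, true_iff]
      by_cases hy : y = 1
      · exact Or.inl hy
      · by_cases hy' : y ∈ conjInto K
        · exact Or.inr (Or.inl hy')
        · exact Or.inr (Or.inr ⟨hy, hy'⟩)
    have hd : Disjoint S1 S2 := by
      rw [Finset.disjoint_filter]
      exact fun y _ hy hy' => hy'.2 hy
    conv_lhs => rw [e]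
    rw [Finset.sum_insert (by
      simp only [hS1, hS2, Finset.mem_union, Finset.mem_filter, Finset.mem_univ, true_and, not_or]
      exact ⟨fun e => e.1 rfl, fun e => e.1 rfl⟩), Finset.sum_union hd, add_assoc]
  have hgcard : (Nat.card G : ℤ) = 2 * hh * n := by rw [h.card_eq]; push_cast; rfl
  have hnq : (n : ℤ) = aZ * qZ := hn
  have hKsum1 : ∑ y ∈ S1, F y = S1.card := by
    rw [Finset.sum_congr rfl fun y hy => hFKc y (Finset.mem_filter.1 hy).2, Finset.sum_const,
      nsmul_eq_mul, mul_one]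
  have hKsum2 : ∑ y ∈ S1, F y * F y = S1.card := by
    rw [Finset.sum_congr rfl fun y hy => show F y * F y = 1 by
      rw [hFKc y (Finset.mem_filter.1 hy).2, one_mul], Finset.sum_const, nsmul_eq_mul, mul_one]
  have hε2 : ε * ε = 1 := by rcases hε with rfl | rfl <;> norm_num
  have hO1 := hsplit F
  have hO2 := hsplit fun y => F y * F y
  rw [hsum1, hKsum1, hS1card, hF1] at hO1
  rw [hsum2, hgcard, hKsum2, hS1card, hF1] at hO2
  have hzero : ∑ y ∈ S2, (F y * F y + F y) = 0 := by
    rw [Finset.sum_add_distrib]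
    simp only [hqZ, haZ] at hO1 hO2 hnq
    linear_combination -hO1 - hO2 + 2 * hnq - (2 * (hh : ℤ) + ε) ^ 2 * hε2
  have h01 : ∀ y ∈ out K, F y = 0 ∨ F y = -1 := by
    intro y hy
    have := (Finset.sum_eq_zero_iff_of_nonneg (fun y _ => by nlinarith [sq_nonneg (2 * F y + 1)])).1
      hzero y (Finset.mem_filter.2 ⟨Finset.mem_univ _, hy⟩)
    rcases mul_eq_zero.1 (show F y * (F y + 1) = 0 by linarith) with e | e
    · exact Or.inl e
    · exact Or.inr (by linarith)
  have hZ0 : ((S2.filter fun y => F y = 0).card : ℤ) + 1 = qZ * qZ := by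
    have e1 : ∑ y ∈ S2, F y = -(((S2.filter fun y => ¬ F y = 0).card : ℕ) : ℤ) := by
      rw [← Finset.sum_filter_add_sum_filter_not S2 (fun y => F y = 0),
        Finset.sum_eq_zero (fun y hy => (Finset.mem_filter.1 hy).2), zero_add,
        Finset.sum_congr rfl fun y hy => (h01 y
          (Finset.mem_filter.1 (Finset.mem_filter.1 hy).1).2).resolve_left (Finset.mem_filter.1 hy).2,
        Finset.sum_const, nsmul_eq_mul, mul_neg, mul_one]
    have e2 : ((S2.filter fun y => F y = 0).card : ℤ) + (S2.filter fun y => ¬ F y = 0).card =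
        S2.card := by exact_mod_cast Finset.card_filter_add_card_filter_not _
    simp only [hqZ, haZ] at hO1 hnq ⊢
    linear_combination e2 + hS2card - e1 - hO1 + 2 * hnq
  -- natural parameters
  obtain ⟨q, a, hq, ha, hqa⟩ : ∃ q a : ℕ, (q : ℤ) = qZ ∧ (a : ℤ) = aZ ∧
      ((q = 2 * hh + 1 ∧ a = hh + 1) ∨ (q + 1 = 2 * hh ∧ a + 1 = hh)) := by
    rcases hε with rfl | rfl
    · exact ⟨2 * hh + 1, hh + 1, by rw [hqZ]; push_cast; ring, by rw [haZ]; push_cast; ring,
        Or.inl ⟨rfl, rfl⟩⟩
    · exact ⟨2 * hh - 1, hh - 1, by rw [hqZ, Nat.cast_sub (by omega)]; push_cast; ring,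
        by rw [haZ, Nat.cast_sub (by omega)]; push_cast; ring, Or.inr ⟨by omega, by omega⟩⟩
  have hn' : n = a * q := by
    have : (n : ℤ) = ((a * q : ℕ) : ℤ) := by push_cast; rw [hq, ha]; exact hnq
    exact_mod_cast this
  have hεeq : ε = (q : ℤ) - 2 * hh := by rw [hq, hqZ]; ring
  have haq : Nat.Coprime a q := by
    refine Nat.coprime_of_dvd fun p hp h1 h2 => ?_
    rcases hqa with ⟨e1, e2⟩ | ⟨e1, e2⟩
    · have h3 : p ∣ 2 * a := h1.mul_left 2
      have : 2 * a = q + 1 := by omega
      rw [this] at h3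
      exact hp.one_lt.ne' (Nat.dvd_one.1 ((Nat.dvd_add_right h2).1 h3))
    · have h3 : p ∣ 2 * a := h1.mul_left 2
      have : q = 2 * a + 1 := by omega
      rw [this] at h2
      exact hp.one_lt.ne' (Nat.dvd_one.1 ((Nat.dvd_add_right h3).1 h2))
  -- values at elements of out K by the primes of their orders
  have hside : ∀ (N : ℕ) (y : G), orderOf y = N → y ∈ out K → ∀ p : ℕ, p.Prime → p ∣ N →
      (p ∣ q → F y = 0) ∧ (p ∣ a → F y = -1) := by
    intro N
    induction N using Nat.strong_induction_on with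
    | _ N ih =>
      intro y hy hyo p hp hpN
      have hdvdn : ∀ r, r ∣ N → r ∣ n := fun r hr => hr.trans ((hy ▸
        Subgroup.orderOf_dvd_natCard _ (self_mem_cent y)).trans (h.card_cent_dvd hyo))
      have hodd : ∀ r : ℕ, r.Prime → r ∣ N → Odd r := fun r hr hrN =>
        Odd.of_dvd_nat h.odd_index (hdvdn r hrN)
      have hN0 : N ≠ 0 := hy ▸ (orderOf_pos y).ne'
      have hcong : ∀ r : ℕ, r.Prime → r ∣ N → (r : ℤ) ∣ F y - F (y ^ r) := by
        intro r hr hrN
        have e := int_frobenius_congr hr (Char.IsIrrCharacter.isCharacter χ.2) y (hb y) (hb _)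
        have hpow : F y ^ r = F y := by
          rcases h01 y hyo with e' | e' <;> rw [e']
          · exact zero_pow hr.ne_zero
          · exact (hodd r hr hrN).neg_one_pow
        have hσr : σ ^ r = σ := by
          rcases hσ with rfl | rfl
          · exact one_pow r
          · exact (hodd r hr hrN).neg_one_pow
        have : F y - F (y ^ r) = σ * (b y ^ r - b (y ^ r)) := by
          conv_lhs => rw [← hpow]
          simp only [hF, mul_pow, hσr]; ring
        rw [this]
        exact e.mul_left σ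
      obtain ⟨m, hm⟩ := hpN
      by_cases hm1 : m = 1
      · subst hm1
        rw [mul_one] at hm
        have hy1 : y ^ p = 1 := by rw [← hm, ← hy]; exact pow_orderOf_eq_one y
        have e := hcong p hp (by rw [hm])
        rw [hy1, hF1] at e
        have hp1 : ¬ (p : ℤ) ∣ 1 := fun e => hp.one_lt.ne' (by
          exact Nat.dvd_one.1 (Int.natCast_dvd_natCast.1 e))
        refine ⟨fun hpq => ?_, fun hpa => ?_⟩
        · refine (h01 y hyo).resolve_right fun e' => hp1 ?_
          have h1 : (p : ℤ) ∣ ε * qZ := (hq ▸ Int.natCast_dvd_natCast.2 hpq).mul_left ε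
          have := Int.dvd_add e h1
          rw [e', sub_add_cancel] at this
          exact (Int.dvd_neg).1 this
        · refine (h01 y hyo).resolve_left fun e' => hp1 ?_
          have h1 : (p : ℤ) ∣ aZ := ha ▸ Int.natCast_dvd_natCast.2 hpa
          rw [e', zero_sub, Int.dvd_neg] at e
          have h2 := Int.dvd_sub ((h1.mul_left (2 * ε))) e
          have : 2 * ε * aZ - ε * qZ = 1 := by rw [hqZ, haZ]; linear_combination hε2
          rwa [this] at h2
      · obtain ⟨r, hr, hrm⟩ := Nat.exists_prime_and_dvd hm1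
        have hrN : r ∣ N := hm ▸ hrm.mul_left p
        have hm0 : m ≠ 0 := fun e => hN0 (by rw [hm, e, mul_zero])
        have hord : orderOf (y ^ r) = N / r := by
          rw [orderOf_pow' y hr.ne_zero, hy, Nat.gcd_eq_right hrN]
        obtain ⟨m', hm'⟩ := hrm
        have hdiv : N / r = p * m' := by
          rw [hm, hm', show p * (r * m') = r * (p * m') by ring, Nat.mul_div_cancel_left _ hr.pos]
        have hne : y ^ r ≠ 1 := by
          intro e
          rw [e, orderOf_one, hdiv] at hord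
          exact hp.one_lt.ne' (Nat.dvd_one.1 (hord ▸ dvd_mul_right p m'))
        have hyr := h.pow_mem_out hyo hne
        have hih := ih (N / r) (Nat.div_lt_self (Nat.pos_of_ne_zero hN0) hr.one_lt) (y ^ r) hord hyr
          p hp (hdiv ▸ dvd_mul_right p m')
        have heq : F y = F (y ^ r) := by
          have e := hcong r hr hrN
          have hr1 : ¬ (r : ℤ) ∣ 1 := fun e => hr.one_lt.ne' (by
            exact Nat.dvd_one.1 (Int.natCast_dvd_natCast.1 e))
          rcases h01 y hyo with e1 | e1 <;> rcases h01 _ hyr with e2 | e2 <;> rw [e1, e2] at e ⊢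
          · exact absurd (by simpa using e) hr1
          · exact absurd (by simpa using e) hr1
        rw [heq]; exact hih
  have hmain : ∀ y ∈ out K, (F y = 0 → Nat.card (cent y) ∣ q) ∧
      (F y = -1 → Nat.card (cent y) ∣ a) := by
    intro y hy
    have hne1 : orderOf y ≠ 1 := fun e => hy.1 (orderOf_eq_one_iff.1 e)
    obtain ⟨p, hp, hpy⟩ := Nat.exists_prime_and_dvd hne1
    have hdn := h.card_cent_dvd hy
    rw [show (cent t).index = a * q from hn'] at hdn
    have hpc : p ∣ a * q :=
      (hpy.trans (Subgroup.orderOf_dvd_natCard _ (self_mem_cent y))).trans hdn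
    -- the primes of the centralizer lie on one side
    have key : ∀ r : ℕ, r.Prime → r ∣ Nat.card (cent y) → (p ∣ q → r ∣ q) ∧ (p ∣ a → r ∣ a) := by
      intro r hr hrc
      have := Fact.mk hr
      obtain ⟨z, hz⟩ := exists_prime_orderOf_dvd_card' r hrc
      have hzo : orderOf (z : G) = r := by rwa [Subgroup.orderOf_coe]
      rcases eq_or_ne r p with rfl | hrp
      · exact ⟨id, id⟩
      set x := y ^ (orderOf y / p) with hx
      have hxo : orderOf x = p := orderOf_pow_orderOf_div (orderOf_pos y).ne' hpy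
      have hcomm : Commute x (z : G) := Commute.pow_left (mem_cent.1 z.2).symm _
      have hoxz : orderOf (x * z) = p * r := by
        rw [hcomm.orderOf_mul_eq_mul_orderOf_of_coprime, hxo, hzo]
        rw [hxo, hzo]
        exact (Nat.coprime_primes hp hr).2 hrp.symm
      have hxz1 : x * z ≠ 1 := fun e => by
        rw [e, orderOf_one] at hoxz
        exact hp.one_lt.ne' (Nat.dvd_one.1 (hoxz ▸ dvd_mul_right p r))
      have hxzc : x * z ∈ cent y :=
        (cent y).mul_mem (mem_cent.2 (Commute.pow_self y _).eq) z.2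
      have hxz := h.mem_out_of_mem_cent hy hxzc hxz1
      obtain ⟨hp1, hp2⟩ := hside _ _ hoxz hxz p hp (dvd_mul_right p r)
      obtain ⟨hr1, hr2⟩ := hside _ _ hoxz hxz r hr (dvd_mul_left r p)
      have hrn : r ∣ a * q := hrc.trans hdn
      refine ⟨fun hpq => (hr.dvd_mul.1 hrn).resolve_left fun hra => ?_,
        fun hpa => (hr.dvd_mul.1 hrn).resolve_right fun hrq => ?_⟩
      · exact absurd ((hp1 hpq).symm.trans (hr2 hra)) (by norm_num)
      · exact absurd ((hr1 hrq).symm.trans (hp2 hpa)) (by norm_num)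
    obtain ⟨hp1, hp2⟩ := hside _ y rfl hy p hp hpy
    refine ⟨fun e => ?_, fun e => ?_⟩
    · have hpq : p ∣ q := (hp.dvd_mul.1 hpc).resolve_left fun hpa => by
        rw [hp2 hpa] at e; norm_num at e
      refine (Nat.Coprime.dvd_of_dvd_mul_left ?_ hdn)
      refine Nat.coprime_of_dvd fun r hr h1 h2 => ?_
      exact hr.one_lt.ne' (Nat.dvd_one.1 (haq.gcd_eq_one ▸ Nat.dvd_gcd h2 ((key r hr h1).1 hpq)))
    · have hpa : p ∣ a := (hp.dvd_mul.1 hpc).resolve_right fun hpq => by
        rw [hp1 hpq] at e; norm_num at e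
      refine (Nat.Coprime.dvd_of_dvd_mul_right ?_ hdn)
      refine Nat.coprime_of_dvd fun r hr h1 h2 => ?_
      exact hr.one_lt.ne' (Nat.dvd_one.1 (haq.gcd_eq_one ▸ Nat.dvd_gcd ((key r hr h1).2 hpa) h2))
  refine ⟨q, a, hn', hqa, fun y hy => ?_, ?_⟩
  · rcases h01 y hy with e | e
    · exact Or.inl ((hmain y hy).1 e)
    · exact Or.inr ((hmain y hy).2 e)
  · have e : {y | y ∈ out K ∧ Nat.card (cent y) ∣ q} =
        ↑(S2.filter fun y => F y = 0) := by
      ext y
      simp only [hS2, Set.mem_ofPred_eq, Finset.coe_filter, Finset.mem_filter, Finset.mem_univ,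
        true_and]
      refine ⟨fun ⟨hy, hc⟩ => ⟨hy, (h01 y hy).resolve_right fun e => ?_⟩,
        fun ⟨hy, e⟩ => ⟨hy, (hmain y hy).1 e⟩⟩
      have hy1 := Nat.le_of_dvd Nat.card_pos (Subgroup.orderOf_dvd_natCard _ (self_mem_cent y))
      have h1 : Nat.card (cent y) = 1 :=
        Nat.dvd_one.1 (haq.gcd_eq_one ▸ Nat.dvd_gcd ((hmain y hy).2 e) hc)
      have := orderOf_pos y
      exact hy.1 (orderOf_eq_one_iff.1 (by omega))
    rw [e, Set.ncard_coe_finset]
    have : (((S2.filter fun y => F y = 0).card + 1 : ℕ) : ℤ) = ((q * q : ℕ) : ℤ) := by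
      push_cast; rw [hq]; exact hZ0
    exact_mod_cast this

end Hyp

end Cfsg.Agent.BSW
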