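/-
The theorem of Brauer, Suzuki and Wall: the local analysis when `|K| ≥ 4`.

* `Conclusion G` : the conclusion
* `Hyp.Data` : the parameters supplied by the character theory
* `Hyp.conclusion_of_four_le`
-/
import Cfsg.Agent.Lib.BSW.Values
import Mathlib.GroupTheory.SchurZassenhaus

set_option autoImplicit false

namespace Cfsg.Agent.BSW

open Cfsg.Agent

variable {G : Type*} [Group G]

/-- The conclusion of the theorem of Brauer, Suzuki and Wall. -/
def Conclusion (G : Type*) [Group G] : Prop :=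
  ∃ Q D : Subgroup G, 2 * Nat.card G = Nat.card ↥Q * (Nat.card ↥Q + 1) * (Nat.card ↥Q - 1) ∧
    (∀ x ∈ Q, x ≠ 1 → Subgroup.centralizer ({x} : Set G) = Q) ∧
    IsMulCommutative ↥D ∧ 2 * Nat.card ↥D + 1 = Nat.card ↥Q ∧ Q ⊓ D = ⊥ ∧
    Subgroup.normalizer (Q : Set G) = Q ⊔ D ∧
    ∀ X : Subgroup G, X ≤ D → X ≠ ⊥ →
      Subgroup.normalizer (X : Set G) = Subgroup.normalizer (D : Set G) ∧
      ∃ u : G, orderOf u = 2 ∧ u ∉ D ∧ (∀ d ∈ D, u * d * u⁻¹ = d⁻¹) ∧
        Subgroup.normalizer (D : Set G) = D ⊔ Subgroup.zpowers u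

theorem conj_mem_of_mem_normalizer {A : Subgroup G} {g x : G}
    (hg : g ∈ Subgroup.normalizer (A : Set G)) (hx : x ∈ A) : g * x * g⁻¹ ∈ A :=
  (Subgroup.mem_normalizer_iff.1 hg x).1 hx

theorem mem_normalizer_of_conj [Finite G] {A : Subgroup G} {g : G}
    (h : ∀ x ∈ A, g * x * g⁻¹ ∈ A) : g ∈ Subgroup.normalizer (A : Set G) := by
  have hb : Function.Surjective (fun x : A => (⟨g * x * g⁻¹, h x x.2⟩ : A)) :=
    Finite.surjective_of_injective fun x y e =>
      Subtype.ext (mul_left_cancel (mul_right_cancel (congrArg Subtype.val e)))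
  rw [Subgroup.mem_normalizer_iff]
  refine fun x => ⟨h x, fun hx => ?_⟩
  obtain ⟨y, hy⟩ := hb ⟨_, hx⟩
  have e : g * y * g⁻¹ = g * x * g⁻¹ := congrArg Subtype.val hy
  exact mul_left_cancel (mul_right_cancel e) ▸ y.2

theorem mem_normalizer_of_cent [Finite G] {A : Subgroup G} {g x : G} (h1 : cent x = A)
    (h2 : cent (g * x * g⁻¹) = A) : g ∈ Subgroup.normalizer (A : Set G) :=
  mem_normalizer_of_conj fun _ hy => h2 ▸ conj_mem_cent (h1.symm ▸ hy)

theorem inf_eq_bot_of_coprime {A B : Subgroup G} (h : Nat.Coprime (Nat.card A) (Nat.card B)) :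
    A ⊓ B = ⊥ :=
  (Subgroup.disjoint_of_coprime_natCard h).eq_bot

theorem sup_eq_of_card [Finite G] {A B N : Subgroup G} (hA : A ≤ N) (hB : B ≤ N)
    (hc : Nat.Coprime (Nat.card A) (Nat.card B)) (hN : Nat.card N = Nat.card A * Nat.card B) :
    A ⊔ B = N := by
  refine Subgroup.eq_of_le_of_card_ge (sup_le hA hB) ?_
  rw [hN]
  exact Nat.le_of_dvd Nat.card_pos
    (hc.mul_dvd_of_dvd_of_dvd (Subgroup.card_dvd_of_le le_sup_left)
      (Subgroup.card_dvd_of_le le_sup_right))

theorem exists_complement [Finite G] {Q N : Subgroup G} (hQN : Q ≤ N)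
    (hnorm : N ≤ Subgroup.normalizer (Q : Set G)) {m : ℕ} (hN : Nat.card N = Nat.card Q * m)
    (hc : Nat.Coprime (Nat.card Q) m) : ∃ D : Subgroup G, D ≤ N ∧ Nat.card D = m := by
  have : (Q.subgroupOf N).Normal := (Subgroup.normal_subgroupOf_iff_le_normalizer hQN).2 hnorm
  have hcard : Nat.card (Q.subgroupOf N) = Nat.card Q :=
    Nat.card_congr (Subgroup.subgroupOfEquivOfLe hQN).toEquiv
  have hidx : (Q.subgroupOf N).index = m := by
    have := (Q.subgroupOf N).card_mul_index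
    rw [hcard, hN] at this
    exact Nat.eq_of_mul_eq_mul_left Nat.card_pos this
  obtain ⟨D, hD⟩ := Subgroup.exists_right_complement'_of_coprime (N := Q.subgroupOf N)
    (by rw [hcard, hidx]; exact hc)
  refine ⟨D.map N.subtype, Subgroup.map_subtype_le D, ?_⟩
  rw [Subgroup.card_map_of_injective N.subtype_injective, ← hidx, hD.symm.index_eq_card]

/-- An element of odd order is a square in any subgroup containing it. -/
theorem exists_sq_of_odd {A : Subgroup G} {c : G} (hc : c ∈ A) (ho : Odd (orderOf c)) :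
    ∃ d ∈ A, d * d = c := by
  obtain ⟨k, hk⟩ := ho
  refine ⟨c ^ (k + 1), A.pow_mem hc _, ?_⟩
  rw [← pow_add, show k + 1 + (k + 1) = orderOf c + 1 by omega, pow_succ, pow_orderOf_eq_one,
    one_mul]

theorem mem_of_odd_of_sq_mem {A : Subgroup G} {g : G} (h : g * g ∈ A) (ho : Odd (orderOf g)) :
    g ∈ A := by
  obtain ⟨k, hk⟩ := ho
  have e : (g * g) ^ (k + 1) = g := by
    rw [← sq, ← pow_mul, show 2 * (k + 1) = orderOf g + 1 by omega, pow_succ, pow_orderOf_eq_one,
      one_mul]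
  exact e ▸ A.pow_mem h _

namespace Hyp

variable {t s : G} {K : Subgroup G} (h : Hyp t s K)

/-- The elements of `out K` with centralizer order dividing `q`. -/
def zset (K : Subgroup G) (q : ℕ) : Set G := {y | y ∈ out K ∧ Nat.card (cent y) ∣ q}

/-- The parameters supplied by the character theory. -/
structure Data (t : G) (K : Subgroup G) (q a : ℕ) : Prop where
  four_le : 4 ≤ Nat.card K
  index_eq : (cent t).index = a * q
  cases : (q = 2 * Nat.card K + 1 ∧ a = Nat.card K + 1) ∨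
    (q + 1 = 2 * Nat.card K ∧ a + 1 = Nat.card K)
  dvd_or : ∀ y ∈ out K, Nat.card (cent y) ∣ q ∨ Nat.card (cent y) ∣ a
  ncard_Z : (zset K q).ncard + 1 = q * q

include h

set_option linter.unusedSectionVars false

variable [Finite G] {q a : ℕ} (d : Data t K q a)

theorem mem_out_of_coprime {y : G} (hy : y ≠ 1) (hc : (orderOf y).Coprime (2 * Nat.card K)) :
    y ∈ out K := by
  refine ⟨hy, fun hm => ?_⟩
  obtain ⟨g, x, hx, hx1, rfl⟩ := exists_eq_conj hm
  rw [Involution.orderOf_conj] at hc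
  exact hx1 (orderOf_eq_one_iff.1 (Nat.eq_one_of_dvd_coprimes hc dvd_rfl
    ((Subgroup.orderOf_dvd_natCard K hx).mul_left 2)))

include d

theorem card_G : Nat.card G = 2 * Nat.card K * (a * q) := by rw [h.card_eq, d.index_eq]

theorem odd_q : Odd q := Odd.of_dvd_nat (d.index_eq ▸ h.odd_index) (dvd_mul_left q a)

theorem odd_a : Odd a := Odd.of_dvd_nat (d.index_eq ▸ h.odd_index) (dvd_mul_right a q)

theorem a_pos : 0 < a := (h.odd_a d).pos

theorem q_pos : 0 < q := (h.odd_q d).pos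

theorem coprime_aq : Nat.Coprime a q := by
  refine Nat.coprime_of_dvd fun p hp h1 h2 => ?_
  rcases d.cases with ⟨e1, e2⟩ | ⟨e1, e2⟩
  · have h3 : p ∣ 2 * a := h1.mul_left 2
    rw [show 2 * a = q + 1 by omega] at h3
    exact hp.one_lt.ne' (Nat.dvd_one.1 ((Nat.dvd_add_right h2).1 h3))
  · have h3 : p ∣ 2 * a := h1.mul_left 2
    rw [show q = 2 * a + 1 by omega] at h2
    exact hp.one_lt.ne' (Nat.dvd_one.1 ((Nat.dvd_add_right h3).1 h2))

theorem coprime_q : Nat.Coprime q (2 * Nat.card K) :=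
  Nat.Coprime.coprime_dvd_left (d.index_eq ▸ dvd_mul_left q a) h.coprime_index

theorem coprime_a : Nat.Coprime a (2 * Nat.card K) :=
  Nat.Coprime.coprime_dvd_left (d.index_eq ▸ dvd_mul_right a q) h.coprime_index

theorem sq_eq : q * q = 4 * Nat.card K * a + 1 := by
  rcases d.cases with ⟨rfl, rfl⟩ | ⟨e1, e2⟩
  · ring
  · zify at e1 e2 ⊢
    linear_combination (q + 2 * (Nat.card K : ℤ) - 1) * e1 - 4 * (Nat.card K : ℤ) * e2

theorem not_both {y : G} (hy : y ≠ 1) (h1 : Nat.card (cent y) ∣ q) :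
    ¬ Nat.card (cent y) ∣ a := fun h2 => hy <| orderOf_eq_one_iff.1 <|
  Nat.eq_one_of_dvd_coprimes (h.coprime_aq d)
    ((Subgroup.orderOf_dvd_natCard _ (self_mem_cent y)).trans h2)
    ((Subgroup.orderOf_dvd_natCard _ (self_mem_cent y)).trans h1)

theorem conj_mem_zset {y : G} (hy : y ∈ zset K q) (g : G) : g * y * g⁻¹ ∈ zset K q :=
  ⟨h.conj_mem_out hy.1 g, by rw [card_cent_conj]; exact hy.2⟩

theorem class_le {y : G} (hy : y ∈ zset K q) :
    {z | IsConj y z} ⊆ zset K q ∧ {z | IsConj y z}.ncard * Nat.card (cent y) = Nat.card G := by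
  refine ⟨fun z hz => ?_, ?_⟩
  · obtain ⟨g, rfl⟩ := isConj_iff.1 hz
    exact h.conj_mem_zset d hy g
  · rw [← Nat.card_coe_set_eq, mul_comm]
    show Nat.card (cent y) * Nat.card {z : G // IsConj y z} = _
    rw [ClassCount.card_class_eq_index, Subgroup.card_mul_index]

theorem card_cent_zset {y : G} (hy : y ∈ zset K q) :
    Nat.card (cent y) = q ∧ {z | IsConj y z}.ncard = 2 * Nat.card K * a := by
  obtain ⟨hsub, hmul⟩ := h.class_le d hy
  obtain ⟨k, hk⟩ := hy.2
  have hk1 : k = 1 := by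
    have hko : Odd k := Odd.of_dvd_nat (h.odd_q d) ⟨_, by rw [hk, mul_comm]⟩
    have hle := Set.ncard_le_ncard hsub (Set.toFinite _)
    have hcl : {z | IsConj y z}.ncard = 2 * Nat.card K * a * k := by
      refine Nat.eq_of_mul_eq_mul_right (Nat.card_pos (α := cent y)) ?_
      rw [hmul, h.card_G d, hk]; ring
    have h1 := d.ncard_Z
    rw [h.sq_eq d] at h1
    have hKa : 0 < 2 * Nat.card K * a := by have := d.four_le; have := h.a_pos d; positivity
    have : k ≤ 2 := by
      refine Nat.le_of_mul_le_mul_left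
        (show 2 * Nat.card K * a * k ≤ 2 * Nat.card K * a * 2 from ?_) hKa
      rw [← hcl]
      linarith
    obtain ⟨j, hj⟩ := hko
    omega
  subst hk1
  rw [mul_one] at hk
  refine ⟨hk.symm, Nat.eq_of_mul_eq_mul_right (Nat.card_pos (α := cent y)) ?_⟩
  rw [hmul, h.card_G d, hk]; ring

theorem mem_zset_of_prime {p : ℕ} (hp : p.Prime) (hpq : p ∣ q) {x : G} (hx : x ∈ out K)
    (hpx : p ∣ orderOf x) : x ∈ zset K q := by
  refine ⟨hx, (d.dvd_or x hx).resolve_right fun e => hp.one_lt.ne' ?_⟩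
  exact Nat.eq_one_of_dvd_coprimes (h.coprime_aq d)
    (hpx.trans ((Subgroup.orderOf_dvd_natCard _ (self_mem_cent x)).trans e)) hpq

theorem one_lt_q : 1 < q := by
  rcases d.cases with ⟨e1, e2⟩ | ⟨e1, e2⟩ <;> have := d.four_le <;> omega

theorem isPrimePow_q : ∃ p f : ℕ, p.Prime ∧ q = p ^ f := by
  obtain ⟨p, hp, hpq⟩ := Nat.exists_prime_and_dvd (h.one_lt_q d).ne'
  refine ⟨p, _, hp, Nat.eq_prime_pow_of_unique_prime_dvd (h.q_pos d).ne' fun {r} hr hrq => ?_⟩
  by_contra hrp
  have := Fact.mk hp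
  have := Fact.mk hr
  have hG := h.card_G d
  obtain ⟨x, hx⟩ := exists_prime_orderOf_dvd_card' (G := G) p
    (hG ▸ (hpq.mul_left a).mul_left _)
  have hx1 : x ≠ 1 := fun e => by rw [e, orderOf_one] at hx; exact hp.one_lt.ne hx
  have hxo : x ∈ out K := h.mem_out_of_coprime hx1
    (hx ▸ (h.coprime_q d).coprime_dvd_left hpq)
  have hxZ := h.mem_zset_of_prime d hp hpq hxo (hx ▸ dvd_rfl)
  obtain ⟨hcx, hclx⟩ := h.card_cent_zset d hxZ
  obtain ⟨z, hz⟩ := exists_prime_orderOf_dvd_card' (G := cent x) r (hcx.symm ▸ hrq)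
  have hzo : orderOf (z : G) = r := by rwa [Subgroup.orderOf_coe]
  have hz1 : (z : G) ≠ 1 := fun e => by rw [e, orderOf_one] at hzo; exact hr.one_lt.ne hzo
  have hzout := h.mem_out_of_mem_cent hxo z.2 hz1
  have hzZ := h.mem_zset_of_prime d hr hrq hzout (hzo ▸ dvd_rfl)
  have hcomm : Commute x (z : G) := (mem_cent.1 z.2).symm
  have hxzo : orderOf (x * z) = p * r := by
    rw [hcomm.orderOf_mul_eq_mul_orderOf_of_coprime, hx, hzo]
    rw [hx, hzo]; exact (Nat.coprime_primes hp hr).2 (Ne.symm hrp)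
  have hxz1 : x * z ≠ 1 := fun e => by
    rw [e, orderOf_one] at hxzo
    exact hp.one_lt.ne' (Nat.dvd_one.1 (hxzo ▸ dvd_mul_right p r))
  have hxzout := h.mem_out_of_mem_cent hxo ((cent x).mul_mem (self_mem_cent x) z.2) hxz1
  have hxzZ := h.mem_zset_of_prime d hp hpq hxzout (hxzo ▸ dvd_mul_right p r)
  have hd : ∀ u v : G, orderOf u ≠ orderOf v →
      Disjoint {w | IsConj u w} {w | IsConj v w} := fun u v hne =>
    Set.disjoint_left.2 fun w h1 h2 => hne (by
      rw [Involution.orderOf_eq_of_isConj h1, Involution.orderOf_eq_of_isConj h2])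
  have hd1 := hd x z (by rw [hx, hzo]; exact Ne.symm hrp)
  have hd2 := hd x (x * z) (by rw [hx, hxzo]; nlinarith [hp.two_le, hr.two_le])
  have hd3 := hd z (x * z) (by rw [hzo, hxzo]; nlinarith [hp.two_le, hr.two_le])
  have hsub := Set.union_subset (Set.union_subset (h.class_le d hxZ).1 (h.class_le d hzZ).1)
    (h.class_le d hxzZ).1
  have hle := Set.ncard_le_ncard hsub (Set.toFinite _)
  rw [Set.ncard_union_eq (Set.disjoint_union_left.2 ⟨hd2, hd3⟩), Set.ncard_union_eq hd1, hclx,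
    (h.card_cent_zset d hzZ).2, (h.card_cent_zset d hxzZ).2] at hle
  have h1 := d.ncard_Z
  rw [h.sq_eq d] at h1
  have hKa : 0 < Nat.card K * a := Nat.mul_pos Nat.card_pos (h.a_pos d)
  nlinarith

theorem exists_conj_of_card {P R : Subgroup G} (hP : Nat.card P = q) (hR : Nat.card R = q) :
    ∃ g : G, (∀ x ∈ P, g * x * g⁻¹ ∈ R) ∧ ∀ y ∈ R, g⁻¹ * y * g ∈ P := by
  obtain ⟨p, f, hp, rfl⟩ := h.isPrimePow_q d
  have := Fact.mk hp
  have hf : f ≠ 0 := fun e => by have := h.one_lt_q d; simp [e] at this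
  have hndvd : ¬ p ∣ 2 * Nat.card K * a := fun e => by
    rcases hp.dvd_mul.1 e with e' | e'
    · exact hp.one_lt.ne' (Nat.eq_one_of_dvd_coprimes (h.coprime_q d) (dvd_pow_self p hf) e')
    · exact hp.one_lt.ne' (Nat.eq_one_of_dvd_coprimes (h.coprime_aq d) e' (dvd_pow_self p hf))
  have hfac : (Nat.card G).factorization p = f := by
    rw [h.card_G d, ← mul_assoc,
      Nat.factorization_mul (show 2 * Nat.card K * a ≠ 0 from mul_ne_zero
        (mul_ne_zero two_ne_zero Nat.card_pos.ne') (h.a_pos d).ne') (pow_ne_zero f hp.ne_zero),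
      Finsupp.add_apply, Nat.factorization_eq_zero_of_not_dvd hndvd, zero_add,
      Nat.Prime.factorization_pow hp, Finsupp.single_eq_same]
  obtain ⟨g, hg⟩ := MulAction.exists_smul_eq G (Sylow.ofCard P (by rw [hP, hfac]))
    (Sylow.ofCard R (by rw [hR, hfac]))
  have hPg : R = P.map (MulAut.conj g).toMonoidHom := by
    have e := congrArg Sylow.toSubgroup hg
    rw [Sylow.coe_subgroup_smul, Sylow.coe_ofCard, Sylow.coe_ofCard] at e
    rw [← e]
    rfl
  refine ⟨g, fun x hx => hPg ▸ ⟨x, hx, rfl⟩, fun y hy => ?_⟩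
  rw [hPg] at hy
  obtain ⟨x, hx, rfl⟩ := hy
  simpa [mul_assoc] using hx

theorem mem_zset_of_mem {P : Subgroup G} (hP : Nat.card P = q) {x : G} (hx : x ∈ P)
    (hx1 : x ≠ 1) : x ∈ zset K q := by
  have hd : orderOf x ∣ q := hP ▸ Subgroup.orderOf_dvd_natCard P hx
  obtain ⟨p, hp, hpx⟩ := Nat.exists_prime_and_dvd (n := orderOf x)
    (fun e => hx1 (orderOf_eq_one_iff.1 e))
  exact h.mem_zset_of_prime d hp (hpx.trans hd)
    (h.mem_out_of_coprime hx1 ((h.coprime_q d).coprime_dvd_left hd)) hpx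

/-- The consequences of having an abelian centralizer of order `q`. -/
theorem abelian_facts {Q : Subgroup G} (hQ : Nat.card Q = q)
    (hab : ∀ x ∈ Q, ∀ y ∈ Q, x * y = y * x) :
    (∀ x ∈ Q, x ≠ 1 → cent x = Q) ∧
      Nat.card (Subgroup.normalizer (Q : Set G)) * (q + 1) = Nat.card G := by
  have hc : ∀ x ∈ Q, x ≠ 1 → cent x = Q := fun x hx hx1 =>
    (Subgroup.eq_of_le_of_card_ge (fun y hy => mem_cent.2 (hab y hy x hx))
      (by rw [(h.card_cent_zset d (h.mem_zset_of_mem d hQ hx hx1)).1, hQ])).symm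
  refine ⟨hc, ?_⟩
  have hN := ncard_conjInto Q (Subgroup.normalizer (Q : Set G))
    (fun g hg x hx => conj_mem_of_mem_normalizer hg hx)
    (fun g x hx hx1 hgx => mem_normalizer_of_cent (hc x hx hx1)
      (hc _ hgx (fun e => hx1 (conj_eq_one_iff.1 e))))
  have e : conjInto Q = zset K q := by
    ext z
    refine ⟨fun hz => ?_, fun hz => ?_⟩
    · obtain ⟨g, x, hx, hx1, rfl⟩ := exists_eq_conj hz
      exact h.conj_mem_zset d (h.mem_zset_of_mem d hQ hx hx1) g
    · obtain ⟨g, -, hg⟩ := h.exists_conj_of_card d hQ (h.card_cent_zset d hz).1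
      exact ⟨hz.1.1, g, hg z (self_mem_cent z)⟩
  rw [e, hQ] at hN
  have h1 := d.ncard_Z
  obtain ⟨j, rfl⟩ : ∃ j, q = j + 1 := ⟨q - 1, (Nat.sub_add_cancel (h.q_pos d)).symm⟩
  rw [hN, Nat.add_sub_cancel] at h1
  have hj : 0 < j := by have := h.one_lt_q d; omega
  have hidx : (Subgroup.normalizer (Q : Set G)).index = j + 1 + 1 :=
    Nat.eq_of_mul_eq_mul_right hj (by linarith)
  rw [← hidx, Subgroup.card_mul_index]

theorem two_q : 2 * Nat.card G = q * (q + 1) * (q - 1) := by
  rw [h.card_G d]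
  obtain ⟨j, rfl⟩ : ∃ j, q = j + 1 := ⟨q - 1, (Nat.sub_add_cancel (h.q_pos d)).symm⟩
  rw [Nat.add_sub_cancel]
  have := h.sq_eq d
  have hsq : (j + 1 + 1) * j = 4 * Nat.card K * a := by linarith
  calc 2 * (2 * Nat.card K * (a * (j + 1))) = (j + 1) * (4 * Nat.card K * a) := by ring
    _ = (j + 1) * (j + 1 + 1) * j := by rw [← hsq]; ring

/-- All the possible bounds on the numbers of inverting involutions are attained. -/
theorem real_bound (r : ℕ) (hr : ∀ y ∈ zset K q, (invols y).ncard ≤ r)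
    (htot : (zset K q).ncard * r + ((out K).ncard - (zset K q).ncard) * a =
      (cent t).index * (invertedBy K t).ncard) :
    (∀ y ∈ zset K q, (invols y).ncard = r) ∧
      ∀ y ∈ out K, y ∉ zset K q → (invols y).ncard = a := by
  classical
  have := Fintype.ofFinite G
  set b : G → ℕ := fun y => if y ∈ zset K q then r else a with hb
  have hle : ∀ y ∈ Finset.univ.filter (· ∈ out K), (invols y).ncard ≤ b y := by
    intro y hy
    have hyo := (Finset.mem_filter.1 hy).2
    simp only [hb]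
    split_ifs with hz
    · exact hr y hz
    · rcases h.ncard_invols_eq y hyo with e | e <;> rw [e]
      · exact Nat.zero_le _
      · exact Nat.le_of_dvd (h.a_pos d) ((d.dvd_or y hyo).resolve_left fun e' => hz ⟨hyo, e'⟩)
  have hsum : ∑ y ∈ Finset.univ.filter (· ∈ out K), (invols y).ncard =
      ∑ y ∈ Finset.univ.filter (· ∈ out K), b y := by
    rw [h.sum_ncard_invols, ← htot, ← Finset.sum_filter_add_sum_filter_not
      (Finset.univ.filter (· ∈ out K)) (· ∈ zset K q)]
    have e1 : (Finset.univ.filter (· ∈ out K)).filter (· ∈ zset K q) =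
        (zset K q).toFinite.toFinset := by
      ext y
      simp only [Finset.mem_filter, Finset.mem_univ, true_and, Set.Finite.mem_toFinset]
      exact ⟨fun e => e.2, fun e => ⟨e.1, e⟩⟩
    have e2 : ((Finset.univ.filter (· ∈ out K)).filter fun y => ¬ y ∈ zset K q) =
        (out K \ zset K q).toFinite.toFinset := by
      ext y
      simp
    rw [Finset.sum_congr rfl (fun y hy => if_pos (Finset.mem_filter.1 hy).2),
      Finset.sum_congr (s₁ := (Finset.univ.filter (· ∈ out K)).filter fun y => ¬ y ∈ zset K q) rfl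
        (fun y hy => if_neg (Finset.mem_filter.1 hy).2),
      Finset.sum_const, Finset.sum_const, smul_eq_mul, smul_eq_mul, e1, e2,
      ← Set.ncard_eq_toFinset_card, ← Set.ncard_eq_toFinset_card,
      Set.ncard_sdiff (fun y hy => hy.1)]
  have := (Finset.sum_eq_sum_iff_of_le hle).1 hsum
  refine ⟨fun y hy => ?_, fun y hy hz => ?_⟩
  · have e := this y (Finset.mem_filter.2 ⟨Finset.mem_univ _, hy.1⟩)
    rw [e]; exact if_pos hy
  · have e := this y (Finset.mem_filter.2 ⟨Finset.mem_univ _, hy⟩)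
    rw [e]; exact if_neg hz

theorem exists_inverted_by_t {y : G} (hy : y ∈ zset K q) (hne : (invols y).Nonempty) :
    ∃ x ∈ zset K q, t * x * t⁻¹ = x⁻¹ := by
  obtain ⟨u, hu2, hu⟩ := hne
  obtain ⟨c, rfl⟩ := isConj_iff.1 (h.all_conj t u h.ht hu2)
  refine ⟨c⁻¹ * y * c, by simpa using h.conj_mem_zset d hy c⁻¹, ?_⟩
  calc t * (c⁻¹ * y * c) * t⁻¹ = c⁻¹ * (c * t * c⁻¹ * y * (c * t * c⁻¹)⁻¹) * c := by group
    _ = (c⁻¹ * y * c)⁻¹ := by rw [hu]; group

/-- The case `q = 2|K| + 1`. -/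
theorem conclusion_plus (hp : q = 2 * Nat.card K + 1) (ha : a = Nat.card K + 1) :
    Conclusion G := by
  obtain ⟨hZreal, -⟩ := h.real_bound d q (fun y hy => by
      rcases h.ncard_invols_eq y hy.1 with e | e <;> rw [e]
      · exact Nat.zero_le _
      · rw [(h.card_cent_zset d hy).1]) (by
    have h1 := d.ncard_Z
    have h2 := h.ncard_out
    have h3 := h.ncard_invertedBy
    rw [d.index_eq] at h2 h3 ⊢
    rw [hp] at h1 h2 h3
    rw [ha] at h2 h3
    have hz : (zset K q).ncard = 4 * Nat.card K * (Nat.card K + 1) := by rw [hp]; linarith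
    have hm : (out K).ncard - (zset K q).ncard =
        (2 * Nat.card K + 1) * (Nat.card K * Nat.card K) := by
      rw [hz]; refine Nat.sub_eq_of_eq_add ?_; linarith
    have hr : (invertedBy K t).ncard = Nat.card K * Nat.card K + 4 * Nat.card K := by linarith
    rw [hm, hz, hr, hp, ha]; ring)
  obtain ⟨y, hy⟩ : (zset K q).Nonempty := by
    rw [Set.nonempty_iff_ne_empty]
    intro e
    have := d.ncard_Z
    rw [e, Set.ncard_empty] at this
    have := h.one_lt_q d
    nlinarith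
  obtain ⟨x, hx, hxt⟩ := h.exists_inverted_by_t d hy
    (Set.nonempty_of_ncard_ne_zero (by rw [hZreal y hy]; exact (h.q_pos d).ne'))
  obtain ⟨hinv, hab⟩ := h.inverts_cent h.ht hx.1 hxt
  have hQ := (h.card_cent_zset d hx).1
  obtain ⟨hcent, hN⟩ := h.abelian_facts d hQ hab
  set Q := cent x with hQdef
  set N := Subgroup.normalizer (Q : Set G) with hNdef
  have hNcard : Nat.card N = Nat.card K * q := by
    refine Nat.eq_of_mul_eq_mul_right (show 0 < q + 1 by omega) ?_
    rw [hN, h.card_G d, hp, ha]; ring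
  have htN : t ∈ N := mem_normalizer_of_conj fun z hz => by rw [hinv z hz]; exact Q.inv_mem hz
  have hQout : ∀ z ∈ Q, z ≠ 1 → z ∈ out K := fun z hz h1 => h.mem_out_of_mem_cent hx.1 hz h1
  have hQt : ∀ z ∈ Q, z ∈ cent t → z = 1 := by
    intro z hz hzt
    by_contra h1
    exact h.not_commute_involution h.ht (hQout z hz h1) (mem_cent.1 hzt).symm
  -- every involution of the normalizer outside `Q` is `t` times an element of `Q`
  have hinvol : ∀ v ∈ N, orderOf v = 2 → t * v ∈ Q := by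
    intro v hv hv2
    have hi := (inverts_of_free Q (Involution.mul_self hv2)
      (fun z hz => conj_mem_of_mem_normalizer hv hz) fun z hz hc => by
        by_contra h1
        exact h.not_commute_involution hv2 (hQout z hz h1) hc).1 x (self_mem_cent x)
    refine mem_cent.2 (conj_eq_iff.1 ?_)
    calc t * v * x * (t * v)⁻¹ = t * (v * x * v⁻¹) * t⁻¹ := by group
      _ = (t * x * t⁻¹)⁻¹ := by rw [hi]; group
      _ = x := by rw [hxt, inv_inv]
  -- the part of the normalizer in the centralizer of `t` is `K`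
  set C := N ⊓ cent t with hC
  have hbij : Function.Bijective (fun p : Q × C =>
      (⟨p.1 * p.2, N.mul_mem (Subgroup.le_normalizer p.1.2) (Subgroup.mem_inf.1 p.2.2).1⟩ : N)) := by
    refine ⟨fun p p' e => ?_, fun g => ?_⟩
    · have e' : (p.1 : G) * p.2 = p'.1 * p'.2 := congrArg Subtype.val e
      have hm : (p'.1 : G)⁻¹ * p.1 = p'.2 * (p.2 : G)⁻¹ := by
        rw [eq_mul_inv_iff_mul_eq, mul_assoc, e', inv_mul_cancel_left]
      have h1 := hQt _ (Q.mul_mem (Q.inv_mem p'.1.2) p.1.2) (hm ▸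
        (cent t).mul_mem (Subgroup.mem_inf.1 p'.2.2).2
          ((cent t).inv_mem (Subgroup.mem_inf.1 p.2.2).2))
      have h2 : (p'.1 : G) = p.1 := inv_mul_eq_one.1 h1
      exact Prod.ext (Subtype.ext h2.symm) (Subtype.ext (mul_left_cancel (h2 ▸ e')))
    · have hv2 : orderOf ((g : G) * t * (g : G)⁻¹) = 2 := by rw [Involution.orderOf_conj, h.ht]
      have hvN : (g : G) * t * (g : G)⁻¹ ∈ N := N.mul_mem (N.mul_mem g.2 htN) (N.inv_mem g.2)
      have hc := hinvol _ hvN hv2
      obtain ⟨e, he, hee⟩ := exists_sq_of_odd hc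
        (Odd.of_dvd_nat (h.odd_q d) (hQ ▸ Subgroup.orderOf_dvd_natCard Q hc))
      have ht' := hinv e he
      have hconj : (g : G) * t * (g : G)⁻¹ = e⁻¹ * t * e := by
        have e1 : (g : G) * t * (g : G)⁻¹ = t * (t * ((g : G) * t * (g : G)⁻¹)) := by
          rw [← mul_assoc, h.tt, one_mul]
        rw [e1, ← hee, ← ht']
        rw [show t * e * t⁻¹ * t * e = t * (e * e) by group]
      have hm : e * g ∈ C := by
        refine Subgroup.mem_inf.2 ⟨N.mul_mem (Subgroup.le_normalizer he) g.2,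
          mem_cent.2 (conj_eq_iff.1 ?_)⟩
        calc e * g * t * (e * g)⁻¹ = e * ((g : G) * t * (g : G)⁻¹) * e⁻¹ := by group
          _ = t := by rw [hconj]; group
      exact ⟨(⟨e⁻¹, Q.inv_mem he⟩, ⟨e * g, hm⟩), Subtype.ext (by simp)⟩
  have hCcard : Nat.card C = Nat.card K := by
    have e := Nat.card_congr (Equiv.ofBijective _ hbij)
    rw [Nat.card_prod, hQ, hNcard, mul_comm (Nat.card K) q] at e
    exact Nat.eq_of_mul_eq_mul_left (h.q_pos d) e
  have hCK : C = K := by
    refine Subgroup.eq_of_le_of_card_ge (fun g hg => ?_) hCcard.ge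
    by_contra hgK
    obtain ⟨hgN, hgt⟩ := Subgroup.mem_inf.1 hg
    have h1 := hQt _ (hinvol g hgN (h.orderOf_not_mem hgt hgK))
      ((cent t).mul_mem (self_mem_cent t) hgt)
    exact hgK (by rw [eq_inv_of_mul_eq_one_right h1]; exact K.inv_mem h.t_mem)
  have hKN : K ≤ N := hCK ▸ inf_le_left
  have hcop : Nat.Coprime (Nat.card Q) (Nat.card K) := by
    rw [hQ]; exact (h.coprime_q d).coprime_mul_left_right
  have hnormK : Subgroup.normalizer (K : Set G) = cent t := by
    refine le_antisymm (fun g hg => ?_) fun g hg =>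
      mem_normalizer_of_conj fun z hz => h.conj_mem hg hz
    exact h.ti g t h.t_mem h.t_ne_one (conj_mem_of_mem_normalizer hg h.t_mem)
  refine ⟨Q, K, by rw [hQ]; exact h.two_q d, hcent,
    ⟨⟨fun a b => Subtype.ext (h.comm a a.2 b b.2)⟩⟩, by rw [hQ, hp], inf_eq_bot_of_coprime hcop,
    (sup_eq_of_card Subgroup.le_normalizer hKN hcop (by rw [hNcard, hQ, mul_comm])).symm,
    fun X hX hXne => ⟨?_, s, h.hs, h.s_not, h.inv, ?_⟩⟩
  · rw [hnormK]
    refine le_antisymm (fun g hg => ?_) fun g hg => ?_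
    · obtain ⟨⟨z, hz⟩, hz1⟩ := Subgroup.ne_bot_iff_exists_ne_one.1 hXne
      refine h.ti g z (hX hz) (fun e => hz1 (Subtype.ext e)) (hX ?_)
      exact conj_mem_of_mem_normalizer hg hz
    · refine mem_normalizer_of_conj fun z hz => ?_
      by_cases hgK : g ∈ K
      · rw [h.comm g hgK z (hX hz), mul_inv_cancel_right]; exact hz
      · rw [h.inverts_not_mem hg hgK (hX hz)]; exact X.inv_mem hz
  · rw [hnormK]
    exact le_antisymm h.cent_le (sup_le h.le_cent (Subgroup.zpowers_le.2 h.s_mem))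

/-- In the case `q = 2|K| - 1` no element of `zset` is inverted by an involution. -/
theorem not_real_minus (hp : q + 1 = 2 * Nat.card K) {y : G} (hy : y ∈ zset K q) :
    invols y = ∅ := by
  by_contra hne
  obtain ⟨u, hu⟩ := Set.nonempty_iff_ne_empty.2 hne
  obtain ⟨hinv, hab⟩ := h.inverts_cent hu.1 hy.1 hu.2
  obtain ⟨-, hN⟩ := h.abelian_facts d (h.card_cent_zset d hy).1 hab
  have huN : u ∈ Subgroup.normalizer (cent y : Set G) := mem_normalizer_of_conj fun z hz => by
    rw [hinv z hz]; exact (cent y).inv_mem hz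
  have hd := Subgroup.orderOf_dvd_natCard _ huN
  rw [hu.1, show Nat.card (Subgroup.normalizer (cent y : Set G)) = a * q from ?_] at hd
  · have ho : Odd (a * q) := d.index_eq ▸ h.odd_index
    exact Nat.not_even_iff_odd.2 ho (even_iff_two_dvd.2 hd)
  · refine Nat.eq_of_mul_eq_mul_right (show 0 < q + 1 by omega) ?_
    rw [hN, h.card_G d, ← hp]; ring

/-- The central part of a subgroup. -/
theorem center_facts {y : G} (hy : y ∈ zset K q) :
    ∀ z ∈ cent y ⊓ Subgroup.centralizer (cent y : Set G), z ≠ 1 → cent z = cent y := by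
  intro z hz hz1
  obtain ⟨hzP, hzC⟩ := Subgroup.mem_inf.1 hz
  refine (Subgroup.eq_of_le_of_card_ge
    (fun x hx => mem_cent.2 (Subgroup.mem_centralizer_iff.1 hzC x hx)) ?_).symm
  rw [(h.card_cent_zset d hy).1,
    (h.card_cent_zset d (h.mem_zset_of_mem d (h.card_cent_zset d hy).1 hzP hz1)).1]

/-- In the case `q = 2|K| - 1` the centralizers of order `q` are abelian. -/
theorem abelian_minus (hp : q + 1 = 2 * Nat.card K) (ha : a + 1 = Nat.card K) {y : G}
    (hy : y ∈ zset K q) : ∀ x ∈ cent y, ∀ z ∈ cent y, x * z = z * x := by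
  classical
  have := Fintype.ofFinite G
  set P := cent y with hPdef
  set Zc := P ⊓ Subgroup.centralizer (P : Set G) with hZcdef
  set Nn := Subgroup.normalizer (P : Set G) with hNn
  have hP : Nat.card P = q := (h.card_cent_zset d hy).1
  have hcz := h.center_facts d hy
  have hyZc : y ∈ Zc := Subgroup.mem_inf.2 ⟨self_mem_cent y,
    Subgroup.mem_centralizer_iff.2 fun x hx => mem_cent.1 hx⟩
  have hN1 : ∀ g ∈ Nn, ∀ x ∈ Zc, g * x * g⁻¹ ∈ Zc := by
    intro g hg x hx
    refine Subgroup.mem_inf.2 ⟨conj_mem_of_mem_normalizer hg (Subgroup.mem_inf.1 hx).1,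
      Subgroup.mem_centralizer_iff.2 fun w hw => ?_⟩
    have hw' : g⁻¹ * w * g ∈ P := by
      simpa using conj_mem_of_mem_normalizer (Nn.inv_mem hg) hw
    have e := Subgroup.mem_centralizer_iff.1 (Subgroup.mem_inf.1 hx).2 _ hw'
    calc w * (g * x * g⁻¹) = g * ((g⁻¹ * w * g) * x) * g⁻¹ := by group
      _ = g * x * g⁻¹ * w := by rw [e]; group
  have hTI : ∀ g x : G, x ∈ Zc → x ≠ 1 → g * x * g⁻¹ ∈ Zc → g ∈ Nn := fun g x hx hx1 hgx =>
    mem_normalizer_of_cent (hcz x hx hx1) (hcz _ hgx fun e => hx1 (conj_eq_one_iff.1 e))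
  let E := Equiv.ofBijective _ (conjInto_bijective Zc Nn hN1 hTI)
  -- every element of the set lies in the centre of a conjugate of P
  have hrep : ∀ z ∈ zset K q, ∃ g w : G, w ∈ Zc ∧ w ≠ 1 ∧ z = g * w * g⁻¹ ∧
      (∀ x ∈ P, g * x * g⁻¹ ∈ cent z) ∧ ∀ v ∈ cent z, g⁻¹ * v * g ∈ P := by
    intro z hz
    obtain ⟨g, hg1, hg2⟩ := h.exists_conj_of_card d hP (h.card_cent_zset d hz).1
    refine ⟨g, g⁻¹ * z * g, Subgroup.mem_inf.2 ⟨hg2 z (self_mem_cent z),
      Subgroup.mem_centralizer_iff.2 fun x hx => ?_⟩, fun e => hz.1.1 ?_, by group, hg1, hg2⟩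
    · have e := mem_cent.1 (hg1 x hx)
      calc x * (g⁻¹ * z * g) = g⁻¹ * ((g * x * g⁻¹) * z) * g := by group
        _ = g⁻¹ * z * g * x := by rw [e]; group
    · calc z = g * (g⁻¹ * z * g) * g⁻¹ := by group
        _ = 1 := by rw [e]; group
  have hconjInto : conjInto Zc = zset K q := by
    ext z
    refine ⟨fun hz => ?_, fun hz => ?_⟩
    · obtain ⟨g, x, hx, hx1, rfl⟩ := exists_eq_conj hz
      exact h.conj_mem_zset d (h.mem_zset_of_mem d hP (Subgroup.mem_inf.1 hx).1 hx1) g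
    · obtain ⟨g, w, hw, -, hzw, -, -⟩ := hrep z hz
      exact ⟨hz.1.1, g, by rw [hzw]; simpa [mul_assoc] using hw⟩
  set L : Set (G ⧸ Nn) := {c | ∀ x ∈ Zc, c.out * x * c.out⁻¹ ∈ P} with hL
  have hLmk : ∀ g : G, (QuotientGroup.mk g : G ⧸ Nn) ∈ L ↔ ∀ x ∈ Zc, g * x * g⁻¹ ∈ P := by
    intro g
    obtain ⟨m, hm⟩ := QuotientGroup.mk_out_eq_mul Nn g
    simp only [hL, Set.mem_ofPred_eq, hm]
    refine ⟨fun hh x hx => ?_, fun hh x hx => ?_⟩
    · have := hh _ (hN1 _ (Nn.inv_mem m.2) x hx)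
      simpa [mul_assoc] using this
    · have := hh _ (hN1 _ m.2 x hx)
      simpa [mul_assoc] using this
  -- the count over P
  set sc := Nat.card Zc with hsc
  have hl : L.ncard * (sc - 1) + 1 = q := by
    rw [← card_ne_one Zc, ← Nat.card_coe_set_eq, ← Nat.card_prod]
    have hmem : ∀ p : L × {x : G // x ∈ Zc ∧ x ≠ 1},
        (p.1 : G ⧸ Nn).out * p.2.1 * (p.1 : G ⧸ Nn).out⁻¹ ∈ (P : Set G) \ {1} := fun p =>
      ⟨p.1.2 _ p.2.2.1, fun e => p.2.2.2 (conj_eq_one_iff.1 e)⟩
    have hbij : Function.Bijective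
        (fun p : L × {x : G // x ∈ Zc ∧ x ≠ 1} => (⟨_, hmem p⟩ : ((P : Set G) \ {1} : Set G))) := by
      refine ⟨fun p p' e => ?_, ?_⟩
      · have e' : (E (p.1.1, p.2)) = E (p'.1.1, p'.2) :=
          Subtype.ext (congrArg (fun z : ((P : Set G) \ {1} : Set G) => (z : G)) e)
        have := E.injective e'
        exact Prod.ext (Subtype.ext (congrArg Prod.fst this)) (congrArg Prod.snd this :)
      · rintro ⟨z, hzP, hz1⟩
        have hzZ := h.mem_zset_of_mem d hP hzP hz1
        obtain ⟨g, w, hw, hw1, hzw, hg1, hg2⟩ := hrep z hzZ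
        obtain ⟨⟨c, x⟩, hcx⟩ := E.surjective ⟨z, hconjInto.symm ▸ hzZ⟩
        have hcx' : c.out * x.1 * c.out⁻¹ = z := congrArg Subtype.val hcx
        refine ⟨(⟨c, fun x' hx' => ?_⟩, x), Subtype.ext hcx'⟩
        -- the centre of this conjugate lies in P
        have hy1 : y ≠ 1 := hy.1.1
        have hyz : y ∈ cent z := mem_cent.2 (mem_cent.1 hzP).symm
        have hR : cent z ≤ cent (c.out * x' * c.out⁻¹) := by
          intro v hv
          have hv' : c.out⁻¹ * v * c.out ∈ cent x.1 := by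
            have := conj_mem_cent (g := c.out⁻¹) hv
            rw [← hcx'] at this
            simpa [mul_assoc] using this
          rw [hcz x.1 x.2.1 x.2.2] at hv'
          have e := Subgroup.mem_centralizer_iff.1 (Subgroup.mem_inf.1 hx').2 _ hv'
          refine mem_cent.2 ?_
          calc v * (c.out * x' * c.out⁻¹) = c.out * ((c.out⁻¹ * v * c.out) * x') * c.out⁻¹ := by group
            _ = c.out * x' * c.out⁻¹ * v := by rw [e]; group
        exact mem_cent.2 (mem_cent.1 (hR hyz)).symm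
    rw [Nat.card_congr (Equiv.ofBijective _ hbij), Nat.card_coe_set_eq,
      Set.ncard_sdiff_singleton_of_mem P.one_mem, ← Nat.card_coe_set_eq, Nat.sub_add_cancel
        (Nat.card_pos)]
    · exact hP
  have hS : Nn.index * (sc - 1) + 1 = q * q := by
    rw [← ncard_conjInto Zc Nn hN1 hTI, hconjInto, d.ncard_Z]
  have hs0 : 0 < sc - 1 := by
    have : 1 < sc := Finite.one_lt_card_iff_nontrivial.2
      ⟨⟨⟨y, hyZc⟩, 1, fun e => hy.1.1 (congrArg Subtype.val e)⟩⟩
    omega
  have hindex : Nn.index = 2 * Nat.card K * L.ncard := by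
    refine Nat.eq_of_mul_eq_mul_right hs0 ?_
    have := h.sq_eq d
    have h2 : q = 2 * a + 1 := by omega
    rw [mul_assoc, show L.ncard * (sc - 1) = 2 * a by omega]
    linarith
  obtain ⟨e, he⟩ : ∃ e, Nat.card Nn = q * e :=
    hP ▸ Subgroup.card_dvd_of_le Subgroup.le_normalizer
  have hel : e * L.ncard = a := by
    have h1 := Nn.card_mul_index
    rw [he, hindex, h.card_G d] at h1
    refine Nat.eq_of_mul_eq_mul_left (Nat.mul_pos (h.q_pos d)
      (Nat.mul_pos two_pos Nat.card_pos : 0 < 2 * Nat.card K)) ?_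
    linarith
  -- conjugates of P under involutions meet P trivially
  have hmeet : ∀ u : G, orderOf u = 2 → ∀ x ∈ P, x ≠ 1 → u * x * u⁻¹ ∈ P → False := by
    intro u hu x hx hx1 hux
    have uu := Involution.mul_self hu
    let Pu : Subgroup G := P ⊓ P.comap (MulAut.conj u).toMonoidHom
    have hmemPu : ∀ z, z ∈ Pu ↔ z ∈ P ∧ u * z * u⁻¹ ∈ P := fun z => Iff.rfl
    have hi := (inverts_of_free Pu uu (fun z hz => by
      obtain ⟨h1, h2⟩ := (hmemPu z).1 hz
      refine (hmemPu _).2 ⟨h2, ?_⟩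
      rw [Involution.inv_eq hu, show u * (u * z * u) * u = (u * u) * z * (u * u) by group, uu]
      simpa using h1) fun z hz hc => by
        by_contra hz1
        exact h.not_commute_involution hu
          (h.mem_zset_of_mem d hP ((hmemPu z).1 hz).1 hz1).1 hc).1 x ((hmemPu x).2 ⟨hx, hux⟩)
    have hmem : u ∈ invols x := ⟨hu, hi⟩
    rw [h.not_real_minus d hp (h.mem_zset_of_mem d hP hx hx1)] at hmem
    exact hmem
  set U := (Finset.univ : Finset G).filter fun u => orderOf u = 2 with hU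
  have hUcard : U.card = a * q := by
    rw [← d.index_eq, ← h.ncard_involutions, ← Set.ncard_coe_finset]
    congr 1; ext u; simp [hU]
  set I := U.image (QuotientGroup.mk : G → G ⧸ Nn) with hI
  have hfib : ∀ c ∈ I, (U.filter fun u => (QuotientGroup.mk u : G ⧸ Nn) = c).card ≤ e := by
    intro c hc
    set F := U.filter fun u => (QuotientGroup.mk u : G ⧸ Nn) = c with hF
    obtain ⟨u0, hu0, rfl⟩ := Finset.mem_image.1 hc
    have hmem : ∀ p : F × P, u0⁻¹ * p.1 * p.2 ∈ Nn := fun p => by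
      refine Nn.mul_mem ?_ (Subgroup.le_normalizer p.2.2)
      exact QuotientGroup.eq.1 (Finset.mem_filter.1 p.1.2).2.symm
    have hle := Nat.card_le_card_of_injective (fun p : F × P => (⟨_, hmem p⟩ : Nn)) fun p p' e => by
      have e' : (p.1 : G) * p.2 = p'.1 * p'.2 := by
        have := congrArg Subtype.val e
        simp only [mul_assoc] at this
        exact mul_left_cancel this
      have hv : orderOf (p.1 : G) = 2 := (Finset.mem_filter.1 (Finset.mem_filter.1 p.1.2).1).2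
      have hv' : orderOf (p'.1 : G) = 2 := (Finset.mem_filter.1 (Finset.mem_filter.1 p'.1.2).1).2
      have hrho : (p.2 : G) * (p'.2 : G)⁻¹ = 1 := by
        by_contra hne
        set r := (p.2 : G) * (p'.2 : G)⁻¹ with hr
        have hrP : r ∈ P := P.mul_mem p.2.2 (P.inv_mem p'.2.2)
        have hpr : (p'.1 : G) = p.1 * r := by
          rw [hr, ← mul_assoc, e', mul_inv_cancel_right]
        have hinv : (p.1 : G) * r * (p.1 : G)⁻¹ = r⁻¹ := by
          have := Involution.mul_self hv'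
          rw [hpr] at this
          rw [Involution.inv_eq hv]
          refine eq_inv_of_mul_eq_one_left ?_
          rw [← this]; group
        have hmem : (p.1 : G) ∈ invols r := ⟨hv, hinv⟩
        rw [h.not_real_minus d hp (h.mem_zset_of_mem d hP hrP hne)] at hmem
        exact hmem
      have h2 : (p.2 : G) = p'.2 := mul_inv_eq_one.1 hrho
      rw [h2] at e'
      exact Prod.ext (Subtype.ext (mul_right_cancel e')) (Subtype.ext h2)
    rw [Nat.card_prod, Nat.card_eq_finsetCard, hP, he, mul_comm] at hle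
    exact Nat.le_of_mul_le_mul_left hle (h.q_pos d)
  have hIL : ∀ c ∈ I, c ∉ L := by
    intro c hc hcL
    obtain ⟨u, hu, rfl⟩ := Finset.mem_image.1 hc
    exact hmeet u (Finset.mem_filter.1 hu).2 y (self_mem_cent y) hy.1.1 ((hLmk u).1 hcL y hyZc)
  have hIall : ∀ c : G ⧸ Nn, c ∉ L → c ∈ I := by
    have h1 : a * q ≤ e * I.card := hUcard ▸ Finset.card_le_mul_card_image U e hfib
    have h2 : Lᶜ.ncard = (q : ℕ) * L.ncard := by
      have := Set.ncard_add_ncard_compl L
      rw [← Nn.index_eq_card, hindex, ← hp] at this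
      linarith
    have hsub : (I : Set (G ⧸ Nn)) ⊆ Lᶜ := fun c hc => hIL c hc
    have heq : (I : Set (G ⧸ Nn)) = Lᶜ := by
      refine Set.eq_of_subset_of_ncard_le hsub ?_ (Set.toFinite _)
      rw [h2, Set.ncard_coe_finset]
      have he0 : 0 < e := Nat.pos_of_ne_zero fun e0 => (h.a_pos d).ne' (by rw [← hel, e0, zero_mul])
      refine Nat.le_of_mul_le_mul_left ?_ he0
      calc e * (q * L.ncard) = q * (e * L.ncard) := by ring
        _ = a * q := by rw [hel, mul_comm]
        _ ≤ e * I.card := h1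
    intro c hc
    exact (Set.ext_iff.1 heq c).2 hc
  have key : ∀ g x : G, x ∈ P → x ≠ 1 → g * x * g⁻¹ ∈ P → ∀ w ∈ Zc, g * w * g⁻¹ ∈ P := by
    intro g x hx hx1 hgx
    by_contra hn
    obtain ⟨u, hu, hug⟩ := Finset.mem_image.1 (hIall _ (fun hc => hn ((hLmk g).1 hc)))
    have hm : u⁻¹ * g ∈ Nn := QuotientGroup.eq.1 hug
    refine hmeet u (Finset.mem_filter.1 hu).2 _ (conj_mem_of_mem_normalizer hm hx)
      (fun e => hx1 (conj_eq_one_iff.1 e)) ?_
    rwa [show u * (u⁻¹ * g * x * (u⁻¹ * g)⁻¹) * u⁻¹ = g * x * g⁻¹ by group]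
  intro x hx z hz
  by_cases hx1 : x = 1
  · simp [hx1]
  by_cases hz1 : z = 1
  · simp [hz1]
  obtain ⟨g1, w1, hw1, -, hxw, hg1, hg1'⟩ := hrep x (h.mem_zset_of_mem d hP hx hx1)
  obtain ⟨g2, w2, hw2, -, hzw, hg2, hg2'⟩ := hrep z (h.mem_zset_of_mem d hP hz hz1)
  have hyx : y ∈ cent x := mem_cent.2 (mem_cent.1 hx).symm
  have hyz : y ∈ cent z := mem_cent.2 (mem_cent.1 hz).symm
  have e0 : g1⁻¹ * g2 * (g2⁻¹ * y * g2) * (g1⁻¹ * g2)⁻¹ = g1⁻¹ * y * g1 := by group
  have hk := key (g1⁻¹ * g2) (g2⁻¹ * y * g2) (hg2' y hyz)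
    (fun e => hy.1.1 (by calc y = g2 * (g2⁻¹ * y * g2) * g2⁻¹ := by group
                           _ = 1 := by rw [e]; group))
    (by rw [e0]; exact hg1' y hyx) w2 hw2
  have hm := hg1 _ hk
  rw [show g1 * (g1⁻¹ * g2 * w2 * (g1⁻¹ * g2)⁻¹) * g1⁻¹ = g2 * w2 * g2⁻¹ by group, ← hzw] at hm
  exact (mem_cent.1 hm).symm

/-- The abelian centralizers of the elements outside `zset`, in the case `q = 2|K| - 1`. -/
theorem mset_facts (hp : q + 1 = 2 * Nat.card K) (ha : a + 1 = Nat.card K) :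
    ∀ y ∈ out K, y ∉ zset K q → ∃ u, u ∈ invols y ∧ Nat.card (cent y) = a ∧
      (∀ x ∈ cent y, x ≠ 1 → cent x = cent y) ∧
      Nat.card (Subgroup.normalizer (cent y : Set G)) = 2 * a := by
  have hnr := h.real_bound d 0 (fun y hy => by rw [h.not_real_minus d hp hy, Set.ncard_empty]) (by
    have h1 := d.ncard_Z
    have h2 := h.ncard_out
    have h3 := h.ncard_invertedBy
    rw [d.index_eq] at h2 h3 ⊢
    obtain ⟨k, hk⟩ : ∃ k, Nat.card K = k + 2 :=
      ⟨Nat.card K - 2, (Nat.sub_add_cancel h.card_K_ge).symm⟩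
    rw [hk] at hp ha h2 h3
    obtain rfl : a = k + 1 := by omega
    obtain rfl : q = 2 * k + 3 := by omega
    have hm : (out K).ncard - (zset K (2 * k + 3)).ncard = (2 * k + 3) * ((k + 2) * k) := by
      refine Nat.sub_eq_of_eq_add ?_; linarith
    have hr : (invertedBy K t).ncard = (k + 2) * k := by linarith
    rw [hm, hr]; ring)
  have hdata : ∀ y ∈ out K, y ∉ zset K q →
      (∃ u, u ∈ invols y) ∧ Nat.card (cent y) = a := by
    intro y hy hz
    have e := hnr.2 y hy hz
    rcases h.ncard_invols_eq y hy with e' | e'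
    · exact absurd (e.symm.trans e') (h.a_pos d).ne'
    · exact ⟨Set.nonempty_of_ncard_ne_zero (by rw [e]; exact (h.a_pos d).ne'), e'.symm.trans e⟩
  have hM : ∀ {A : Subgroup G}, Nat.card A = a → ∀ x ∈ A, x ≠ 1 → x ∈ out K ∧ x ∉ zset K q := by
    intro A hA x hx hx1
    have hd : orderOf x ∣ a := hA ▸ Subgroup.orderOf_dvd_natCard A hx
    refine ⟨h.mem_out_of_coprime hx1 ((h.coprime_a d).coprime_dvd_left hd), fun hz => hx1 ?_⟩
    exact orderOf_eq_one_iff.1 (Nat.eq_one_of_dvd_coprimes (h.coprime_aq d) hd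
      ((Subgroup.orderOf_dvd_natCard _ (self_mem_cent x)).trans hz.2))
  intro y hy hz
  obtain ⟨⟨u, hu⟩, hcard⟩ := hdata y hy hz
  obtain ⟨-, hab⟩ := h.inverts_cent hu.1 hy hu.2
  set A := cent y with hA
  have hc : ∀ x ∈ A, x ≠ 1 → cent x = A := fun x hx hx1 => by
    refine (Subgroup.eq_of_le_of_card_ge (fun w hw => mem_cent.2 (hab w hw x hx)) ?_).symm
    obtain ⟨ho, hnz⟩ := hM hcard x hx hx1
    rw [(hdata x ho hnz).2, hcard]
  refine ⟨u, hu, hcard, hc, ?_⟩
  have hN := ncard_conjInto A (Subgroup.normalizer (A : Set G))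
    (fun g hg x hx => conj_mem_of_mem_normalizer hg hx)
    (fun g x hx hx1 hgx => mem_normalizer_of_cent (hc x hx hx1)
      (hc _ hgx (fun e => hx1 (conj_eq_one_iff.1 e))))
  have hne1 : a ≠ 1 := by have := d.four_le; omega
  obtain ⟨r, hr, hra⟩ := Nat.exists_prime_and_dvd hne1
  have := Fact.mk hr
  have hfac : (Nat.card G).factorization r = a.factorization r := by
    have hnd : ¬ r ∣ 2 * Nat.card K * q := fun e => by
      rcases hr.dvd_mul.1 e with e' | e'
      · exact hr.one_lt.ne' (Nat.eq_one_of_dvd_coprimes (h.coprime_a d) hra e')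
      · exact hr.one_lt.ne' (Nat.eq_one_of_dvd_coprimes (h.coprime_aq d) hra e')
    rw [h.card_G d, show 2 * Nat.card K * (a * q) = 2 * Nat.card K * q * a by ring,
      Nat.factorization_mul (show 2 * Nat.card K * q ≠ 0 from mul_ne_zero
        (mul_ne_zero two_ne_zero Nat.card_pos.ne') (h.q_pos d).ne') (h.a_pos d).ne', Finsupp.add_apply,
      Nat.factorization_eq_zero_of_not_dvd hnd, zero_add]
  have hsyl : ∀ (B : Subgroup G), Nat.card B = a → ∃ R : Sylow r G, (R : Subgroup G) ≤ B := by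
    intro B hB
    let S : Sylow r B := default
    refine ⟨Sylow.ofCard ((S : Subgroup B).map B.subtype) ?_, ?_⟩
    · rw [Subgroup.card_map_of_injective B.subtype_injective, Sylow.card_eq_multiplicity, hB, hfac]
    · rw [Sylow.coe_ofCard]; exact Subgroup.map_subtype_le _
  obtain ⟨R, hR⟩ := hsyl A hcard
  have hrG : r ∣ Nat.card G := h.card_G d ▸ (hra.mul_right q).mul_left _
  have hconjA : conjInto A = out K \ zset K q := by
    ext z
    refine ⟨fun hz' => ?_, fun ⟨hzo, hzz⟩ => ?_⟩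
    · obtain ⟨g, x, hx, hx1, rfl⟩ := exists_eq_conj hz'
      obtain ⟨ho, hnz⟩ := hM hcard x hx hx1
      refine ⟨h.conj_mem_out ho g, fun e => hnz ?_⟩
      simpa [mul_assoc] using h.conj_mem_zset d e g⁻¹
    · obtain ⟨⟨v, hv⟩, hcz⟩ := hdata z hzo hzz
      obtain ⟨R', hR'⟩ := hsyl (cent z) hcz
      obtain ⟨g, hg⟩ := MulAction.exists_smul_eq G R R'
      obtain ⟨⟨x, hx⟩, hx1⟩ := Subgroup.ne_bot_iff_exists_ne_one.1 (R.ne_bot_of_dvd_card hrG)
      have hx1' : x ≠ 1 := fun e => hx1 (Subtype.ext e)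
      have hgx : g * x * g⁻¹ ∈ cent z := hR' (by
        rw [← hg, Sylow.coe_subgroup_smul]; exact ⟨x, hx, rfl⟩)
      obtain ⟨-, habz⟩ := h.inverts_cent hv.1 hzo hv.2
      have hz' : z ∈ cent (g * x * g⁻¹) := mem_cent.2 (habz z (self_mem_cent z) _ hgx)
      have hz'' := conj_mem_cent (g := g⁻¹) hz'
      rw [show g⁻¹ * (g * x * g⁻¹) * g⁻¹⁻¹ = x by group, inv_inv, hc x (hR hx) hx1'] at hz''
      exact ⟨hzo.1, g, hz''⟩
  rw [hconjA, Set.ncard_sdiff (fun w hw => hw.1), hcard] at hN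
  have h1 := d.ncard_Z
  have h2 := h.ncard_out
  rw [d.index_eq] at h2
  obtain ⟨k, hk⟩ : ∃ k, Nat.card K = k + 2 :=
    ⟨Nat.card K - 2, (Nat.sub_add_cancel h.card_K_ge).symm⟩
  obtain rfl : a = k + 1 := by omega
  obtain rfl : q = 2 * k + 3 := by omega
  rw [hk] at h2
  have hk0 : 0 < k := by have := d.four_le; omega
  rw [Nat.add_sub_cancel, Nat.sub_eq_of_eq_add (show (out K).ncard =
    (2 * k + 3) * ((k + 2) * k) + (zset K (2 * k + 3)).ncard by linarith)] at hN
  have hidx : (Subgroup.normalizer (A : Set G)).index = (2 * k + 3) * (k + 2) :=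
    Nat.eq_of_mul_eq_mul_right hk0 (by rw [← hN]; ring)
  have := (Subgroup.normalizer (A : Set G)).card_mul_index
  rw [hidx, h.card_G d, hk] at this
  refine Nat.eq_of_mul_eq_mul_right (show 0 < (2 * k + 3) * (k + 2) by positivity) ?_
  rw [this]; ring

/-- The case `q = 2|K| - 1`. -/
theorem conclusion_minus (hp : q + 1 = 2 * Nat.card K) (ha : a + 1 = Nat.card K) :
    Conclusion G := by
  obtain ⟨y, hy⟩ : (zset K q).Nonempty := by
    rw [Set.nonempty_iff_ne_empty]
    intro e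
    have := d.ncard_Z
    rw [e, Set.ncard_empty] at this
    have := h.one_lt_q d
    nlinarith
  set Q := cent y with hQdef
  have hQ : Nat.card Q = q := (h.card_cent_zset d hy).1
  obtain ⟨hcent, hN⟩ := h.abelian_facts d hQ (h.abelian_minus d hp ha hy)
  set N := Subgroup.normalizer (Q : Set G) with hNdef
  have hNcard : Nat.card N = q * a := by
    refine Nat.eq_of_mul_eq_mul_right (show 0 < q + 1 by omega) ?_
    rw [hN, h.card_G d, ← hp]; ring
  have hcop : Nat.Coprime (Nat.card Q) a := by rw [hQ]; exact (h.coprime_aq d).symm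
  obtain ⟨D, hDN, hD⟩ := exists_complement (Q := Q) (N := N) Subgroup.le_normalizer le_rfl
    (by rw [hQ, hNcard]) hcop
  have hM := h.mset_facts d hp ha
  have hDout : ∀ x ∈ D, x ≠ 1 → x ∈ out K ∧ x ∉ zset K q := by
    intro x hx hx1
    have hd : orderOf x ∣ a := hD ▸ Subgroup.orderOf_dvd_natCard D hx
    refine ⟨h.mem_out_of_coprime hx1 ((h.coprime_a d).coprime_dvd_left hd), fun hz => hx1 ?_⟩
    exact orderOf_eq_one_iff.1 (Nat.eq_one_of_dvd_coprimes (h.coprime_aq d) hd
      ((Subgroup.orderOf_dvd_natCard _ (self_mem_cent x)).trans hz.2))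
  -- a normalizing element of the odd part of the complement lies in the centralizer
  have hself : ∀ x ∈ D, x ≠ 1 → ∀ g ∈ D, g ∈ Subgroup.normalizer (cent x : Set G) →
      g ∈ cent x := by
    intro x hx hx1 g hg hgN
    obtain ⟨u, -, hcx, -, hnc⟩ := hM x (hDout x hx hx1).1 (hDout x hx hx1).2
    refine mem_of_odd_of_sq_mem ?_ (Odd.of_dvd_nat (h.odd_a d)
      (hD ▸ Subgroup.orderOf_dvd_natCard D hg))
    have hidx : ((cent x).subgroupOf (Subgroup.normalizer (cent x : Set G))).index = 2 := by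
      have := ((cent x).subgroupOf (Subgroup.normalizer (cent x : Set G))).card_mul_index
      rw [Nat.card_congr (Subgroup.subgroupOfEquivOfLe Subgroup.le_normalizer).toEquiv, hcx,
        hnc, mul_comm 2 a] at this
      exact Nat.eq_of_mul_eq_mul_left (h.a_pos d) this
    exact Subgroup.mem_subgroupOf.1
      (Subgroup.mul_self_mem_of_index_two hidx (⟨g, hgN⟩ : Subgroup.normalizer (cent x : Set G)))
  obtain ⟨⟨x, hxD⟩, hx1⟩ := Subgroup.ne_bot_iff_exists_ne_one.1
    (show D ≠ ⊥ from fun e => by rw [e, Subgroup.card_bot] at hD; have := d.four_le; omega)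
  have hx1' : x ≠ 1 := fun e => hx1 (Subtype.ext e)
  obtain ⟨u, hu, hcx, hcAll, hnA⟩ := hM x (hDout x hxD hx1').1 (hDout x hxD hx1').2
  -- the complement is the centralizer of each of its non-identity elements
  have hDA : D ≤ cent x := by
    have hBfacts : ∀ z : D, z ≠ 1 → (conjInto ((cent (z : G)).subgroupOf D)).ncard +
        ((cent (z : G)).subgroupOf D).index = Nat.card D ∧
        3 * ((cent (z : G)).subgroupOf D).index ≤ Nat.card D := by
      intro z hz
      have hz1 : (z : G) ≠ 1 := fun e => hz (Subtype.ext e)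
      obtain ⟨-, -, -, hcz, -⟩ := hM z (hDout z z.2 hz1).1 (hDout z z.2 hz1).2
      set B := (cent (z : G)).subgroupOf D with hB
      have hN := ncard_conjInto B B
        (fun g hg w hw => B.mul_mem (B.mul_mem hg hw) (B.inv_mem hg))
        (fun g w hw hw1 hgw => Subgroup.mem_subgroupOf.2 (hself z z.2 hz1 g g.2
          (mem_normalizer_of_cent (hcz w (Subgroup.mem_subgroupOf.1 hw)
            (fun e => hw1 (Subtype.ext e))) (hcz _ (Subgroup.mem_subgroupOf.1 hgw)
            (fun e => hw1 (conj_eq_one_iff.1 (Subtype.ext e)))))))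
      have hB2 : 2 ≤ Nat.card B := Finite.one_lt_card_iff_nontrivial.2
        ⟨⟨⟨z, Subgroup.mem_subgroupOf.2 (self_mem_cent _)⟩, 1,
          fun e => hz (congrArg Subtype.val e)⟩⟩
      have hB3 : 3 ≤ Nat.card B := by
        obtain ⟨j, hj⟩ := Odd.of_dvd_nat (hD.symm ▸ h.odd_a d) (Subgroup.card_subgroup_dvd_card B)
        omega
      have hmul := B.index_mul_card
      rw [hN, Nat.mul_sub, mul_one, Nat.sub_add_cancel (by nlinarith), ← hmul]
      exact ⟨rfl, by nlinarith⟩
    intro z hz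
    by_contra hzA
    set B := (cent x).subgroupOf D with hB
    obtain ⟨hcount, hsmall⟩ : (conjInto B).ncard + B.index = Nat.card D ∧
        3 * B.index ≤ Nat.card D := hBfacts ⟨x, hxD⟩ hx1
    have hBne : B.index ≠ 1 := fun e => hzA (by
      rw [Subgroup.index_eq_one] at e
      exact Subgroup.mem_subgroupOf.1 (show (⟨z, hz⟩ : D) ∈ B from e ▸ Subgroup.mem_top _))
    -- an element outside all conjugates
    obtain ⟨w, hw1, hw⟩ : ∃ w : D, w ≠ 1 ∧ w ∉ conjInto B := by
      by_contra hall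
      push Not at hall
      have hsub : ({1}ᶜ : Set D) ⊆ conjInto B := fun w hw => hall w hw
      have := Set.ncard_le_ncard hsub (Set.toFinite _)
      rw [Set.ncard_compl, Set.ncard_singleton] at this
      have := B.index_ne_zero_of_finite
      omega
    obtain ⟨hcount', hsmall'⟩ := hBfacts w hw1
    have hdisj : Disjoint (conjInto B) (conjInto ((cent (w : G)).subgroupOf D)) := by
      rw [Set.disjoint_left]
      intro v hv hv'
      obtain ⟨g1, b, hb, hb1, rfl⟩ := exists_eq_conj hv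
      obtain ⟨g2, b', hb', hb1', he⟩ := exists_eq_conj hv'
      refine hw ⟨hw1, g2⁻¹ * g1, Subgroup.mem_subgroupOf.2 ?_⟩
      have hw1' : (w : G) ≠ 1 := fun e => hw1 (Subtype.ext e)
      obtain ⟨-, -, -, hcw, -⟩ := hM w (hDout w w.2 hw1').1 (hDout w w.2 hw1').2
      have hbx := hcAll b (Subgroup.mem_subgroupOf.1 hb) (fun e => hb1 (Subtype.ext e))
      have hbw := hcw b' (Subgroup.mem_subgroupOf.1 hb') (fun e => hb1' (Subtype.ext e))
      have hwm : (w : G) ∈ cent (b' : G) := hbw ▸ self_mem_cent _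
      have e2 : (b' : G) = ((g2⁻¹ * g1 : D) : G) * b * ((g2⁻¹ * g1 : D) : G)⁻¹ := by
        have : (b' : D) = g2⁻¹ * g1 * b * (g2⁻¹ * g1)⁻¹ := by
          calc b' = g2⁻¹ * (g2 * b' * g2⁻¹) * g2 := by group
            _ = g2⁻¹ * g1 * b * (g2⁻¹ * g1)⁻¹ := by rw [← he]; group
        exact congrArg Subtype.val this
      rw [e2] at hwm
      have := conj_mem_cent (g := ((g2⁻¹ * g1 : D) : G)⁻¹) hwm
      rw [← hbx]
      simpa [mul_assoc] using this
    have hle := Set.ncard_le_ncard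
      (show conjInto B ∪ conjInto ((cent (w : G)).subgroupOf D) ⊆ ({1}ᶜ : Set D) from
        Set.union_subset (fun v hv => hv.1) (fun v hv => hv.1)) (Set.toFinite _)
    rw [Set.ncard_union_eq hdisj, Set.ncard_compl, Set.ncard_singleton] at hle
    have := Nat.card_pos (α := D)
    omega
  have hDeq : D = cent x := Subgroup.eq_of_le_of_card_ge hDA (by rw [hcx, hD])
  obtain ⟨hiA, habA⟩ := h.inverts_cent hu.1 (hDout x hxD hx1').1 hu.2
  rw [← hDeq] at hiA habA hnA hcAll
  have huD : u ∉ D := fun e => by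
    have := Subgroup.orderOf_dvd_natCard D e
    rw [hu.1, hD] at this
    exact Nat.not_even_iff_odd.2 (h.odd_a d) (even_iff_two_dvd.2 this)
  have huN : u ∈ Subgroup.normalizer (D : Set G) := mem_normalizer_of_conj fun z hz => by
    rw [hiA z hz]; exact D.inv_mem hz
  have hnorm : Subgroup.normalizer (D : Set G) = D ⊔ Subgroup.zpowers u := by
    refine (sup_eq_of_card Subgroup.le_normalizer (Subgroup.zpowers_le.2 huN) ?_ ?_).symm
    · rw [hD, Nat.card_zpowers, hu.1]; exact Nat.coprime_two_right.2 (h.odd_a d)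
    · rw [hnA, hD, Nat.card_zpowers, hu.1, mul_comm]
  refine ⟨Q, D, by rw [hQ]; exact h.two_q d, hcent, ⟨⟨fun b c => Subtype.ext (habA b b.2 c c.2)⟩⟩,
    by rw [hQ, hD]; omega, inf_eq_bot_of_coprime (by rw [hD]; exact hcop),
    (sup_eq_of_card Subgroup.le_normalizer hDN (by rw [hD]; exact hcop)
      (by rw [hNcard, hQ, hD])).symm, fun X hX hXne => ⟨?_, u, hu.1, huD, hiA, hnorm⟩⟩
  refine le_antisymm (fun g hg => ?_) ?_
  · obtain ⟨⟨z, hz⟩, hz1⟩ := Subgroup.ne_bot_iff_exists_ne_one.1 hXne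
    have hz1' : z ≠ 1 := fun e => hz1 (Subtype.ext e)
    exact mem_normalizer_of_cent (hcAll z (hX hz) hz1')
      (hcAll _ (hX (conj_mem_of_mem_normalizer hg hz)) (fun e => hz1' (conj_eq_one_iff.1 e)))
  · rw [hnorm]
    refine sup_le (fun g hg => mem_normalizer_of_conj fun z hz => ?_)
      (Subgroup.zpowers_le.2 (mem_normalizer_of_conj fun z hz => ?_))
    · rw [habA g hg z (hX hz), mul_inv_cancel_right]; exact hz
    · rw [hiA z (hX hz)]; exact X.inv_mem hz

omit d in
theorem conclusion_of_four_le (h4 : 4 ≤ Nat.card K) : Conclusion G := by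
  obtain ⟨q, a, h1, h2, h3, h5⟩ := h.char_facts h4
  have d : Data t K q a := ⟨h4, h1, h2, h3, h5⟩
  rcases h2 with ⟨e1, e2⟩ | ⟨e1, e2⟩
  · exact h.conclusion_plus d e1 e2
  · exact h.conclusion_minus d e1 e2

end Hyp

end Cfsg.Agent.BSW
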