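import Cfsg.Agent.Lib.BSW.Main
import Cfsg.Agent.Lib.SecondMain.DihedralSylow
import Cfsg.Agent.Lib.ExtLayer.Basic
import Cfsg.Agent.Lib.Cores.Basic
import Cfsg.Agent.Lib.ZStar.KleinSimple
import Cfsg.Agent.S0107

/-!
# The Brauer-Suzuki-Wall hypotheses from a dihedral Sylow 2-subgroup

`exists_hyp` : a simple group with a dihedral Sylow 2-subgroup in which the core of an involution
centralizer is inverted outside a cyclic subgroup of index two and is TI satisfies `Hyp`.
-/

set_option autoImplicit false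

namespace Cfsg.Agent.BSW.Core

open Cfsg Subgroup

variable {G : Type*} [Group G] [Finite G]

/-- Involutions in a cyclic group coincide. -/
theorem eq_of_mem_cyclic {R : Subgroup G} [IsCyclic R] {x y : G} (hx : x ∈ R) (hy : y ∈ R)
    (hx2 : orderOf x = 2) (hy2 : orderOf y = 2) : x = y := by
  obtain ⟨g, hg⟩ := IsCyclic.exists_generator (α := R)
  have hm : ∀ {z : G} (hz : z ∈ R), z ∈ Subgroup.zpowers (g : G) := fun {z} hz => by
    obtain ⟨k, hk⟩ := mem_zpowers_iff.mp (hg ⟨z, hz⟩)
    exact mem_zpowers_iff.mpr ⟨k, congrArg Subtype.val hk⟩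
  exact KleinSimple.eq_of_orderOf_two (isOfFinOrder_of_finite _) (hm hx) (hm hy) hx2 hy2

/-- All involutions of a simple group with dihedral Sylow 2-subgroups are conjugate. -/
theorem all_conj [IsSimpleGroup G] (S : Sylow 2 G) {n : ℕ} (hn : 2 ≤ n)
    (e : (S : Subgroup G) ≃* DihedralGroup n) {x y : G} (hx : orderOf x = 2) (hy : orderOf y = 2) :
    IsConj x y := by
  obtain ⟨a, rfl⟩ := Transfer.exists_two_pow_of_dihedral S (by omega) e
  rcases a with _ | _ | a
  · norm_num at hn
  · have hK : IsKleinFour (S : Subgroup G) :=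
      Transfer.isKleinFour_congr e.symm
        ⟨by rw [DihedralGroup.nat_card]; norm_num, by rw [DihedralGroup.exponent]; rfl⟩
    exact KleinSimple.isConj_involutions S hx hy
  · refine isConj_iff.mpr (S0107.result S (a + 2) (by omega) ⟨e⟩ ?_ x y hx hy)
    by_contra hne
    obtain ⟨M, hM⟩ := Transfer.exists_index_two_iff.2 hne
    haveI := Subgroup.normal_of_index_eq_two hM
    have h4 : 2 < Nat.card G := by
      have h := Nat.le_of_dvd Nat.card_pos (S : Subgroup G).card_subgroup_dvd_card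
      rw [Nat.card_congr e.toEquiv, DihedralGroup.nat_card] at h
      omega
    exact KleinSimple.no_index_two h4 M hM

/-- The centralizer of a central involution of the dihedral Sylow subgroup has a normal
2-complement. -/
theorem complement_cent (S : Sylow 2 G) {n : ℕ} (hn : 2 ≤ n)
    (e : (S : Subgroup G) ≃* DihedralGroup n) {t : G} (ht : orderOf t = 2) (htS : t ∈ (S : Subgroup G))
    (htZ : ∀ s ∈ (S : Subgroup G), s * t = t * s) :
    HasNormalPComplement 2 (centralizer ({t} : Set G)) := by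
  have := Fact.mk Nat.prime_two
  obtain ⟨a, rfl⟩ := Transfer.exists_two_pow_of_dihedral S (by omega) e
  rcases a with _ | _ | a
  · norm_num at hn
  · -- a four-group
    have hSC : (S : Subgroup G) ≤ centralizer ({t} : Set G) := fun s hs =>
      mem_centralizer_singleton_iff.mpr (htZ s hs)
    have hc : Nat.card (S.subtype hSC : Subgroup (centralizer ({t} : Set G))) = 4 :=
      (Nat.card_congr (subgroupOfEquivOfLe hSC).toEquiv).trans
        (by rw [Nat.card_congr e.toEquiv, DihedralGroup.nat_card]; norm_num)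
    refine SecondMain.complement_of_fix (S.subtype hSC) (u := ⟨t, hSC htS⟩)
      (mem_center_iff.mpr fun g => Subtype.ext (mem_centralizer_singleton_iff.mp g.2))
      (fun h => by
        have := congrArg Subtype.val h
        simp only [OneMemClass.coe_one] at this
        rw [this, orderOf_one] at ht
        omega) fun R hR => ?_
    have hd : Nat.card R ∣ 2 ^ 2 := by
      rw [show (2 : ℕ) ^ 2 = Nat.card (S.subtype hSC : Subgroup (centralizer ({t} : Set G))) by rw [hc]; norm_num]
      exact Subgroup.card_dvd_of_le hR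
    obtain ⟨i, hi, hcard⟩ := (Nat.dvd_prime_pow Nat.prime_two).mp hd
    interval_cases i
    · left
      have : IsCyclic R := by
        have := (Nat.card_eq_one_iff_unique.mp hcard).1
        infer_instance
      exact Transfer.isPGroup_mulAut_of_isCyclic ((S.subtype hSC).2.to_le hR)
    · left
      have : IsCyclic R := isCyclic_of_prime_card (p := 2) (by simpa using hcard)
      exact Transfer.isPGroup_mulAut_of_isCyclic ((S.subtype hSC).2.to_le hR)
    · right
      refine ⟨?_, by simpa using hcard⟩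
      rw [eq_of_le_of_card_ge hR (by rw [hcard, hc]; norm_num)]
      exact mem_subgroupOf.mpr htS
  · obtain ⟨σ, hσ⟩ : ∃ σ : S, e σ = DihedralGroup.r 1 := ⟨_, e.apply_symm_apply _⟩
    have D : SecondMain.DihedralData S a (σ : G) := ⟨⟨e⟩, σ.2,
      by rw [Subgroup.orderOf_coe, ← MulEquiv.orderOf_eq e, hσ, DihedralGroup.orderOf_r_one]⟩
    have htm : t = SecondMain.midRot a (σ : G) := by
      by_cases htR : t ∈ zpowers (σ : G)
      · exact (D.eq_one_or_mid htR (by rw [← sq, ← ht, pow_orderOf_eq_one])).resolve_left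
          fun h => by rw [h, orderOf_one] at ht; omega
      · exfalso
        have h1 := D.conj_inv htS htR (mem_zpowers (σ : G))
        rw [← htZ _ σ.2, mul_inv_cancel_right] at h1
        have h2 := Nat.le_of_dvd two_pos (orderOf_dvd_of_pow_eq_one (x := (σ : G)) (n := 2)
          (by rw [sq]; exact mul_eq_one_iff_eq_inv.mpr h1))
        have := D.four_le
        omega
    rw [htm]
    exact D.complement_mid.1

/-- The cyclic subgroup of index two and an inverting involution. -/
theorem exists_R (S : Sylow 2 G) {n : ℕ} (hn : 2 ≤ n) (e : (S : Subgroup G) ≃* DihedralGroup n)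
    {t : G} (ht : orderOf t = 2) (htS : t ∈ (S : Subgroup G)) (htZ : ∀ s ∈ (S : Subgroup G), s * t = t * s)
    (O : Subgroup G) (hOt : O ≤ centralizer ({t} : Set G))
    (ha : O ≠ ⊥ → IsCyclic ((S : Subgroup G) ⊓ centralizer (O : Set G) : Subgroup G) ∧
      ((S : Subgroup G) ⊓ centralizer (O : Set G)).relIndex (S : Subgroup G) = 2) :
    ∃ R : Subgroup G, R ≤ (S : Subgroup G) ∧ IsCyclic R ∧ t ∈ R ∧ R.relIndex (S : Subgroup G) = 2 ∧
      R ≤ centralizer (O : Set G) ∧
      (∀ s ∈ (S : Subgroup G), s ∉ R → O ≠ ⊥ → s ∉ centralizer (O : Set G)) ∧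
      (∀ s ∈ (S : Subgroup G), s ∉ R → s * s = 1 ∧ ∀ r ∈ R, s * r * s⁻¹ = r⁻¹) := by
  have := Fact.mk Nat.prime_two
  obtain ⟨a, rfl⟩ := Transfer.exists_two_pow_of_dihedral S (by omega) e
  have hcardS : Nat.card S = 2 * 2 ^ a := by rw [Nat.card_congr e.toEquiv, DihedralGroup.nat_card]
  -- the properties that hold for any such subgroup
  suffices h : ∃ R : Subgroup G, R ≤ (S : Subgroup G) ∧ IsCyclic R ∧ t ∈ R ∧
      R.relIndex (S : Subgroup G) = 2 ∧ R ≤ centralizer (O : Set G) ∧
      (∀ s ∈ (S : Subgroup G), s ∉ R → O ≠ ⊥ → s ∉ centralizer (O : Set G)) by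
    obtain ⟨R, hRS, hRc, htR, hidx, hRO, hout⟩ := h
    refine ⟨R, hRS, hRc, htR, hidx, hRO, hout, fun s hs hsR => ?_⟩
    have hR : Nat.card R = 2 ^ a := by
      have h := relIndex_mul_relIndex ⊥ R (S : Subgroup G) bot_le hRS
      rw [relIndex_bot_left, relIndex_bot_left, hidx, hcardS] at h
      omega
    rcases a with _ | _ | a
    · norm_num at hn
    · have hsq : ∀ g ∈ (S : Subgroup G), g * g = 1 := by
        intro g hg
        have h2 : (e ⟨g, hg⟩) * (e ⟨g, hg⟩) = 1 := by
          cases e ⟨g, hg⟩ with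
          | r i =>
            rw [DihedralGroup.r_mul_r, show i + i = 0 by
              rw [← two_mul, show (2 : ZMod (2 ^ (0 + 1))) = 0 from rfl, zero_mul]]
            exact DihedralGroup.r_zero
          | sr i => exact DihedralGroup.sr_mul_self i
        have h3 := e.injective (show e (⟨g, hg⟩ * ⟨g, hg⟩) = e 1 by rw [map_mul, h2, map_one])
        exact congrArg Subtype.val h3
      refine ⟨hsq s hs, fun r hr => ?_⟩
      have h3 := hsq (s * r) (mul_mem hs (hRS hr))
      have h4 := inv_eq_of_mul_eq_one_right (hsq s hs)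
      rw [h4]
      exact eq_inv_of_mul_eq_one_left (by rw [← h3]; group)
    · obtain ⟨σ, hσ⟩ : ∃ σ : S, e σ = DihedralGroup.r 1 := ⟨_, e.apply_symm_apply _⟩
      have D : SecondMain.DihedralData S a (σ : G) := ⟨⟨e⟩, σ.2,
        by rw [Subgroup.orderOf_coe, ← MulEquiv.orderOf_eq e, hσ, DihedralGroup.orderOf_r_one]⟩
      have hRσ : R = zpowers (σ : G) := by
        obtain ⟨g, hg⟩ := IsCyclic.exists_generator (α := R)
        have hgo : orderOf (g : G) = 2 ^ (a + 2) := by
          rw [Subgroup.orderOf_coe, ← hR, orderOf_eq_card_of_forall_mem_zpowers hg]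
        have hgσ : (g : G) ∈ zpowers (σ : G) := by
          by_contra hn'
          have h2 := Nat.le_of_dvd two_pos (orderOf_dvd_of_pow_eq_one (x := (g : G)) (n := 2)
            (by rw [sq]; exact D.sq_eq_one (hRS g.2) hn'))
          have := D.four_le
          rw [D.order] at this
          omega
        refine eq_of_le_of_card_ge (fun x hx => ?_) (by rw [Nat.card_zpowers, D.order, hR])
        obtain ⟨k, hk⟩ := mem_zpowers_iff.mp (hg ⟨x, hx⟩)
        rw [show x = (g : G) ^ k from (congrArg Subtype.val hk).symm]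
        exact zpow_mem hgσ k
      rw [hRσ] at hsR
      exact ⟨D.sq_eq_one hs hsR, fun r hr => D.conj_inv hs hsR (hRσ ▸ hr)⟩
  by_cases hO : O = ⊥
  · rcases a with _ | _ | a
    · norm_num at hn
    · refine ⟨zpowers t, zpowers_le.mpr htS, inferInstance, mem_zpowers t, ?_, ?_, fun _ _ _ h => absurd hO h⟩
      · have h := relIndex_mul_relIndex ⊥ (zpowers t) (S : Subgroup G) bot_le (zpowers_le.mpr htS)
        rw [relIndex_bot_left, relIndex_bot_left, Nat.card_zpowers, ht, hcardS] at h
        omega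
      · rw [hO]
        exact fun g _ => mem_centralizer_iff.mpr fun y hy => by rw [mem_bot.mp hy, one_mul, mul_one]
    · obtain ⟨σ, hσ⟩ : ∃ σ : S, e σ = DihedralGroup.r 1 := ⟨_, e.apply_symm_apply _⟩
      have D : SecondMain.DihedralData S a (σ : G) := ⟨⟨e⟩, σ.2,
        by rw [Subgroup.orderOf_coe, ← MulEquiv.orderOf_eq e, hσ, DihedralGroup.orderOf_r_one]⟩
      refine ⟨zpowers (σ : G), D.zpowers_le, inferInstance, ?_, ?_, ?_, fun _ _ _ h => absurd hO h⟩
      · by_contra htR
        have h1 := D.conj_inv htS htR (mem_zpowers (σ : G))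
        rw [← htZ _ σ.2, mul_inv_cancel_right] at h1
        have h2 := Nat.le_of_dvd two_pos (orderOf_dvd_of_pow_eq_one (x := (σ : G)) (n := 2)
          (by rw [sq]; exact mul_eq_one_iff_eq_inv.mpr h1))
        have := D.four_le
        omega
      · have h := relIndex_mul_relIndex ⊥ (zpowers (σ : G)) (S : Subgroup G) bot_le D.zpowers_le
        rw [relIndex_bot_left, relIndex_bot_left, Nat.card_zpowers, D.order, hcardS] at h
        exact Nat.eq_of_mul_eq_mul_left (by positivity : 0 < 2 ^ (a + 2)) (h.trans (mul_comm _ _))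
      · rw [hO]
        exact fun g _ => mem_centralizer_iff.mpr fun y hy => by rw [mem_bot.mp hy, one_mul, mul_one]
  · obtain ⟨h1, h2⟩ := ha hO
    exact ⟨_, inf_le_left, h1, ⟨htS, mem_centralizer_iff.mpr fun y hy =>
      mem_centralizer_singleton_iff.mp (hOt hy)⟩, h2, inf_le_right, fun s hs hsR _ hc => hsR ⟨hs, hc⟩⟩

/-- The hypotheses of the theorem of Brauer, Suzuki and Wall. -/
theorem exists_hyp [IsSimpleGroup G] (S : Sylow 2 G) {n : ℕ} (hn : 2 ≤ n)
    (e : (S : Subgroup G) ≃* DihedralGroup n) {t : G} (ht : orderOf t = 2) (htS : t ∈ (S : Subgroup G))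
    (htZ : ∀ s ∈ (S : Subgroup G), s * t = t * s) (O : Subgroup G)
    (hO : O = (oddCore (centralizer ({t} : Set G))).map (centralizer ({t} : Set G)).subtype)
    (ha : O ≠ ⊥ → IsCyclic ((S : Subgroup G) ⊓ centralizer (O : Set G) : Subgroup G) ∧
      ((S : Subgroup G) ⊓ centralizer (O : Set G)).relIndex (S : Subgroup G) = 2)
    (hb : ∀ s ∈ (S : Subgroup G), s ∉ centralizer (O : Set G) → ∀ y ∈ O, s * y * s⁻¹ = y⁻¹)
    (hc : ∀ Y : Subgroup G, Y ≤ O → Y ≠ ⊥ → normalizer (Y : Set G) ≤ centralizer ({t} : Set G)) :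
    ∃ (s : G) (K : Subgroup G), Hyp t s K := by
  have := Fact.mk Nat.prime_two
  set C := centralizer ({t} : Set G) with hC
  have hOC : O ≤ C := hO ▸ map_subtype_le _
  have hSC : (S : Subgroup G) ≤ C := fun s hs => mem_centralizer_singleton_iff.mpr (htZ s hs)
  have hOodd : ∀ y ∈ O, Odd (orderOf y) := by
    intro y hy
    rw [hO] at hy
    obtain ⟨y', hy', rfl⟩ := hy
    exact ExtLayer.oddCore_odd.of_dvd_nat
      (by rw [Subgroup.coe_subtype, Subgroup.orderOf_coe]; exact Subgroup.orderOf_dvd_natCard _ hy')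
  have hone : ∀ y ∈ O, y * y = 1 → y = 1 := fun y hy h => by
    have h1 := hOodd y hy
    rcases (Nat.dvd_prime Nat.prime_two).mp (orderOf_dvd_of_pow_eq_one (x := y) (n := 2) (by rw [sq]; exact h)) with e | e
    · exact orderOf_eq_one_iff.mp e
    · rw [e] at h1; exact absurd h1 (by decide)
  have hS2 : ∀ r ∈ (S : Subgroup G), ∃ k, orderOf r = 2 ^ k := fun r hr => by
    obtain ⟨k, hk⟩ := IsPGroup.iff_orderOf.mp S.2 ⟨r, hr⟩
    exact ⟨k, by rw [← hk, Subgroup.orderOf_mk]⟩
  have hOS : ∀ y ∈ O, y ∈ (S : Subgroup G) → y = 1 := fun y hy hyS => by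
    obtain ⟨k, hk⟩ := hS2 y hyS
    rcases k with _ | k
    · exact orderOf_eq_one_iff.mp (by simpa using hk)
    · exact absurd (hOodd y hy) (by rw [hk, Nat.not_odd_iff_even, pow_succ']; exact even_two_mul _)
  obtain ⟨R, hRS, hRc, htR, hidx, hRO, hout, hrefl⟩ := exists_R S hn e ht htS htZ O hOC ha
  have hcomplement := complement_cent S hn e ht htS htZ
  -- decomposition of the centralizer
  have hdec : ∀ g ∈ C, ∃ y ∈ O, ∃ p ∈ (S : Subgroup G), g = y * p := by
    intro g hg
    let Q := S.subtype hSC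
    have hK := (Transfer.isComplement'_pResidual_iff Q).mpr
      (Transfer.hasNormalPComplement_iff_coprime.mp hcomplement)
    obtain ⟨⟨y, p⟩, hyp⟩ := hK.surjective ⟨g, hg⟩
    have hle : pResidual 2 C ≤ oddCore C :=
      Cores.le_pPrimeCore inferInstance (Transfer.hasNormalPComplement_iff_coprime.mp hcomplement)
    exact ⟨((y : C) : G), hO ▸ ⟨(y : C), hle y.2, rfl⟩, ((p : C) : G), p.2,
      (congrArg Subtype.val hyp).symm⟩
  obtain ⟨s, hs, hsR⟩ : ∃ s ∈ (S : Subgroup G), s ∉ R := by
    by_contra! h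
    rw [relIndex_eq_one.mpr h] at hidx
    omega
  obtain ⟨hs2, hsinv⟩ := hrefl s hs hsR
  have hsO : ∀ y ∈ O, s * y * s⁻¹ = y⁻¹ := by
    intro y hy
    by_cases h : O = ⊥
    · rw [h, mem_bot] at hy; rw [hy]; group
    · exact hb s hs (hout s hs hsR h) y hy
  have hOab : ∀ x ∈ O, ∀ y ∈ O, x * y = y * x := by
    intro x hx y hy
    have h1 : x⁻¹ * y⁻¹ = (x * y)⁻¹ := by
      rw [← hsO x hx, ← hsO y hy, ← hsO _ (mul_mem hx hy)]; group
    rw [← mul_inv_rev, inv_inj] at h1
    exact h1.symm
  have hRab : ∀ x ∈ R, ∀ y ∈ R, x * y = y * x := fun x hx y hy => by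
    haveI := hRc
    let _ : CommGroup R := IsCyclic.commGroup
    exact congrArg Subtype.val (mul_comm (⟨x, hx⟩ : R) ⟨y, hy⟩)
  have hOR : ∀ r ∈ R, ∀ y ∈ O, r * y = y * r := fun r hr y hy =>
    (mem_centralizer_iff.mp (hRO hr) y hy).symm
  let K : Subgroup G :=
    { carrier := {g | ∃ y ∈ O, ∃ r ∈ R, g = y * r}
      one_mem' := ⟨1, one_mem _, 1, one_mem _, (mul_one _).symm⟩
      mul_mem' := by
        rintro _ _ ⟨y, hy, r, hr, rfl⟩ ⟨y', hy', r', hr', rfl⟩
        refine ⟨y * y', mul_mem hy hy', r * r', mul_mem hr hr', ?_⟩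
        rw [mul_assoc y, ← mul_assoc r, hOR r hr y' hy', mul_assoc y', ← mul_assoc y]
      inv_mem' := by
        rintro _ ⟨y, hy, r, hr, rfl⟩
        refine ⟨y⁻¹, inv_mem hy, r⁻¹, inv_mem hr, ?_⟩
        rw [mul_inv_rev]
        exact hOR _ (inv_mem hr) _ (inv_mem hy) }
  have hKmem : ∀ {g}, g ∈ K ↔ ∃ y ∈ O, ∃ r ∈ R, g = y * r := Iff.rfl
  have hsq : ∀ {y r : G}, y ∈ O → r ∈ R → y * r * (y * r) = 1 → y = 1 ∧ r * r = 1 := by
    intro y r hy hr h
    have h1 : (y * y) * (r * r) = 1 := by
      rw [← h, (show Commute r y from hOR r hr y hy).mul_mul_mul_comm]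
    have h2 : y * y = 1 := hOS _ (mul_mem hy hy)
      (by rw [eq_inv_of_mul_eq_one_left h1]; exact inv_mem (mul_mem (hRS hr) (hRS hr)))
    rw [h2, one_mul] at h1
    exact ⟨hone y hy h2, h1⟩
  have hRinv : ∀ r ∈ R, r * r = 1 → r = 1 ∨ r = t := by
    intro r hr h
    by_cases h1 : r = 1
    · exact Or.inl h1
    · haveI := hRc
      exact Or.inr (eq_of_mem_cyclic hr htR (orderOf_eq_prime (by rw [sq]; exact h) h1) ht)
  have hKinvol : ∀ g ∈ K, g * g = 1 → g = 1 ∨ g = t := by
    rintro g ⟨y, hy, r, hr, rfl⟩ h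
    obtain ⟨rfl, h2⟩ := hsq hy hr h
    simpa using hRinv r hr h2
  have hKC : K ≤ C := by
    rintro g ⟨y, hy, r, hr, rfl⟩
    exact mul_mem (hOC hy) (hSC (hRS hr))
  have hsK : s ∉ K := by
    rintro ⟨y, hy, r, hr, he⟩
    have hy1 : y = 1 := hOS y hy (by rw [eq_mul_inv_of_mul_eq he.symm]; exact mul_mem hs (inv_mem (hRS hr)))
    rw [hy1, one_mul] at he
    exact hsR (he ▸ hr)
  have hcover : C ≤ K ⊔ zpowers s := by
    intro g hg
    obtain ⟨y, hy, p, hp, rfl⟩ := hdec g hg
    by_cases hpR : p ∈ R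
    · exact mem_sup_left ⟨y, hy, p, hpR, rfl⟩
    · have hps : p * s ∈ R := by
        haveI : (R.subgroupOf (S : Subgroup G)).Normal := normal_of_index_eq_two hidx
        have h := ((R.subgroupOf (S : Subgroup G)).mul_mem_iff_of_index_two hidx
          (a := ⟨p, hp⟩) (b := ⟨s, hs⟩)).mpr (by simp [mem_subgroupOf, hpR, hsR])
        simpa [mem_subgroupOf] using h
      rw [show y * p = y * (p * s) * s⁻¹ by group]
      exact mul_mem (mem_sup_left ⟨y, hy, p * s, hps, rfl⟩) (mem_sup_right (inv_mem (mem_zpowers s)))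
  have hKinv : ∀ x ∈ K, s * x * s⁻¹ = x⁻¹ := by
    rintro g ⟨y, hy, r, hr, rfl⟩
    rw [show s * (y * r) * s⁻¹ = (s * y * s⁻¹) * (s * r * s⁻¹) by group, hsO y hy, hsinv r hr, mul_inv_rev]
    exact (hOR _ (inv_mem hr) _ (inv_mem hy)).symm
  have hs1 : orderOf s = 2 := orderOf_eq_prime (by rw [sq]; exact hs2) fun h => hsR (h ▸ one_mem _)
  have hCconj : ∀ g : G, g * t * g⁻¹ = t → g ∈ C := fun g h =>
    mem_centralizer_singleton_iff.mpr (mul_inv_eq_iff_eq_mul.mp h)
  refine ⟨s, K,
    { ht := ht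
      hs := hs1
      comm := ?_
      le_cent := hKC
      t_mem := ⟨1, one_mem _, t, htR, (one_mul t).symm⟩
      s_mem := hSC hs
      s_not := hsK
      cent_le := hcover
      fix := ?_
      inv := hKinv
      ti := ?_
      all_conj := fun x y hx hy => all_conj S hn e hx hy }⟩
  · rintro _ ⟨y, hy, r, hr, rfl⟩ _ ⟨y', hy', r', hr', rfl⟩
    rw [mul_assoc y, ← mul_assoc r, hOR r hr y' hy', mul_assoc y', hRab r hr r' hr', ← mul_assoc y,
      hOab y hy y' hy', mul_assoc y', ← mul_assoc y r', ← hOR r' hr' y hy, mul_assoc r', ← mul_assoc y' r']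
  · intro x hx hcx
    refine hKinvol x hx ?_
    have h := hKinv x hx
    have h' : s * x * s⁻¹ = x := by rw [mul_inv_eq_iff_eq_mul]; exact hcx
    exact mul_eq_one_iff_eq_inv.mpr (h'.symm.trans h)
  · intro g x hx hx1 hgx
    by_contra hg
    obtain ⟨y, hy, r, hr, hxe⟩ := hKmem.mp hx
    obtain ⟨y', hy', r', hr', hxe'⟩ := hKmem.mp hgx
    obtain ⟨k, hk⟩ := hS2 r (hRS hr)
    obtain ⟨k', hk'⟩ := hS2 r' (hRS hr')
    -- the powers lying in `O`
    have hpow : ∀ {z q : G} {i : ℕ}, z ∈ O → q ∈ R → orderOf q ∣ i → (z * q) ^ i = z ^ i := by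
      intro z q i hz hq hi
      rw [(show Commute z q from (hOR q hq z hz).symm).mul_pow, orderOf_dvd_iff_pow_eq_one.mp hi, mul_one]
    set N := 2 ^ k * 2 ^ k'
    have h1 : x ^ N = y ^ N := hxe ▸ hpow hy hr (hk ▸ dvd_mul_right _ _)
    have h2 : (g * x * g⁻¹) ^ N = y' ^ N := hxe' ▸ hpow hy' hr' (hk' ▸ dvd_mul_left _ _)
    rw [conj_pow, h1] at h2
    by_cases hy1 : y ^ N = 1
    · -- both elements are 2-elements
      have hN : ∀ z ∈ O, z ^ N = 1 → z = 1 := fun z hz h => by
        refine orderOf_eq_one_iff.mp (Nat.eq_one_of_dvd_coprimes ?_ dvd_rfl (orderOf_dvd_of_pow_eq_one h))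
        exact Nat.Coprime.mul_right ((Nat.coprime_two_right.mpr (hOodd z hz)).pow_right _)
          ((Nat.coprime_two_right.mpr (hOodd z hz)).pow_right _)
      rw [hy1, mul_one, mul_inv_cancel] at h2
      rw [hN y hy hy1, one_mul] at hxe
      rw [hN y' hy' h2.symm, one_mul] at hxe'
      obtain ⟨i, hi⟩ : 2 ∣ orderOf x := by
        rw [hxe, hk]
        rcases k with _ | k
        · exact absurd (orderOf_eq_one_iff.mp (by simpa using hk)) (hxe ▸ hx1)
        · exact dvd_pow_self 2 (Nat.succ_ne_zero _)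
      have hxi : x ^ i = t := by
        haveI := hRc
        refine eq_of_mem_cyclic (hxe ▸ pow_mem hr i) htR ?_ ht
        rw [orderOf_pow' _ (fun h => (orderOf_pos x).ne' (by rw [hi, h, mul_zero])), hi,
          Nat.gcd_mul_left_left, Nat.mul_div_cancel _ (Nat.pos_of_ne_zero fun h => (orderOf_pos x).ne' (by rw [hi, h, mul_zero]))]
      refine hg (hCconj g ?_)
      haveI := hRc
      rw [← hxi, ← conj_pow]
      refine (eq_of_mem_cyclic (hxe' ▸ pow_mem hr' i) htR ?_ ht).trans hxi.symm
      rw [conj_pow, hxi]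
      exact (orderOf_injective (MulAut.conj g).toMonoidHom (MulAut.conj g).injective t).trans ht
    · -- a nontrivial element of `O` and its conjugate
      set z := y ^ N with hz
      have hzO : z ∈ O := pow_mem hy _
      have hCz : centralizer ({z} : Set G) ≤ C := by
        refine le_trans (fun w hw => ?_) (hc (zpowers z) (zpowers_le.mpr hzO) (by rwa [Ne, zpowers_eq_bot]))
        rw [mem_normalizer_iff]
        intro v
        have hwz : Commute w z := mem_centralizer_singleton_iff.mp hw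
        constructor
        · intro hv
          obtain ⟨i, rfl⟩ := mem_zpowers_iff.mp hv
          rw [(hwz.zpow_right i).eq, mul_inv_cancel_right]
          exact zpow_mem (mem_zpowers z) i
        · intro hv
          obtain ⟨i, hi⟩ := mem_zpowers_iff.mp hv
          have : v = z ^ i := by
            rw [show v = w⁻¹ * (w * v * w⁻¹) * w by group, ← hi, mul_assoc, ← (hwz.zpow_right i).eq,
              inv_mul_cancel_left]
          rw [this]
          exact zpow_mem (mem_zpowers z) i
      set u := g⁻¹ * t * g with hu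
      have huz : Commute u z := by
        have hy'C : Commute t (y' ^ N) := (mem_centralizer_singleton_iff.mp (hOC (pow_mem hy' N))).symm
        have h := hy'C.map (MulAut.conj g⁻¹).toMonoidHom
        rw [← h2] at h
        simpa [hu, mul_assoc] using h
      have huC : u ∈ C := hCz (mem_centralizer_singleton_iff.mpr huz.eq)
      have hu2 : orderOf u = 2 := by
        rw [hu, show g⁻¹ * t * g = g⁻¹ * t * g⁻¹⁻¹ by rw [inv_inv]]
        exact (orderOf_injective (MulAut.conj g⁻¹).toMonoidHom (MulAut.conj g⁻¹).injective t).trans ht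
      obtain ⟨o₁, ho₁, p, hp, hup⟩ := hdec u huC
      by_cases hpR : p ∈ R
      · have huK : u ∈ K := ⟨o₁, ho₁, p, hpR, hup⟩
        rcases hKinvol u huK (by rw [← sq, ← hu2, pow_orderOf_eq_one]) with h | h
        · rw [h, orderOf_one] at hu2; omega
        · refine hg (hCconj g ?_)
          nth_rewrite 1 [← h]
          rw [hu]
          group
      · have hO1 : O ≠ ⊥ := fun h => hy1 (by rw [h] at hzO; exact mem_bot.mp hzO)
        have h4 := hb p hp (hout p hp hpR hO1) z hzO
        have h5 : z = z⁻¹ := by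
          calc z = u * z * u⁻¹ := by rw [huz.eq, mul_inv_cancel_right]
            _ = o₁ * (p * z * p⁻¹) * o₁⁻¹ := by rw [hup]; group
            _ = z⁻¹ := by rw [h4, hOab _ ho₁ _ (inv_mem hzO), mul_inv_cancel_right]
        exact hy1 (hone z hzO (mul_eq_one_iff_eq_inv.mpr h5))

end Cfsg.Agent.BSW.Core
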