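import Cfsg.Agent.Lib.BSW.LineField
import Cfsg.Agent.Lib.PSL2.Existence

/-!
# Recognition of `PSL(2, q)`, `q` odd, from its action on the projective line

`LineHyp` : a group with a point stabiliser `U ⋊ D`, `U` abelian regular on the other points, `D`
abelian of order `(|U| - 1) / 2` acting freely on `U`, and an involution swapping two points and
inverting `D`.  `LineHyp.equiv_psl` : it is `PSL(2, F)`.
-/

set_option autoImplicit false

namespace Cfsg.Agent.BSW.Line

open MulAction

variable {G Ω : Type*} [Group G] [MulAction G Ω]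

/-- The hypotheses. -/
structure LineHyp (p₀ o : Ω) (U D : Subgroup G) (u : G) : Prop where
  faith : FaithfulSMul G Ω
  U_fix : ∀ x ∈ U, x • p₀ = p₀
  U_comm : ∀ x ∈ U, ∀ y ∈ U, x * y = y * x
  reg : ∀ z, z ≠ p₀ → ∃! x : U, (x : G) • o = z
  ne : o ≠ p₀
  D_fix : ∀ g, g ∈ D ↔ g • p₀ = p₀ ∧ g • o = o
  D_comm : ∀ x ∈ D, ∀ y ∈ D, x * y = y * x
  D_norm : ∀ d ∈ D, ∀ x ∈ U, d * x * d⁻¹ ∈ U
  D_free : ∀ d ∈ D, ∀ x ∈ U, d * x * d⁻¹ = x → d = 1 ∨ x = 1
  u_p : u • p₀ = o
  u_o : u • o = p₀
  u_sq : u * u = 1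
  u_inv : ∀ d ∈ D, u * d * u⁻¹ = d⁻¹
  odd : Odd (Nat.card U)
  card_D : 2 * Nat.card D + 1 = Nat.card U
  two_le : 2 ≤ Nat.card D
  card_G : 2 * Nat.card G = Nat.card U * (Nat.card U + 1) * (Nat.card U - 1)

namespace LineHyp

variable {p₀ o : Ω} {U D : Subgroup G} {u : G} (h : LineHyp p₀ o U D u) [Finite G]
include h

theorem smul_ne_of_fix {g : G} (hg : g • p₀ = p₀) {z : Ω} (hz : z ≠ p₀) : g • z ≠ p₀ := fun e =>
  hz (smul_left_cancel g (e.trans hg.symm))

/-- The coordinates: a field with the regular subgroup as additive group and the two-point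
stabiliser as the non-zero squares. -/
theorem exists_coord : ∃ (F : Type) (_ : Field F) (_ : Fintype F) (θ : F → G),
    ringChar F ≠ 2 ∧ Fintype.card F = Nat.card U ∧ (∀ x, θ x ∈ U) ∧ (∀ g ∈ U, ∃ x, θ x = g) ∧
    Function.Injective θ ∧ θ 0 = 1 ∧ (∀ x y, θ (x + y) = θ x * θ y) ∧
    (∀ d ∈ D, ∃ v : F, IsSquare v ∧ v ≠ 0 ∧ ∀ x, d * θ x * d⁻¹ = θ (v * x)) ∧
    ∀ v : F, IsSquare v → v ≠ 0 → ∃ d ∈ D, ∀ x, d * θ x * d⁻¹ = θ (v * x) := by
  letI : CommGroup U :=
    { (inferInstance : Group U) with mul_comm := fun x y => Subtype.ext (h.U_comm x x.2 y y.2) }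
  let φ : D → AddMonoid.End (Additive U) := fun d =>
    AddMonoidHom.mk' (fun x => Additive.ofMul ⟨d * (x.toMul : U) * (d : G)⁻¹, h.D_norm d d.2 _ x.toMul.2⟩)
      (fun x y => congrArg Additive.ofMul (Subtype.ext (show (d : G) * (((x.toMul : U) : G) * ((y.toMul : U) : G)) * (d : G)⁻¹
        = (d * ((x.toMul : U) : G) * (d : G)⁻¹) * (d * ((y.toMul : U) : G) * (d : G)⁻¹) by group)))
  have hφ : ∀ (d : D) (x : Additive U), (((φ d x).toMul : U) : G) = d * ((x.toMul : U) : G) * (d : G)⁻¹ :=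
    fun d x => rfl
  have hmulφ : ∀ d d' : D, φ d * φ d' = φ (d * d') := fun d d' => by
    refine DFunLike.ext _ _ fun x => ?_
    refine Additive.toMul.injective (Subtype.ext ?_)
    show (d : G) * ((d' : G) * ((x.toMul : U) : G) * (d' : G)⁻¹) * (d : G)⁻¹
      = ((d * d' : D) : G) * ((x.toMul : U) : G) * ((d * d' : D) : G)⁻¹
    rw [Subgroup.coe_mul]
    group
  have hne : ∀ (d : D) (w : Additive U), φ d w = 0 → w = 0 := fun d w hw => by
    have e : (d : G) * ((w.toMul : U) : G) * (d : G)⁻¹ = 1 :=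
      congrArg (fun z : Additive U => ((z.toMul : U) : G)) hw
    exact Additive.toMul.injective (Subtype.ext (conj_eq_one_iff.mp e))
  have hfree : ∀ w : Additive U, w ≠ 0 → Function.Injective fun d : D => φ d w := by
    intro w hw d d' e
    have e' : (d : G) * ((w.toMul : U) : G) * (d : G)⁻¹ = d' * ((w.toMul : U) : G) * (d' : G)⁻¹ :=
      congrArg (fun z : Additive U => ((z.toMul : U) : G)) e
    rcases h.D_free _ (D.mul_mem (D.inv_mem d'.2) d.2) _ (w.toMul : U).2 (by
      calc ((d' : G)⁻¹ * d) * ((w.toMul : U) : G) * ((d' : G)⁻¹ * d)⁻¹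
          = (d' : G)⁻¹ * ((d : G) * ((w.toMul : U) : G) * (d : G)⁻¹) * d' := by group
        _ = ((w.toMul : U) : G) := by rw [e']; group) with k | k
    · exact Subtype.ext (inv_mul_eq_one.mp k).symm
    · exact absurd (Additive.toMul.injective (Subtype.ext k)) hw
  have hU1 : 1 < Nat.card (Additive U) := by
    have := h.card_D
    have := h.two_le
    rw [Nat.card_congr Additive.toMul]
    omega
  have : Nontrivial (Additive U) := Finite.one_lt_card_iff_nontrivial.mp hU1
  obtain ⟨w₀, hw₀⟩ := exists_ne (0 : Additive U)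
  obtain ⟨F, iF, iFF, θ, v, hchar, hθv, hv, hsurj⟩ := exists_field φ
    (fun d d' => by rw [hmulφ, hmulφ, show d * d' = d' * d from Subtype.ext (h.D_comm d d.2 d' d'.2)])
    ⟨1, DFunLike.ext _ _ fun x => Additive.toMul.injective (Subtype.ext (by rw [hφ]; simp))⟩
    (fun d d' e => hfree w₀ hw₀ (congrArg (fun f : AddMonoid.End (Additive U) => f w₀) e))
    (fun d d' => ⟨d * d', hmulφ d d'⟩) (by rw [Nat.card_congr Additive.toMul]; exact h.odd)
    (by rw [Nat.card_congr Additive.toMul]; exact h.card_D) h.two_le hfree hne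
  refine ⟨F, iF, iFF, fun x => (((θ x).toMul : U) : G), hchar, ?_, fun x => ((θ x).toMul : U).2,
    fun g hg => ⟨θ.symm (Additive.ofMul ⟨g, hg⟩), by simp⟩,
    fun x y e => θ.injective (Additive.toMul.injective (Subtype.ext e)), ?_, fun x y => ?_, ?_, ?_⟩
  · rw [← Nat.card_eq_fintype_card, Nat.card_congr θ.toEquiv, Nat.card_congr Additive.toMul]
  · simp
  · simp
  · intro d hd
    refine ⟨v ⟨d, hd⟩, (hv _).1, (hv _).2, fun x => ?_⟩
    simp only [hθv, hφ]
  · intro s hs hs0
    obtain ⟨d, rfl⟩ := hsurj s hs hs0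
    exact ⟨d, d.2, fun x => by simp only [hθv, hφ]⟩

/-- The recognition theorem. -/
theorem equiv_psl : ∃ (F : Type) (_ : Field F) (_ : Fintype F), Odd (Fintype.card F) ∧
    Nonempty (G ≃* Matrix.ProjectiveSpecialLinearGroup (Fin 2) F) := by
  classical
  haveI := h.faith
  obtain ⟨F, _, _, θ, hchar, hcard, hθU, hθs, hθi, hθ0, hθadd, hDv, hvD⟩ := h.exists_coord
  refine ⟨F, inferInstance, inferInstance, hcard ▸ h.odd, ?_⟩
  set q := Fintype.card F with hq
  have hq5 : 5 ≤ q := by have := h.card_D; have := h.two_le; omega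
  -- coordinates of the points
  set P : F → Ω := fun z => θ z • o with hP
  have hP0 : P 0 = o := by rw [hP]; simp [hθ0]
  have hPne : ∀ z, P z ≠ p₀ := fun z => h.smul_ne_of_fix (h.U_fix _ (hθU z)) h.ne
  have hPs : ∀ w, w ≠ p₀ → ∃ z, P z = w := fun w hw => by
    obtain ⟨x, hx, -⟩ := h.reg w hw
    obtain ⟨z, hz⟩ := hθs x x.2
    exact ⟨z, by rw [hP]; simp only [hz, hx]⟩
  have hPi : Function.Injective P := fun y z e =>
    hθi (congrArg Subtype.val ((h.reg _ (hPne z)).unique (y₁ := ⟨θ y, hθU y⟩) (y₂ := ⟨θ z, hθU z⟩) e rfl))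
  have hT : ∀ a z, θ a • P z = P (a + z) := fun a z => by rw [hP]; simp only [hθadd, mul_smul]
  have hTp : ∀ a, θ a • p₀ = p₀ := fun a => h.U_fix _ (hθU a)
  have hdil : ∀ {d v}, d ∈ D → (∀ x, d * θ x * d⁻¹ = θ (v * x)) → ∀ z, d • P z = P (v * z) := by
    intro d v hd hv z
    rw [hP]
    simp only [← hv, mul_smul, inv_smul_eq_iff.mpr ((h.D_fix d).mp hd).2.symm]
  have huu : ∀ w : Ω, u • u • w = w := fun w => by rw [← mul_smul, h.u_sq, one_smul]
  -- the inversion
  have hex : ∀ z, ∃ y, z ≠ 0 → u • P z = P y := by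
    intro z
    by_cases hz : u • P z = p₀
    · refine ⟨0, fun hz0 => absurd (hPi (?_ : P z = P 0)) hz0⟩
      rw [hP0]
      exact smul_left_cancel u (hz.trans h.u_o.symm)
    · obtain ⟨y, hy⟩ := hPs _ hz
      exact ⟨y, fun _ => hy.symm⟩
  choose f hf using hex
  have hf0 : ∀ z, z ≠ 0 → f z ≠ 0 := fun z hz e => by
    have := hf z hz
    rw [e, hP0, ← h.u_p] at this
    exact hPne z (smul_left_cancel u this)
  have hff : ∀ z, z ≠ 0 → f (f z) = z := fun z hz => hPi (by
    rw [← hf _ (hf0 z hz), ← hf z hz, huu])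
  have hfv : ∀ v z, IsSquare v → v ≠ 0 → z ≠ 0 → f (v * z) = v⁻¹ * f z := by
    intro v z hv hv0 hz
    obtain ⟨d, hd, hdv⟩ := hvD v hv hv0
    obtain ⟨w, hw, hw0, hdw⟩ := hDv d⁻¹ (D.inv_mem hd)
    have hwv : w * v = 1 := hθi (by
      rw [← hdw, show θ v = d * θ 1 * d⁻¹ by rw [hdv, mul_one]]; group)
    refine hPi ?_
    rw [← hf _ (mul_ne_zero hv0 hz), ← hdil hd hdv, ← mul_smul,
      show u * d = d⁻¹ * u from mul_inv_eq_iff_eq_mul.mp (h.u_inv d hd), mul_smul, hf z hz,
      hdil (D.inv_mem hd) hdw, eq_inv_of_mul_eq_one_left hwv]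
  -- the functional equation
  have hrel : ∀ x z, x ≠ 0 → z ≠ 0 → x + f z ≠ 0 →
      IsSquare (-f (-f x) / f (-x)) ∧ f (-f x) + (-f (-f x) / f (-x)) * z ≠ 0 ∧
      f (f (-f x) + (-f (-f x) / f (-x)) * z) = -f x + f (x + f z) := by
    intro x z hx hz hxz
    set g := u * θ x * u with hg
    have hgo : g • o = o := by rw [hg, mul_smul, mul_smul, h.u_o, hTp, h.u_p]
    have hgp : g • p₀ = P (f x) := by
      rw [hg, mul_smul, mul_smul, h.u_p, ← hP0, hT, add_zero, hf x hx]
    set k := u * θ (-f x) * g with hk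
    have hkp : k • p₀ = p₀ := by rw [hk, mul_smul, hgp, mul_smul, hT, neg_add_cancel, hP0, h.u_o]
    set r := f (-f x) with hr
    have hko : k • o = P r := by
      rw [hk, mul_smul, hgo, ← hP0, mul_smul, hT, add_zero, hf _ (neg_ne_zero.mpr (hf0 x hx))]
    have hd : (θ r)⁻¹ * k ∈ D := by
      refine (h.D_fix _).mpr ⟨?_, ?_⟩
      · rw [mul_smul, hkp, inv_smul_eq_iff, hTp]
      · rw [mul_smul, hko, inv_smul_eq_iff]
    obtain ⟨s, hs, hs0, hsv⟩ := hDv _ hd
    have hkz : ∀ w, k • P w = P (r + s * w) := fun w => by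
      rw [← hT r, ← hdil hd hsv w, smul_smul (θ r), mul_inv_cancel_left]
    have hz0 : f (-x) ≠ 0 := hf0 _ (neg_ne_zero.mpr hx)
    have h1 : k • P (f (-x)) = p₀ → False := fun e =>
      hPne _ (smul_left_cancel k (e.trans hkp.symm))
    have hgz0 : g • P (f (-x)) = p₀ := by
      rw [hg, mul_smul, mul_smul, hf _ hz0, hff _ (neg_ne_zero.mpr hx), hT, add_neg_cancel, hP0, h.u_o]
    have hr0 : r + s * f (-x) = 0 := hPi (by
      rw [← hkz, hk, mul_smul, hgz0, mul_smul, hTp, h.u_p, hP0])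
    have hseq : s = -r / f (-x) := by rw [eq_div_iff hz0]; linear_combination hr0
    rw [← hseq]
    have hgz : g • P z = P (f (x + f z)) := by
      rw [hg, mul_smul, mul_smul, hf z hz, hT, hf _ hxz]
    have hne : r + s * z ≠ 0 := by
      intro e
      have hz' : z = f (-x) := mul_left_cancel₀ hs0 (by linear_combination e - hr0)
      exact hxz (by rw [hz', hff _ (neg_ne_zero.mpr hx), add_neg_cancel])
    refine ⟨hs, hne, hPi ?_⟩
    rw [← hf _ hne, ← hkz, hk, mul_smul, hgz, mul_smul, huu, hT]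
  -- the function `z ↦ z * f z` is constant
  obtain ⟨ν, hν⟩ := FiniteField.exists_nonsquare hchar
  have hν0 : ν ≠ 0 := fun e => hν (e ▸ IsSquare.zero)
  set a := f 1 with ha
  set b := ν * f ν with hb
  have ha0 : a ≠ 0 := hf0 1 one_ne_zero
  have hb0 : b ≠ 0 := mul_ne_zero hν0 (hf0 ν hν0)
  have hclass : ∀ z : F, z ≠ 0 → ¬ IsSquare z → IsSquare (z / ν) := by
    intro z hz hns
    have h1 : quadraticChar F (z / ν) = 1 := by
      have e : quadraticChar F z = quadraticChar F (z / ν) * quadraticChar F ν := by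
        rw [← map_mul, div_mul_cancel₀ _ hν0]
      rw [quadraticChar_neg_one_iff_not_isSquare.mpr hns, quadraticChar_neg_one_iff_not_isSquare.mpr hν] at e
      linarith
    exact (quadraticChar_one_iff_isSquare (div_ne_zero hz hν0)).mp h1
  have hsq : ∀ z : F, z ≠ 0 → IsSquare z → z * f z = a := by
    intro z hz hs
    have := hfv z 1 hs hz one_ne_zero
    rw [mul_one] at this
    rw [this, ← ha, ← mul_assoc, mul_inv_cancel₀ hz, one_mul]
  have hns : ∀ z : F, z ≠ 0 → ¬ IsSquare z → z * f z = b := by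
    intro z hz hs
    have := hfv (z / ν) ν (hclass z hz hs) (div_ne_zero hz hν0) hν0
    rw [div_mul_cancel₀ _ hν0] at this
    rw [this, hb]
    field_simp
  have hab : a = b := by
    by_contra hab
    have hsa : IsSquare a := by
      by_contra hc
      have := hns a ha0 hc
      rw [ha, hff 1 one_ne_zero, mul_one, ← ha] at this
      exact hab this
    have hsb : IsSquare b := by
      by_contra hc
      refine hab ?_
      have hfν : IsSquare (f ν) := by
        have h1 : quadraticChar F b = quadraticChar F ν * quadraticChar F (f ν) := by rw [hb, map_mul]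
        rw [quadraticChar_neg_one_iff_not_isSquare.mpr hc, quadraticChar_neg_one_iff_not_isSquare.mpr hν] at h1
        exact (quadraticChar_one_iff_isSquare (hf0 ν hν0)).mp (by linarith)
      have := hsq _ (hf0 ν hν0) hfν
      rw [hff ν hν0] at this
      rw [← this, hb, mul_comm]
    by_cases hm1 : IsSquare (-1 : F)
    · obtain ⟨i, hi⟩ := hm1
      have hna : IsSquare (-a) := by obtain ⟨α, hα⟩ := hsa; exact ⟨i * α, by rw [hα]; linear_combination α * α * hi⟩
      have hfa : f (-a) = -1 := by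
        refine mul_left_cancel₀ (neg_ne_zero.mpr ha0) ?_
        rw [hsq _ (neg_ne_zero.mpr ha0) hna]
        ring
      have hf1 : f (-1) = -a := by
        have := hsq (-1) (neg_ne_zero.mpr one_ne_zero) ⟨i, hi⟩
        linear_combination -this
      have hplus : ∀ t : F, t ≠ 0 → IsSquare t → t + a ≠ 0 → IsSquare (t + a) := by
        intro t ht hts hta
        by_contra hc
        have hft : f t = a / t := by rw [eq_div_iff ht, mul_comm]; exact hsq t ht hts
        have hw : 1 + f t = (t + a) / t := by rw [hft]; field_simp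
        have hw0 : 1 + f t ≠ 0 := by rw [hw]; exact div_ne_zero hta ht
        obtain ⟨-, hv0, hfe⟩ := hrel 1 t one_ne_zero ht hw0
        rw [← ha, hfa, hf1] at hfe hv0
        have hv : -1 + - -1 / -a * t = (t + a) * (-1 / a) := by field_simp; ring
        rw [hv] at hfe hv0
        have hq1 : IsSquare (-1 / a) := IsSquare.div ⟨i, hi⟩ hsa
        have hwns : ¬ IsSquare (1 + f t) := fun hs => hc (by
          have := hs.mul hts; rwa [hw, div_mul_cancel₀ _ ht] at this)
        have hvns : ¬ IsSquare ((t + a) * (-1 / a)) := fun hs => hc (by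
          have := hs.div hq1
          rwa [mul_div_cancel_right₀ _ (div_ne_zero (neg_ne_zero.mpr one_ne_zero) ha0)] at this)
        have e1 := hns _ hw0 hwns
        have e2 := hns _ hv0 hvns
        rw [hfe] at e2
        refine hab ?_
        rw [hw] at e1 e2
        field_simp at e1 e2
        -- eliminate the value at `(t + a) / t`
        have e3 : (t + a) * (b - a) = 0 := by linear_combination -e1 - e2
        linear_combination -((mul_eq_zero.mp e3).resolve_left hta)
      -- every element would be a square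
      apply hν
      have h20 : (2 : F) ≠ 0 := Ring.two_ne_zero hchar
      set A := (ν + 1) / 2
      set B := i * ((ν - 1) / 2)
      have hAB : A * A + B * B = ν := by
        simp only [A, B]; field_simp; linear_combination -((ν - 1) * (ν - 1)) * hi
      by_cases hA : A = 0
      · exact ⟨B, by rw [← hAB, hA]; ring⟩
      by_cases hB : B = 0
      · exact ⟨A, by rw [← hAB, hB]; ring⟩
      obtain ⟨α, hα⟩ := hsa
      have hα0 : α ≠ 0 := fun e => ha0 (by rw [hα, e, mul_zero])
      have ht0 : (α / B * A) * (α / B * A) ≠ 0 := by simp [hα0, hA, hB]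
      have e : (α / B) * (α / B) * ν = (α / B * A) * (α / B * A) + a := by
        rw [← hAB, hα]; field_simp
      obtain ⟨c, hc⟩ := hplus _ ht0 ⟨_, rfl⟩ (by rw [← e]; simp [hα0, hB, hν0])
      refine ⟨c * (B / α), ?_⟩
      rw [← e] at hc
      field_simp at hc ⊢
      linear_combination hc
    · -- the involution would fix two points
      obtain ⟨ρ, hρ⟩ := hsa
      obtain ⟨ρ', hρ'⟩ := hsb
      have hρ0 : ρ ≠ 0 := fun e => ha0 (by rw [hρ, e, mul_zero])
      have hρ'0 : ρ' ≠ 0 := fun e => hb0 (by rw [hρ', e, mul_zero])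
      have hneg : ∀ c : F, c ≠ 0 → (IsSquare (-c) ↔ ¬ IsSquare c) := fun c hc => by
        refine ⟨fun hn hs => hm1 (by have := hn.div hs; rwa [neg_div, div_self hc] at this), fun hn => ?_⟩
        have h1 : quadraticChar F (-c) = quadraticChar F (-1) * quadraticChar F c := by
          rw [← map_mul, neg_one_mul]
        rw [quadraticChar_neg_one_iff_not_isSquare.mpr hm1, quadraticChar_neg_one_iff_not_isSquare.mpr hn] at h1
        exact (quadraticChar_one_iff_isSquare (neg_ne_zero.mpr hc)).mp (by rw [h1]; norm_num)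
      obtain ⟨y₁, hy₁, hy₁s, hy₁a⟩ : ∃ y, y ≠ 0 ∧ IsSquare y ∧ a = y * y := by
        by_cases hs : IsSquare ρ
        · exact ⟨ρ, hρ0, hs, hρ⟩
        · exact ⟨-ρ, neg_ne_zero.mpr hρ0, (hneg ρ hρ0).mpr hs, by rw [hρ]; ring⟩
      obtain ⟨y₂, hy₂, hy₂s, hy₂b⟩ : ∃ y, y ≠ 0 ∧ ¬ IsSquare y ∧ b = y * y := by
        by_cases hs : IsSquare ρ'
        · refine ⟨-ρ', neg_ne_zero.mpr hρ'0, fun hn => (hneg ρ' hρ'0).mp hn hs, by rw [hρ']; ring⟩
        · exact ⟨ρ', hρ'0, hs, hρ'⟩
      have hfix1 : u • P y₁ = P y₁ := by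
        rw [hf _ hy₁, show f y₁ = y₁ from mul_left_cancel₀ hy₁ ((hsq _ hy₁ hy₁s).trans hy₁a)]
      have hfix2 : u • P y₂ = P y₂ := by
        rw [hf _ hy₂, show f y₂ = y₂ from mul_left_cancel₀ hy₂ ((hns _ hy₂ hy₂s).trans hy₂b)]
      -- move the two fixed points to `p₀` and `o`
      set g₁ := u * θ (-y₁) with hg₁
      have hg₁y : g₁ • P y₁ = p₀ := by rw [hg₁, mul_smul, hT, neg_add_cancel, hP0, h.u_o]
      have hg₁y' : g₁ • P y₂ ≠ p₀ := fun e =>
        hy₂s (by rw [← hPi (smul_left_cancel g₁ (hg₁y.trans e.symm))]; exact hy₁s)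
      obtain ⟨c, hc⟩ := hPs _ hg₁y'
      set g₂ := θ (-c) * g₁ with hg₂
      have e1 : g₂ • P y₁ = p₀ := by rw [hg₂, mul_smul, hg₁y, hTp]
      have e2 : g₂ • P y₂ = o := by rw [hg₂, mul_smul, ← hc, hT, neg_add_cancel, hP0]
      have hw : g₂ * u * g₂⁻¹ ∈ D := by
        refine (h.D_fix _).mpr ⟨?_, ?_⟩
        · rw [mul_smul, mul_smul, inv_smul_eq_iff.mpr e1.symm, hfix1, e1]
        · rw [mul_smul, mul_smul, inv_smul_eq_iff.mpr e2.symm, hfix2, e2]
      have hu1 : u ≠ 1 := fun e => h.ne (by rw [← h.u_p, e, one_smul])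
      have hord : orderOf (g₂ * u * g₂⁻¹) = 2 := orderOf_eq_prime
        (by rw [conj_pow, sq, h.u_sq, mul_one, mul_inv_cancel]) (fun e => hu1 (conj_eq_one_iff.mp e))
      have h2 : 2 ∣ Nat.card D := hord ▸ Subgroup.orderOf_dvd_natCard D hw
      rw [FiniteField.isSquare_neg_one_iff] at hm1
      have := h.card_D
      omega
  have hfz : ∀ z : F, z ≠ 0 → f z = a / z := fun z hz => by
    rw [eq_div_iff hz, mul_comm]
    by_cases hs : IsSquare z
    · exact hsq z hz hs
    · exact (hns z hz hs).trans hab.symm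
  have hna : IsSquare (-a) := by
    obtain ⟨z, hz0, hz⟩ : ∃ z : F, z ≠ 0 ∧ 1 + f z ≠ 0 := by
      by_cases e : 1 + a = 0
      · refine ⟨-1, neg_ne_zero.mpr one_ne_zero, ?_⟩
        rw [hfz _ (neg_ne_zero.mpr one_ne_zero)]
        have h20 : (2 : F) ≠ 0 := Ring.two_ne_zero hchar
        intro e'
        field_simp at e'
        exact h20 (by linear_combination e + e')
      · exact ⟨1, one_ne_zero, by rwa [← ha]⟩
    obtain ⟨hs, -, -⟩ := hrel 1 z one_ne_zero hz0 hz
    rw [← ha, hfz _ (neg_ne_zero.mpr ha0), hfz _ (neg_ne_zero.mpr one_ne_zero)] at hs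
    have h' := hs.inv
    have e : (-(a / -a) / (a / -1))⁻¹ = -a := by field_simp
    rwa [e] at h'
  -- the projective line
  let ι : OnePoint F → Ω := fun z => z.elim p₀ P
  have hι : Function.Bijective ι := by
    constructor
    · intro y z e
      cases y with
      | infty =>
        cases z with
        | infty => rfl
        | coe z => exact absurd e.symm (hPne z)
      | coe y =>
        cases z with
        | infty => exact absurd e (hPne y)
        | coe z => exact congrArg _ (hPi e)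
    · intro w
      by_cases hw : w = p₀
      · exact ⟨OnePoint.infty, hw.symm⟩
      · obtain ⟨z, hz⟩ := hPs w hw
        exact ⟨(z : OnePoint F), hz⟩
  let toGL : Matrix.SpecialLinearGroup (Fin 2) F →* GL (Fin 2) F := Matrix.SpecialLinearGroup.toGL
  let Eq' : Equiv.Perm (OnePoint F) ≃* Equiv.Perm Ω := (Equiv.ofBijective ι hι).permCongrHom
  let Φ : Matrix.SpecialLinearGroup (Fin 2) F →* Equiv.Perm Ω :=
    Eq'.toMonoidHom.comp ((MulAction.toPermHom (GL (Fin 2) F) (OnePoint F)).comp toGL)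
  let Ψ : G →* Equiv.Perm Ω := MulAction.toPermHom G Ω
  have hΦ : ∀ M x, Φ M (ι x) = ι (toGL M • x) := by
    intro M x
    show (Equiv.ofBijective ι hι).permCongr (MulAction.toPerm (toGL M)) (ι x) = _
    rw [Equiv.permCongr_apply]
    show ι (toGL M • (Equiv.ofBijective ι hι).symm ((Equiv.ofBijective ι hι) x)) = _
    rw [Equiv.symm_apply_apply]
  have heq : ∀ (g : G) (M : Matrix.SpecialLinearGroup (Fin 2) F),
      (∀ x, g • ι x = ι (toGL M • x)) → g ∈ Φ.range.comap Ψ := by
    intro g M hx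
    refine ⟨M, (Equiv.ext fun w => ?_).symm⟩
    obtain ⟨x, rfl⟩ := hι.2 w
    rw [hΦ]
    exact hx x
  have hco : ∀ (M : Matrix.SpecialLinearGroup (Fin 2) F) i j, (toGL M) i j = M.1 i j := fun _ _ _ => rfl
  have hTr : ∀ g ∈ U, g ∈ Φ.range.comap Ψ := by
    intro g hg
    obtain ⟨c, rfl⟩ := hθs g hg
    obtain ⟨M, hM⟩ : ∃ M : Matrix.SpecialLinearGroup (Fin 2) F, M.1 = !![1, c; 0, 1] :=
      ⟨⟨!![1, c; 0, 1], by simp [Matrix.det_fin_two]⟩, rfl⟩
    refine heq _ M fun x => ?_
    cases x with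
    | infty =>
      rw [OnePoint.smul_infty_eq_self_iff.mpr (by simp [hco, hM])]
      exact hTp c
    | coe z =>
      rw [OnePoint.smul_some_eq_ite]
      simp only [hco, hM, Matrix.cons_val', Matrix.cons_val_zero, Matrix.cons_val_one, Matrix.of_apply,
        Matrix.cons_val_fin_one, zero_mul, zero_add, one_ne_zero, if_false, one_mul, div_one]
      show θ c • P z = P (z + c)
      rw [hT, add_comm]
  have hDr : ∀ d ∈ D, d ∈ Φ.range.comap Ψ := by
    intro d hd
    obtain ⟨v, ⟨r, hr⟩, hv0, hdv⟩ := hDv d hd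
    have hr0 : r ≠ 0 := fun e => hv0 (by rw [hr, e, mul_zero])
    obtain ⟨M, hM⟩ : ∃ M : Matrix.SpecialLinearGroup (Fin 2) F, M.1 = !![r, 0; 0, r⁻¹] :=
      ⟨⟨!![r, 0; 0, r⁻¹], by simp [Matrix.det_fin_two, hr0]⟩, rfl⟩
    refine heq _ M fun x => ?_
    cases x with
    | infty =>
      rw [OnePoint.smul_infty_eq_self_iff.mpr (by simp [hco, hM])]
      exact ((h.D_fix d).mp hd).1
    | coe z =>
      rw [OnePoint.smul_some_eq_ite]
      simp only [hco, hM, Matrix.cons_val', Matrix.cons_val_zero, Matrix.cons_val_one, Matrix.of_apply,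
        Matrix.cons_val_fin_one, zero_mul, zero_add, inv_ne_zero hr0, if_false, add_zero, div_inv_eq_mul]
      show d • P z = P (r * z * r)
      rw [hdil hd hdv, hr]
      congr 1
      ring
  have hur : u ∈ Φ.range.comap Ψ := by
    obtain ⟨ρ, hρ⟩ := hna
    have hρ0 : ρ ≠ 0 := fun e => ha0 (neg_eq_zero.mp (by rw [hρ, e, mul_zero]))
    obtain ⟨M, hM⟩ : ∃ M : Matrix.SpecialLinearGroup (Fin 2) F, M.1 = !![0, -ρ; ρ⁻¹, 0] :=
      ⟨⟨!![0, -ρ; ρ⁻¹, 0], by simp [Matrix.det_fin_two, hρ0]⟩, rfl⟩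
    refine heq _ M fun x => ?_
    cases x with
    | infty =>
      rw [OnePoint.smul_infty_eq_ite]
      simp only [hco, hM, Matrix.cons_val', Matrix.cons_val_zero, Matrix.cons_val_one, Matrix.of_apply,
        Matrix.cons_val_fin_one, inv_ne_zero hρ0, if_false, zero_div]
      show u • p₀ = P 0
      rw [hP0, h.u_p]
    | coe z =>
      rw [OnePoint.smul_some_eq_ite]
      simp only [hco, hM, Matrix.cons_val', Matrix.cons_val_zero, Matrix.cons_val_one, Matrix.of_apply,
        Matrix.cons_val_fin_one, zero_mul, zero_add, add_zero]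
      by_cases hz : z = 0
      · rw [if_pos (by rw [hz, mul_zero]), hz]
        show u • P 0 = p₀
        rw [hP0, h.u_o]
      · rw [if_neg (mul_ne_zero (inv_ne_zero hρ0) hz)]
        show u • P z = P _
        rw [hf z hz, hfz z hz]
        congr 1
        field_simp
        linear_combination -hρ
  have hfix : ∀ g : G, g • p₀ = p₀ → g ∈ Φ.range.comap Ψ := by
    intro g hg
    obtain ⟨x, hx, -⟩ := h.reg _ (h.smul_ne_of_fix hg h.ne)
    have hm : (x : G)⁻¹ * g ∈ D := by
      refine (h.D_fix _).mpr ⟨?_, ?_⟩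
      · rw [mul_smul, hg, inv_smul_eq_iff, h.U_fix _ x.2]
      · rw [mul_smul, inv_smul_eq_iff, hx]
    have := mul_mem (hTr _ x.2) (hDr _ hm)
    rwa [mul_inv_cancel_left] at this
  have hall : ∀ g : G, g ∈ Φ.range.comap Ψ := by
    intro g
    by_cases hg : g • p₀ = p₀
    · exact hfix g hg
    · obtain ⟨x, hx, -⟩ := h.reg _ hg
      have hm := hfix (u * ((x : G)⁻¹ * g)) (by rw [mul_smul, mul_smul, ← hx, inv_smul_smul, h.u_o])
      have := mul_mem (hTr _ x.2) (mul_mem hur hm)
      rwa [← mul_assoc u, h.u_sq, one_mul, mul_inv_cancel_left] at this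
  -- the kernel and the orders
  have hker : Φ.ker = Subgroup.center (Matrix.SpecialLinearGroup (Fin 2) F) := by
    ext M
    rw [MonoidHom.mem_ker, Matrix.SpecialLinearGroup.mem_center_iff]
    constructor
    · intro hM
      have hM' : ∀ x, toGL M • x = x := fun x => hι.1 (by rw [← hΦ, hM]; rfl)
      have hc : M.1 1 0 = 0 := OnePoint.smul_infty_eq_self_iff.mp (hM' _)
      have hdet : M.1 0 0 * M.1 1 1 = 1 := by
        have := M.2
        rw [Matrix.det_fin_two, hc, mul_zero, sub_zero] at this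
        exact this
      have hd : M.1 1 1 ≠ 0 := right_ne_zero_of_mul (hdet ▸ one_ne_zero)
      have h1 := hM' ((0 : F) : OnePoint F)
      have h2 := hM' ((1 : F) : OnePoint F)
      rw [OnePoint.smul_some_eq_ite] at h1 h2
      simp only [hco, hc, mul_zero, zero_add, zero_mul, if_neg hd, if_false,
        OnePoint.coe_eq_coe, div_eq_zero_iff, hd, or_false] at h1
      simp only [hco, hc, zero_mul, zero_add, if_neg hd, if_false,
        OnePoint.coe_eq_coe, h1, add_zero, mul_one, div_eq_one_iff_eq hd] at h2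
      refine ⟨M.1 0 0, ?_, Matrix.ext fun i j => ?_⟩
      · rw [← h2] at hdet
        rw [Fintype.card_fin, sq, hdet]
      · fin_cases i <;> fin_cases j <;> simp [h1, hc, ← h2]
    · rintro ⟨r, hr, hrM⟩
      have e : ∀ i j, M.1 i j = if i = j then r else 0 := fun i j => by
        rw [← hrM, Matrix.scalar_apply, Matrix.diagonal_apply]
      have hr0 : r ≠ 0 := by rintro rfl; simp at hr
      refine Equiv.ext fun w => ?_
      obtain ⟨x, rfl⟩ := hι.2 w
      rw [hΦ]
      refine congrArg ι ?_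
      cases x with
      | infty => exact OnePoint.smul_infty_eq_self_iff.mpr (by simp [hco, e])
      | coe z =>
        rw [OnePoint.smul_some_eq_ite]
        simp [hco, e, hr0]
  have hΨinj : Function.Injective Ψ := MulAction.toPerm_injective
  let eP : Matrix.ProjectiveSpecialLinearGroup (Fin 2) F ≃* Φ.range :=
    (QuotientGroup.quotientMulEquivOfEq hker.symm).trans (QuotientGroup.quotientKerEquivRange Φ)
  have hcardG : Nat.card G = Nat.card Φ.range := by
    rw [← Nat.card_congr eP.toEquiv]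
    have h1 := PSL2.card_psl_mul (F := F)
    have hodd : Odd q := hcard ▸ h.odd
    rw [Nat.card_eq_fintype_card (α := F), ← hq,
      Nat.gcd_eq_left (even_iff_two_dvd.mp (Nat.Odd.sub_odd hodd odd_one))] at h1
    have h2 := h.card_G
    rw [← hcard] at h2
    have h3 : 2 * Nat.card G = 2 * Nat.card (PSL2.PSL2 F) := by rw [h2, h1]; ring
    exact Nat.eq_of_mul_eq_mul_left two_pos h3
  have hrange : Ψ.range = Φ.range := by
    refine Subgroup.eq_of_le_of_card_ge ?_ (le_of_eq ?_)
    · rintro _ ⟨g, rfl⟩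
      exact hall g
    · rw [← hcardG]
      exact Nat.card_congr (MonoidHom.ofInjective hΨinj).toEquiv
  exact ⟨(MonoidHom.ofInjective hΨinj).trans ((MulEquiv.subgroupCongr hrange).trans eP.symm)⟩

end LineHyp

end Cfsg.Agent.BSW.Line
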