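/-
The theorem of Brauer, Suzuki and Wall when `K` has order two.

* `Hyp.real_facts` : the centralizer of an element inverted by an involution
* `Hyp.structure_of_two` : the index of the centralizer is 3 or 15
* `Hyp.conclusion_of_two`
* `Hyp.conclusion` : the theorem
-/
import Cfsg.Agent.Lib.BSW.Local

set_option autoImplicit false

namespace Cfsg.Agent.BSW

open Cfsg.Agent

variable {G : Type*} [Group G]

namespace Hyp

variable {t s : G} {K : Subgroup G} (h : Hyp t s K) [Finite G] (h2 : Nat.card K = 2)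
include h h2

set_option linter.unusedSectionVars false

theorem sq_of_mem_cent {u v : G} (hu : orderOf u = 2) (hv : v ∈ cent u) : v * v = 1 := by
  obtain ⟨c, rfl⟩ := isConj_iff.1 (h.all_conj t u h.ht hu)
  have hv' : c⁻¹ * v * c ∈ cent t := by simpa [mul_assoc] using conj_mem_cent (g := c⁻¹) hv
  have hsq : (c⁻¹ * v * c) * (c⁻¹ * v * c) = 1 := by
    by_cases hK : c⁻¹ * v * c ∈ K
    · have hd : orderOf (c⁻¹ * v * c) ∣ 2 := h2 ▸ Subgroup.orderOf_dvd_natCard K hK
      rw [← sq]; exact orderOf_dvd_iff_pow_eq_one.1 hd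
    · exact h.sq_of_not_mem hv' hK
  calc v * v = c * ((c⁻¹ * v * c) * (c⁻¹ * v * c)) * c⁻¹ := by group
    _ = 1 := by rw [hsq]; group

theorem odd_of_dvd_index {a : ℕ} (ha : a ∣ (cent t).index) : Odd a :=
  Odd.of_dvd_nat h.odd_index ha

/-- The centralizer of an element inverted by an involution. -/
theorem real_facts {y u : G} (hy : y ∈ out K) (hu : u ∈ invols y) :
    3 ≤ Nat.card (cent y) ∧ Nat.card (cent y) ∣ (cent t).index ∧
    (∀ x ∈ cent y, x ≠ 1 → x ∈ out K ∧ cent x = cent y) ∧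
    Subgroup.normalizer (cent y : Set G) = cent y ⊔ Subgroup.zpowers u ∧
    Nat.card (Subgroup.normalizer (cent y : Set G)) = 2 * Nat.card (cent y) ∧
    (conjInto (cent y)).ncard * Nat.card (cent y) =
      2 * (cent t).index * (Nat.card (cent y) - 1) ∧
    conjInto (cent y) ⊆ out K ∧
    ∀ z ∈ conjInto (cent y), (invols z).ncard = Nat.card (cent y) := by
  obtain ⟨hinv, hab⟩ := h.inverts_cent hu.1 hy hu.2
  set A := cent y with hA
  have hAout : ∀ x ∈ A, x ≠ 1 → x ∈ out K := fun x hx hx1 => h.mem_out_of_mem_cent hy hx hx1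
  have hc : ∀ x ∈ A, x ≠ 1 → cent x = A := by
    intro x hx hx1
    refine le_antisymm (fun z hz => ?_) fun z hz => mem_cent.2 (hab z hz x hx)
    obtain ⟨-, habx⟩ := h.inverts_cent hu.1 (hAout x hx hx1) (hinv x hx)
    exact mem_cent.2 (habx z hz y (mem_cent.2 (hab y (self_mem_cent y) x hx)))
  have hdvd := h.card_cent_dvd hy
  have hodd : Odd (Nat.card A) := h.odd_of_dvd_index h2 hdvd
  have h3 : 3 ≤ Nat.card A := by
    have h1 : 1 < Nat.card A := Finite.one_lt_card_iff_nontrivial.2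
      ⟨⟨⟨y, self_mem_cent y⟩, 1, fun e => hy.1 (congrArg Subtype.val e)⟩⟩
    obtain ⟨j, hj⟩ := hodd
    omega
  set N := Subgroup.normalizer (A : Set G) with hN
  have huN : u ∈ N := mem_normalizer_of_conj fun x hx => by rw [hinv x hx]; exact A.inv_mem hx
  have uu := Involution.mul_self hu.1
  have hfix : ∀ x ∈ A, x ∈ cent u → x = 1 := by
    intro x hx hxu
    by_contra h1
    exact h.not_commute_involution hu.1 (hAout x hx h1) (mem_cent.1 hxu).symm
  have hinvol : ∀ v ∈ N, orderOf v = 2 → u * v ∈ A := by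
    intro v hv hv2
    have hi := (inverts_of_free A (Involution.mul_self hv2)
      (fun z hz => conj_mem_of_mem_normalizer hv hz) fun z hz hc => by
        by_contra h1
        exact h.not_commute_involution hv2 (hAout z hz h1) hc).1 y (self_mem_cent y)
    refine mem_cent.2 (conj_eq_iff.1 ?_)
    calc u * v * y * (u * v)⁻¹ = u * (v * y * v⁻¹) * u⁻¹ := by group
      _ = (u * y * u⁻¹)⁻¹ := by rw [hi]; group
      _ = y := by rw [hu.2, inv_inv]
  have hsub : (N : Set G) ⊆ (A : Set G) ∪ (fun x => x * u) '' (A : Set G) := by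
    intro g hg
    have hc' := hinvol _ (N.mul_mem (N.mul_mem hg huN) (N.inv_mem hg))
      (by rw [Involution.orderOf_conj]; exact hu.1)
    obtain ⟨e, he, hee⟩ := exists_sq_of_odd hc'
      (Odd.of_dvd_nat hodd (Subgroup.orderOf_dvd_natCard A hc'))
    have ht' := hinv e he
    have hconj : g * u * g⁻¹ = e⁻¹ * u * e := by
      have e1 : g * u * g⁻¹ = u * (u * (g * u * g⁻¹)) := by rw [← mul_assoc, uu, one_mul]
      rw [e1, ← hee, ← ht', show u * e * u⁻¹ * u * e = u * (e * e) by group]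
    have hm : e * g ∈ cent u := mem_cent.2 (conj_eq_iff.1 <| by
      calc e * g * u * (e * g)⁻¹ = e * (g * u * g⁻¹) * e⁻¹ := by group
        _ = u := by rw [hconj]; group)
    by_cases h1 : e * g = 1
    · exact Or.inl (eq_inv_of_mul_eq_one_right h1 ▸ A.inv_mem he)
    · have hv2 := Involution.orderOf_of_sq (h.sq_of_mem_cent h2 hu.1 hm) h1
      have h4 := hfix _ (hinvol _ (N.mul_mem (Subgroup.le_normalizer he) hg) hv2)
        ((cent u).mul_mem (self_mem_cent u) hm)
      refine Or.inr ⟨e⁻¹, A.inv_mem he, ?_⟩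
      have e5 : e * g = u := by
        rw [eq_inv_of_mul_eq_one_right h4, Involution.inv_eq hu.1]
      show e⁻¹ * u = g
      rw [← e5, inv_mul_cancel_left]
  have hNcard : Nat.card N = 2 * Nat.card A := by
    refine le_antisymm ?_ (Nat.le_of_dvd Nat.card_pos ?_)
    · have e1 := (Set.ncard_le_ncard hsub (Set.toFinite _)).trans (Set.ncard_union_le _ _)
      have e2 := Set.ncard_image_le (f := fun x => x * u) (Set.toFinite (A : Set G))
      rw [← Nat.card_coe_set_eq (N : Set G), ← Nat.card_coe_set_eq (A : Set G)] at e1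
      rw [← Nat.card_coe_set_eq (A : Set G)] at e2
      simp only [SetLike.coe_sort_coe] at e1 e2
      omega
    · refine (Nat.coprime_two_left.2 hodd).mul_dvd_of_dvd_of_dvd ?_
        (Subgroup.card_dvd_of_le Subgroup.le_normalizer)
      exact hu.1 ▸ Subgroup.orderOf_dvd_natCard N huN
  have hsup : N = A ⊔ Subgroup.zpowers u := by
    refine (sup_eq_of_card Subgroup.le_normalizer (Subgroup.zpowers_le.2 huN) ?_ ?_).symm
    · rw [Nat.card_zpowers, hu.1]; exact Nat.coprime_two_right.2 hodd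
    · rw [hNcard, Nat.card_zpowers, hu.1, mul_comm]
  have hcount := ncard_conjInto A N (fun g hg x hx => conj_mem_of_mem_normalizer hg hx)
    (fun g x hx hx1 hgx => mem_normalizer_of_cent (hc x hx hx1)
      (hc _ hgx (fun e => hx1 (conj_eq_one_iff.1 e))))
  refine ⟨h3, hdvd, fun x hx hx1 => ⟨hAout x hx hx1, hc x hx hx1⟩, hsup, hNcard, ?_, ?_, ?_⟩
  · have e := N.card_mul_index
    rw [hNcard, h.card_eq, h2] at e
    have hidx : Nat.card A * N.index = 2 * (cent t).index := by linarith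
    rw [hcount, ← hidx]; ring
  · intro z hz
    obtain ⟨g, x, hx, hx1, rfl⟩ := exists_eq_conj hz
    exact h.conj_mem_out (hAout x hx hx1) g
  · intro z hz
    obtain ⟨g, x, hx, hx1, rfl⟩ := exists_eq_conj hz
    have hmem : g * u * g⁻¹ ∈ invols (g * x * g⁻¹) := by
      refine ⟨by rw [Involution.orderOf_conj]; exact hu.1, ?_⟩
      calc g * u * g⁻¹ * (g * x * g⁻¹) * (g * u * g⁻¹)⁻¹ = g * (u * x * u⁻¹) * g⁻¹ := by group
        _ = (g * x * g⁻¹)⁻¹ := by rw [hinv x hx]; group
    rw [h.ncard_invols hmem (h.conj_mem_out (hAout x hx hx1) g), card_cent_conj, hc x hx hx1]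

/-- Two such centralizers are conjugate when they share a prime or a class. -/
theorem conjInto_eq_of_mem {y u z v : G} (hy : y ∈ out K) (hu : u ∈ invols y) (hz : z ∈ out K)
    (hv : v ∈ invols z) {x : G} (hx : x ∈ conjInto (cent y)) (hx' : x ∈ conjInto (cent z)) :
    z ∈ conjInto (cent y) := by
  obtain ⟨-, -, hcy, -⟩ := h.real_facts h2 hy hu
  obtain ⟨-, -, hcz, -⟩ := h.real_facts h2 hz hv
  obtain ⟨g, b, hb, hb1, rfl⟩ := exists_eq_conj hx
  obtain ⟨g', b', hb', hb1', he⟩ := exists_eq_conj hx'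
  have e1 : b' = (g'⁻¹ * g) * b * (g'⁻¹ * g)⁻¹ := by
    calc b' = g'⁻¹ * (g' * b' * g'⁻¹) * g' := by group
      _ = g'⁻¹ * g * b * (g'⁻¹ * g)⁻¹ := by rw [← he]; group
  have hzc : z ∈ cent b' := (hcz b' hb' hb1').2.symm ▸ self_mem_cent z
  rw [e1] at hzc
  have := conj_mem_cent (g := (g'⁻¹ * g)⁻¹) hzc
  refine ⟨hz.1, g'⁻¹ * g, ?_⟩
  rw [← (hcy b hb hb1).2]
  simpa [mul_assoc] using this

theorem coprime_cards {y u z v : G} (hy : y ∈ out K) (hu : u ∈ invols y) (hz : z ∈ out K)
    (hv : v ∈ invols z) (hne : z ∉ conjInto (cent y)) :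
    Nat.Coprime (Nat.card (cent y)) (Nat.card (cent z)) := by
  refine Nat.coprime_of_dvd fun r hr h1 h4 => hne ?_
  have := Fact.mk hr
  have hfull : ∀ {w v : G}, w ∈ out K → v ∈ invols w → r ∣ Nat.card (cent w) →
      ∃ R : Sylow r G, (R : Subgroup G) ≤ cent w := by
    intro w v hw hv hrw
    obtain ⟨-, -, hcw, -⟩ := h.real_facts h2 hw hv
    obtain ⟨x, hx⟩ := exists_prime_orderOf_dvd_card' r hrw
    have hxo : orderOf (x : G) = r := by rwa [Subgroup.orderOf_coe]
    have hx1 : (x : G) ≠ 1 := fun e => by rw [e, orderOf_one] at hxo; exact hr.one_lt.ne hxo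
    have hxP : IsPGroup r (Subgroup.zpowers (x : G)) :=
      IsPGroup.of_card (n := 1) (by rw [Nat.card_zpowers, hxo, pow_one])
    obtain ⟨R, hR⟩ := hxP.exists_le_sylow
    obtain ⟨c, -, hc1, -, hcc⟩ := h.exists_sylow_center r R
      (hrw.trans (Subgroup.card_subgroup_dvd_card _))
    have hcm : c ∈ cent w :=
      (hcw x x.2 hx1).2 ▸ mem_cent.2 (hcc x (hR (Subgroup.mem_zpowers _))).symm
    exact ⟨R, fun p hp => (hcw c hcm hc1).2 ▸ mem_cent.2 (hcc p hp)⟩
  obtain ⟨R, hR⟩ := hfull hy hu h1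
  obtain ⟨R', hR'⟩ := hfull hz hv h4
  have hrG : r ∣ Nat.card G := h1.trans (Subgroup.card_subgroup_dvd_card _)
  obtain ⟨g, hg⟩ := MulAction.exists_smul_eq G R R'
  obtain ⟨⟨x, hx⟩, hx1⟩ := Subgroup.ne_bot_iff_exists_ne_one.1 (R.ne_bot_of_dvd_card hrG)
  have hx1' : x ≠ 1 := fun e => hx1 (Subtype.ext e)
  refine h.conjInto_eq_of_mem h2 hy hu hz hv
    (conj_mem_conjInto (mem_conjInto_of_mem (hR hx) hx1') g) (mem_conjInto_of_mem (hR' ?_) ?_)
  · rw [← hg, Sylow.coe_subgroup_smul]; exact ⟨x, hx, rfl⟩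
  · exact fun e => hx1' (conj_eq_one_iff.1 e)

theorem conclusion_five {y u : G} (hy : y ∈ out K) (hu : u ∈ invols y)
    (ha : Nat.card (cent y) = 5) (hn : (cent t).index = 15) : Conclusion G := by
  obtain ⟨-, -, hc, hN, -⟩ := h.real_facts h2 hy hu
  set D := Subgroup.zpowers u with hD
  have hD2 : Nat.card D = 2 := by rw [Nat.card_zpowers, hu.1]
  have hDmem : ∀ x ∈ D, x ≠ 1 → x = u := by
    intro x hx hx1
    obtain ⟨k, rfl⟩ := Subgroup.mem_zpowers_iff.1 hx
    rcases Int.even_or_odd k with ⟨m, rfl⟩ | ⟨m, rfl⟩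
    · exact absurd (by rw [zpow_add, ← (Commute.refl u).mul_zpow, Involution.mul_self hu.1,
        one_zpow]) hx1
    · rw [zpow_add, zpow_mul, zpow_one, zpow_two, Involution.mul_self hu.1, one_zpow, one_mul]
  have hND : Subgroup.normalizer (D : Set G) = cent u := by
    refine le_antisymm (fun g hg => mem_cent.2 (conj_eq_iff.1 ?_)) fun g hg => ?_
    · refine hDmem _ (conj_mem_of_mem_normalizer hg (Subgroup.mem_zpowers u)) fun e => ?_
      exact Involution.ne_one hu.1 (conj_eq_one_iff.1 e)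
    · refine mem_normalizer_of_conj fun x hx => ?_
      by_cases hx1 : x = 1
      · rw [hx1]; simp
      · rw [hDmem x hx hx1, conj_eq_iff.2 (mem_cent.1 hg)]; exact Subgroup.mem_zpowers u
  have hcu : Nat.card (cent u) = 4 := by rw [h.card_cent_involution hu.1, h2]
  obtain ⟨v, hv, hvD⟩ : ∃ v ∈ cent u, v ∉ D := by
    by_contra hall
    push Not at hall
    have := Subgroup.card_le_of_le (show cent u ≤ D from hall)
    omega
  have hv2 : orderOf v = 2 :=
    Involution.orderOf_of_sq (h.sq_of_mem_cent h2 hu.1 hv) fun e => hvD (e ▸ D.one_mem)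
  refine ⟨cent y, D, ?_, fun x hx hx1 => (hc x hx hx1).2,
    ⟨⟨fun a b => Subtype.ext ?_⟩⟩, by rw [hD2, ha], ?_, hN, fun X hX hXne => ?_⟩
  · rw [ha, h.card_eq, h2, hn]
  · obtain ⟨k, hk⟩ := Subgroup.mem_zpowers_iff.1 a.2
    obtain ⟨l, hl⟩ := Subgroup.mem_zpowers_iff.1 b.2
    show (a : G) * b = b * a
    rw [← hk, ← hl, ← zpow_add, ← zpow_add, add_comm]
  · exact inf_eq_bot_of_coprime (by rw [ha, hD2]; norm_num)
  · obtain ⟨⟨z, hz⟩, hz1⟩ := Subgroup.ne_bot_iff_exists_ne_one.1 hXne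
    have hzu : z = u := hDmem z (hX hz) fun e => hz1 (Subtype.ext e)
    have hXD : X = D := le_antisymm hX (Subgroup.zpowers_le.2 (hzu ▸ hz))
    refine ⟨by rw [hXD], v, hv2, hvD, fun d hd => ?_, ?_⟩
    · by_cases hd1 : d = 1
      · simp [hd1]
      · rw [hDmem d hd hd1, Involution.inv_eq hu.1, conj_eq_iff.2 (mem_cent.1 hv)]
    · rw [hND]
      have hle : D ⊔ Subgroup.zpowers v ≤ cent u :=
        sup_le (Subgroup.zpowers_le.2 (self_mem_cent u)) (Subgroup.zpowers_le.2 hv)
      refine (Subgroup.eq_of_le_of_card_ge hle ?_).symm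
      have h5 : Nat.card D ∣ Nat.card (D ⊔ Subgroup.zpowers v : Subgroup G) :=
        Subgroup.card_dvd_of_le le_sup_left
      have h6 : Nat.card D ≠ Nat.card (D ⊔ Subgroup.zpowers v : Subgroup G) := fun e => hvD <| by
        rw [Subgroup.eq_of_le_of_card_ge le_sup_left e.ge]
        exact Subgroup.mem_sup_right (Subgroup.mem_zpowers v)
      have h7 := Nat.le_of_dvd Nat.card_pos (Subgroup.card_dvd_of_le hle)
      obtain ⟨j, hj⟩ := h5
      have := Nat.card_pos (α := (D ⊔ Subgroup.zpowers v : Subgroup G))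
      rw [hD2] at hj h6
      omega

theorem conclusion_three (hnr : ∀ y ∈ out K, ∀ u, u ∉ invols y) (hn : (cent t).index = 3) :
    Conclusion G := by
  have := Fact.mk Nat.prime_three
  have hG : Nat.card G = 12 := by rw [h.card_eq, h2, hn]
  obtain ⟨x, hx⟩ := exists_prime_orderOf_dvd_card' (G := G) 3 (by rw [hG]; norm_num)
  set Q := Subgroup.zpowers x with hQdef
  have hQ : Nat.card Q = 3 := by rw [Nat.card_zpowers, hx]
  have hQout : ∀ z ∈ Q, z ≠ 1 → z ∈ out K := fun z hz hz1 => h.mem_out_of_coprime hz1 (by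
    rw [h2]
    exact Nat.Coprime.coprime_dvd_left (hQ ▸ Subgroup.orderOf_dvd_natCard Q hz) (by norm_num))
  have hcent : ∀ z ∈ Q, z ≠ 1 → cent z = Q := by
    intro z hz hz1
    refine (Subgroup.eq_of_le_of_card_ge (fun w hw => mem_cent.2 ?_) ?_).symm
    · obtain ⟨k, rfl⟩ := Subgroup.mem_zpowers_iff.1 hz
      obtain ⟨l, rfl⟩ := Subgroup.mem_zpowers_iff.1 hw
      rw [← zpow_add, ← zpow_add, add_comm]
    · rw [hQ]
      exact Nat.le_of_dvd (by norm_num) (hn ▸ h.card_cent_dvd (hQout z hz hz1))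
  have hN : Subgroup.normalizer (Q : Set G) = Q := by
    refine (Subgroup.eq_of_le_of_card_ge Subgroup.le_normalizer ?_).symm
    have hodd : ¬ 2 ∣ Nat.card (Subgroup.normalizer (Q : Set G)) := by
      intro hd
      obtain ⟨u, hu⟩ := exists_prime_orderOf_dvd_card' 2 hd
      have hu' : orderOf (u : G) = 2 := by rwa [Subgroup.orderOf_coe]
      have hxQ : x ∈ Q := Subgroup.mem_zpowers x
      have hx1 : x ≠ 1 := fun e => by rw [e, orderOf_one] at hx; norm_num at hx
      refine hnr x (hQout x hxQ hx1) (u : G) ⟨hu', ?_⟩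
      exact (inverts_of_free Q (Involution.mul_self hu')
        (fun z hz => conj_mem_of_mem_normalizer u.2 hz) fun z hz hc => by
          by_contra h1
          exact h.not_commute_involution hu' (hQout z hz h1) hc).1 x hxQ
    have hd1 : 3 ∣ Nat.card (Subgroup.normalizer (Q : Set G)) :=
      hQ ▸ Subgroup.card_dvd_of_le Subgroup.le_normalizer
    have hd2 : Nat.card (Subgroup.normalizer (Q : Set G)) ∣ 12 :=
      hG ▸ Subgroup.card_subgroup_dvd_card _
    have h12 := Nat.le_of_dvd (by norm_num) hd2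
    rw [hQ]
    generalize Nat.card (Subgroup.normalizer (Q : Set G)) = m at *
    interval_cases m <;> omega
  refine ⟨Q, ⊥, by rw [hQ, hG], hcent, ?_, by rw [hQ, Subgroup.card_bot], inf_bot_eq Q,
    by rw [hN, sup_bot_eq], fun X hX hXne => absurd (le_bot_iff.1 hX) hXne⟩
  exact ⟨⟨fun a b => Subsingleton.elim _ _⟩⟩

theorem structure_of_two :
    ((∀ y ∈ out K, ∀ u, u ∉ invols y) ∧ (cent t).index = 3) ∨
      ∃ y u, y ∈ out K ∧ u ∈ invols y ∧ Nat.card (cent y) = 5 ∧ (cent t).index = 15 := by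
  classical
  have := Fintype.ofFinite G
  have hn := h.ncard_invertedBy
  have hout := h.ncard_out
  rw [h2] at hn hout
  have hsum := h.sum_ncard_invols
  set n := (cent t).index with hndef
  have hnpos : 0 < n := Nat.pos_of_ne_zero Subgroup.index_ne_zero_of_finite
  set S := (Finset.univ : Finset G).filter (· ∈ out K) with hS
  -- the contribution of the conjugates of one centralizer
  have hpart : ∀ y u, y ∈ out K → u ∈ invols y →
      ∑ z ∈ S.filter (· ∈ conjInto (cent y)), (invols z).ncard =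
        2 * n * (Nat.card (cent y) - 1) ∧
      (S.filter (· ∈ conjInto (cent y))).card = (conjInto (cent y)).ncard ∧
      4 * n ≤ 3 * (conjInto (cent y)).ncard := by
    intro y u hy hu
    obtain ⟨h3, -, -, -, -, hcount, hsub, hreal⟩ := h.real_facts h2 hy hu
    have hcard : (S.filter (· ∈ conjInto (cent y))).card = (conjInto (cent y)).ncard := by
      rw [← Set.ncard_coe_finset]
      congr 1
      ext z
      simp only [hS, Finset.coe_filter, Finset.mem_filter, Finset.mem_univ, true_and,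
        Set.mem_ofPred_eq]
      exact ⟨fun e => e.2, fun e => ⟨hsub e, e⟩⟩
    refine ⟨?_, hcard, ?_⟩
    · rw [Finset.sum_congr rfl fun z hz => hreal z (Finset.mem_filter.1 hz).2, Finset.sum_const,
        smul_eq_mul, hcard, hcount]
    · obtain ⟨j, hj⟩ : ∃ j, Nat.card (cent y) = j + 3 :=
        ⟨Nat.card (cent y) - 3, (Nat.sub_add_cancel h3).symm⟩
      rw [hj, show j + 3 - 1 = j + 2 by omega] at hcount
      refine Nat.le_of_mul_le_mul_right ?_ (show 0 < j + 3 by omega)
      calc 4 * n * (j + 3) ≤ 3 * (2 * n * (j + 2)) := by nlinarith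
        _ = 3 * (conjInto (cent y)).ncard * (j + 3) := by rw [← hcount]; ring
  by_cases hex : ∃ y ∈ out K, ∃ u, u ∈ invols y
  swap
  · push Not at hex
    refine Or.inl ⟨hex, ?_⟩
    rw [Finset.sum_eq_zero fun z hz => by
      rw [Set.eq_empty_of_forall_notMem (hex z (Finset.mem_filter.1 hz).2), Set.ncard_empty]] at hsum
    rcases mul_eq_zero.1 hsum.symm with e | e <;> omega
  obtain ⟨y, hy, u, hu⟩ := hex
  obtain ⟨hsumA, hcardA, hlowA⟩ := hpart y u hy hu
  obtain ⟨ha3, hadvd, -⟩ := h.real_facts h2 hy hu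
  set SA := S.filter (· ∈ conjInto (cent y)) with hSA
  set SR := S.filter (fun z => ¬ z ∈ conjInto (cent y)) with hSR
  have hsplit : ∑ z ∈ SA, (invols z).ncard + ∑ z ∈ SR, (invols z).ncard =
      n * (invertedBy K t).ncard := by
    rw [hSA, hSR, Finset.sum_filter_add_sum_filter_not]; exact hsum
  by_cases hex2 : ∃ z ∈ SR, ∃ v, v ∈ invols z
  swap
  · exfalso
    push Not at hex2
    rw [hsumA, Finset.sum_eq_zero fun z hz => by
      rw [Set.eq_empty_of_forall_notMem (hex2 z hz), Set.ncard_empty], add_zero] at hsplit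
    have e : (invertedBy K t).ncard = 2 * (Nat.card (cent y) - 1) :=
      Nat.eq_of_mul_eq_mul_left hnpos (by rw [← hsplit]; ring)
    have h1 : Nat.card (cent y) ∣ 1 := by
      refine (Nat.dvd_add_right (dvd_mul_left (Nat.card (cent y)) 2)).1 ?_
      rwa [show 2 * Nat.card (cent y) + 1 = n by omega]
    have := Nat.dvd_one.1 h1
    omega
  obtain ⟨z, hzR, v, hv⟩ := hex2
  obtain ⟨hzS, hzA⟩ := Finset.mem_filter.1 hzR
  have hz : z ∈ out K := (Finset.mem_filter.1 hzS).2
  obtain ⟨hsumB, hcardB, hlowB⟩ := hpart z v hz hv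
  obtain ⟨hb3, hbdvd, -⟩ := h.real_facts h2 hz hv
  have hcop := h.coprime_cards h2 hy hu hz hv hzA
  set SB := S.filter (· ∈ conjInto (cent z)) with hSB
  have hd : ∀ w, w ∈ conjInto (cent y) → w ∉ conjInto (cent z) := fun w hw hw' =>
    hzA (h.conjInto_eq_of_mem h2 hy hu hz hv hw hw')
  have hSBeq : SR.filter (· ∈ conjInto (cent z)) = SB := by
    ext w
    simp only [hSR, hSB, Finset.mem_filter]
    exact ⟨fun e => ⟨e.1.1, e.2⟩, fun e => ⟨⟨e.1, fun e' => hd w e' e.2⟩, e.2⟩⟩
  have hrest : ∀ w ∈ SR.filter (fun w => ¬ w ∈ conjInto (cent z)), (invols w).ncard = 0 := by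
    intro w hw
    obtain ⟨hwR, hwB⟩ := Finset.mem_filter.1 hw
    obtain ⟨hwS, hwA⟩ := Finset.mem_filter.1 hwR
    by_contra hne
    obtain ⟨v', hv'⟩ := Set.nonempty_of_ncard_ne_zero hne
    have hw' := (Finset.mem_filter.1 hwS).2
    obtain ⟨-, hcardC, hlowC⟩ := hpart w v' hw' hv'
    have hAB : Disjoint SA SB := by
      rw [Finset.disjoint_filter]; exact fun x _ hx hx' => hd x hx hx'
    have hABC : Disjoint (SA ∪ SB) (S.filter (· ∈ conjInto (cent w))) := by
      rw [Finset.disjoint_left]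
      intro x hx hx'
      have hxC := (Finset.mem_filter.1 hx').2
      rcases Finset.mem_union.1 hx with e | e
      · exact hwA (h.conjInto_eq_of_mem h2 hy hu hw' hv' (Finset.mem_filter.1 e).2 hxC)
      · exact hwB (h.conjInto_eq_of_mem h2 hz hv hw' hv' (Finset.mem_filter.1 e).2 hxC)
    have hle := Finset.card_le_card (show SA ∪ SB ∪ S.filter (· ∈ conjInto (cent w)) ⊆ S from
      Finset.union_subset (Finset.union_subset (Finset.filter_subset _ _) (Finset.filter_subset _ _))
        (Finset.filter_subset _ _))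
    rw [Finset.card_union_of_disjoint hABC, Finset.card_union_of_disjoint hAB, hcardA, hcardB,
      hcardC] at hle
    have hScard : S.card = (out K).ncard := by
      rw [← Set.ncard_coe_finset]; congr 1; ext x; simp [hS]
    omega
  rw [← Finset.sum_filter_add_sum_filter_not SR (· ∈ conjInto (cent z)), hSBeq,
    Finset.sum_eq_zero hrest, add_zero, hsumA, hsumB] at hsplit
  have e : (invertedBy K t).ncard =
      2 * (Nat.card (cent y) - 1) + 2 * (Nat.card (cent z) - 1) :=
    Nat.eq_of_mul_eq_mul_left hnpos (by rw [← hsplit]; ring)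
  have hab : Nat.card (cent y) * Nat.card (cent z) ≤ n :=
    Nat.le_of_dvd hnpos (hcop.mul_dvd_of_dvd_of_dvd hadvd hbdvd)
  have hne : Nat.card (cent y) ≠ Nat.card (cent z) := fun e => by
    rw [e, Nat.coprime_self] at hcop; omega
  obtain ⟨i, hi⟩ := h.odd_of_dvd_index h2 hadvd
  obtain ⟨j, hj⟩ := h.odd_of_dvd_index h2 hbdvd
  have hn' : n + 1 = 4 * i + 4 * j + 4 := by omega
  have hij : 4 * i * j ≤ 2 * i + 2 * j + 2 := by
    rw [hi, hj, show (2 * i + 1) * (2 * j + 1) = 4 * i * j + 2 * i + 2 * j + 1 by ring] at hab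
    omega
  have hcases : (i = 2 ∧ j = 1) ∨ (i = 1 ∧ j = 2) := by
    have hi1 : 1 ≤ i := by omega
    have hj1 : 1 ≤ j := by omega
    have h6 : i + j ≤ 3 := by
      obtain ⟨i', rfl⟩ : ∃ i', i = i' + 1 := ⟨i - 1, by omega⟩
      obtain ⟨j', rfl⟩ : ∃ j', j = j' + 1 := ⟨j - 1, by omega⟩
      rw [show 4 * (i' + 1) * (j' + 1) = 4 * (i' * j') + 4 * i' + 4 * j' + 4 by ring] at hij
      omega
    have hi2 : i ≤ 2 := by omega
    have hj2 : j ≤ 2 := by omega
    interval_cases i <;> interval_cases j <;> omega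
  rcases hcases with ⟨rfl, rfl⟩ | ⟨rfl, rfl⟩
  · exact Or.inr ⟨y, u, hy, hu, by omega, by omega⟩
  · exact Or.inr ⟨z, v, hz, hv, by omega, by omega⟩

theorem conclusion_of_two : Conclusion G := by
  rcases h.structure_of_two h2 with ⟨hnr, hn⟩ | ⟨y, u, hy, hu, ha, hn⟩
  · exact h.conclusion_three h2 hnr hn
  · exact h.conclusion_five h2 hy hu ha hn

omit h2 in
/-- The abstract theorem of Brauer, Suzuki and Wall. -/
theorem conclusion : Conclusion G := by
  rcases eq_or_ne (Nat.card K) 2 with e | e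
  · exact h.conclusion_of_two e
  · obtain ⟨j, hj⟩ := h.two_dvd_card
    have := Nat.card_pos (α := K)
    exact h.conclusion_of_four_le (by omega)

end Hyp

end Cfsg.Agent.BSW
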