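/-
Groups with an involution whose centralizer is a four group.

* `exists_small_normal_of_dvd` : if 8 divides the order there is a normal elementary abelian
  subgroup of order at most four
* `mulEquiv_alternatingFive_of_hyp` : the Brauer-Suzuki-Wall situation with `|K| = 2`
-/
import Cfsg.Agent.Lib.BSW.Two
import Cfsg.Agent.Lib.PSL2.Groups
import Mathlib.GroupTheory.Nilpotent
import Mathlib.GroupTheory.Perm.Cycle.Type

set_option autoImplicit false

namespace Cfsg.Agent.BSW

open Cfsg Cfsg.Agent
open scoped ComplexConjugate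

variable {G : Type*} [Group G]

/-- The action of an involution on the cosets of the subgroup it generates is odd. -/
theorem exists_sign_hom [Finite G] {x : G} (hx : orderOf x = 2) (hC : Nat.card (cent x) = 4)
    (h8 : 8 ∣ Nat.card G) : ∃ ε : G →* ℤˣ, ε x = -1 := by
  classical
  set A := Subgroup.zpowers x with hA
  have := Fintype.ofFinite (G ⧸ A)
  refine ⟨Equiv.Perm.sign.comp (MulAction.toPermHom G (G ⧸ A)), ?_⟩
  set σ := MulAction.toPermHom G (G ⧸ A) x with hσ
  show Equiv.Perm.sign σ = -1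
  have hσ2 : σ ^ 2 = 1 := by rw [hσ, ← map_pow, ← hx, pow_orderOf_eq_one, map_one]
  have hA2 : Nat.card A = 2 := by rw [hA, Nat.card_zpowers, hx]
  have hAmem : ∀ y ∈ A, y = 1 ∨ y = x := by
    intro y hy
    by_contra hne
    push Not at hne
    have hs : ({1, x, y} : Set G) ⊆ (A : Set G) := Set.insert_subset A.one_mem
      (Set.insert_subset (Subgroup.mem_zpowers x) (Set.singleton_subset_iff.2 hy))
    have := Set.ncard_le_ncard hs (Set.toFinite _)
    rw [Set.ncard_eq_three.2 ⟨1, x, y, (Involution.ne_one hx).symm, hne.1.symm, hne.2.symm, rfl⟩,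
      ← Nat.card_coe_set_eq] at this
    simp only [SetLike.coe_sort_coe, hA2] at this
    omega
  -- the fixed cosets
  have hfix : Nat.card {c : G ⧸ A // σ c = c} = 2 := by
    have hle : A ≤ cent x := Subgroup.zpowers_le.2 (self_mem_cent x)
    have key : ∀ g : G, σ (QuotientGroup.mk g) = (QuotientGroup.mk g : G ⧸ A) ↔ g ∈ cent x := by
      intro g
      show ((x * g : G) : G ⧸ A) = (g : G ⧸ A) ↔ _
      rw [QuotientGroup.eq, mem_cent]
      refine ⟨fun hm => ?_, fun e => ?_⟩
      · rcases hAmem _ hm with e | e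
        · exact absurd (mul_eq_right.1 (inv_mul_eq_one.1 e)) (Involution.ne_one hx)
        · calc g * x = g * ((x * g)⁻¹ * g) := by rw [e]
            _ = x⁻¹ * g := by group
            _ = x * g := by rw [Involution.inv_eq hx]
      · rw [show (x * g)⁻¹ * g = g⁻¹ * x⁻¹ * g by group, Involution.inv_eq hx, mul_assoc, ← e,
          inv_mul_cancel_left]
        exact Subgroup.mem_zpowers x
    have e1 : Nat.card (cent x ⧸ A.subgroupOf (cent x)) = Nat.card {c : G ⧸ A // σ c = c} := by
      refine Nat.card_congr (Equiv.ofBijective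
        (Quotient.lift (fun g : cent x => (⟨QuotientGroup.mk (g : G), (key g).2 g.2⟩ :
          {c : G ⧸ A // σ c = c})) fun a b hab => ?_) ⟨?_, ?_⟩)
      · exact Subtype.ext (QuotientGroup.eq.2
          (Subgroup.mem_subgroupOf.1 (QuotientGroup.leftRel_apply.1 hab)))
      · rintro ⟨a⟩ ⟨b⟩ e
        exact QuotientGroup.eq.2 (Subgroup.mem_subgroupOf.2
          (QuotientGroup.eq.1 (congrArg Subtype.val e)))
      · rintro ⟨c, hc⟩
        obtain ⟨g, rfl⟩ := QuotientGroup.mk_surjective c
        exact ⟨QuotientGroup.mk ⟨g, (key g).1 hc⟩, rfl⟩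
    rw [← e1]
    have e2 := (A.subgroupOf (cent x)).index_mul_card
    rw [Nat.card_congr (Subgroup.subgroupOfEquivOfLe hle).toEquiv, hA2, hC] at e2
    show (A.subgroupOf (cent x)).index = 2
    omega
  have hall : ∀ n ∈ σ.cycleType, n = 2 := fun n hn => by
    have h1 := Equiv.Perm.two_le_of_mem_cycleType hn
    have h2 : n ∣ 2 := (Equiv.Perm.dvd_of_mem_cycleType hn).trans (orderOf_dvd_of_pow_eq_one hσ2)
    have := Nat.le_of_dvd two_pos h2
    omega
  have hrep : σ.cycleType = Multiset.replicate σ.cycleType.card 2 :=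
    Multiset.eq_replicate_card.2 hall
  rw [Equiv.Perm.sign_of_cycleType_eq_replicate two_pos hrep,
    if_neg (by decide : ¬ Odd 2)]
  have hfp : Fintype.card (Function.fixedPoints σ) = 2 := by
    rw [← Nat.card_eq_fintype_card, ← hfix]; rfl
  obtain ⟨j, hj⟩ := h8
  have hcard : Fintype.card (G ⧸ A) = 4 * j := by
    rw [← Nat.card_eq_fintype_card, ← A.index_eq_card]
    have := A.index_mul_card
    rw [hA2, hj] at this
    omega
  rw [hfp, hcard]
  have hj0 : 0 < j := by have := Nat.card_pos (α := G); omega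
  exact (show Odd ((4 * j - 2) / 2) from ⟨j - 1, by omega⟩).neg_one_pow

/-- The column of an involution with a centralizer of order four outside the kernel of a sign. -/
theorem exists_char_pair [Fintype G] [Fintype (IrrCharacter G)] {x : G} (hx : orderOf x = 2)
    (hC : Nat.card (cent x) = 4) (ε : G →* ℤˣ) (hε : ε x = -1) :
    ∃ (χ : IrrCharacter G) (a : ℂ), (a = 1 ∨ a = -1) ∧ (χ : G → ℂ) x = a ∧
      ∑ g, ((ε g : ℤ) : ℂ) * ((χ : G → ℂ) g * conj ((χ : G → ℂ) g)) = 0 ∧
      ∑ g, (χ : G → ℂ) g = 0 ∧ ∑ g, ((ε g : ℤ) : ℂ) * (χ : G → ℂ) g = 0 ∧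
      ∀ F : IrrCharacter G → ℂ, (∀ ψ : IrrCharacter G, (ψ : G → ℂ) x = 0 → F ψ = 0) →
        ∃ e1 ee ce : IrrCharacter G, (∀ g, (e1 : G → ℂ) g = 1) ∧
          (∀ g, (ee : G → ℂ) g = ((ε g : ℤ) : ℂ)) ∧
          (∀ g, (ce : G → ℂ) g = (χ : G → ℂ) g * ((ε g : ℤ) : ℂ)) ∧
          ∑ ψ, F ψ = F e1 + F ee + F χ + F ce := by
  classical
  let l : G →* ℂ := ((Int.castRingHom ℂ).toMonoidHom.comp ((Units.coeHom ℤ).comp ε))
  have hl : ∀ g, l g = ((ε g : ℤ) : ℂ) := fun g => rfl
  let e1 : IrrCharacter G := ⟨1, Char.isIrrCharacter_one⟩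
  let ee : IrrCharacter G := ⟨l, Char.isIrrCharacter_of_hom l⟩
  have hev : Even (Nat.card G) := even_iff_two_dvd.2 (hx ▸ orderOf_dvd_natCard x)
  have hint : ∀ ψ : IrrCharacter G, ∃ m : ℤ, (ψ : G → ℂ) x = m := fun ψ => by
    refine exists_int_of_invariant
      (GaloisAvg.cycloValued_character (Char.IsIrrCharacter.isCharacter ψ.2)) x fun k hk => ?_
    obtain ⟨i, rfl⟩ : Odd k := by
      rw [← Nat.coprime_two_right]
      exact hk.coprime_dvd_right (even_iff_two_dvd.1 hev)
    rw [pow_succ, pow_mul, ← hx, pow_orderOf_eq_one, one_pow, one_mul]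
  choose m hm using hint
  have hsum : ∑ ψ : IrrCharacter G, m ψ * m ψ = 4 := by
    have e := Char.column_orth x x
    rw [if_pos (IsConj.refl x), show Nat.card (Subgroup.centralizer ({x} : Set G)) = 4 from hC,
      Finset.sum_congr rfl fun ψ _ => by rw [hm ψ, map_intCast]] at e
    exact_mod_cast e
  have hne : ee ≠ e1 := fun e => by
    have := congrFun (congrArg Subtype.val e) x
    simp only [ee, e1, hl, hε] at this
    norm_num at this
  have hm1 : m e1 * m e1 = 1 := by
    have := hm e1
    simp only [e1, Pi.one_apply] at this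
    rw [show m e1 = 1 by exact_mod_cast this.symm, mul_one]
  have hme : m ee * m ee = 1 := by
    have := hm ee
    simp only [ee, hl, hε] at this
    rw [show m ee = -1 by push_cast at this; exact_mod_cast this.symm]
    norm_num
  obtain ⟨χ, hχm, hχ1, hχe⟩ : ∃ χ : IrrCharacter G, m χ ≠ 0 ∧ χ ≠ e1 ∧ χ ≠ ee := by
    by_contra hall
    push Not at hall
    rw [sum_split hne.symm, hm1, hme, Finset.sum_eq_zero] at hsum
    · norm_num at hsum
    · intro ψ hψ
      simp only [Finset.mem_erase] at hψ
      by_contra h0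
      exact hψ.1 (hall ψ (fun e => h0 (by rw [e, mul_zero])) hψ.2.1)
  let ce : IrrCharacter G := ⟨_, Char.IsIrrCharacter.mul_linear χ.2 l⟩
  have hmce : m ce = -m χ := by
    have := hm ce
    rw [show (ce : G → ℂ) x = (χ : G → ℂ) x * l x from rfl, hl, hε, hm χ] at this
    push_cast at this
    have e : (m ce : ℂ) = ((-m χ : ℤ) : ℂ) := by push_cast; linear_combination -this
    exact_mod_cast e
  have hll : ∀ g, l g * l g = 1 := fun g => by
    rcases Int.units_eq_one_or (ε g) with e | e <;> simp [hl, e]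
  have hce1 : ce ≠ e1 := fun e => hχe <| Subtype.ext <| funext fun g => by
    have := congrFun (congrArg Subtype.val e) g
    simp only [ce, e1, Pi.one_apply] at this
    show (χ : G → ℂ) g = l g
    linear_combination l g * this - (χ : G → ℂ) g * hll g
  have hcee : ce ≠ ee := fun e => hχ1 <| Subtype.ext <| funext fun g => by
    have := congrFun (congrArg Subtype.val e) g
    simp only [ce, ee] at this
    show (χ : G → ℂ) g = 1
    linear_combination l g * this - (χ : G → ℂ) g * hll g + hll g
  have hcχ : ce ≠ χ := fun e => hχm (by rw [e] at hmce; omega)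
  set T : Finset (IrrCharacter G) := {e1, ee, χ, ce} with hT
  have hTsum : ∀ f : IrrCharacter G → ℤ, ∑ ψ ∈ T, f ψ = f e1 + f ee + f χ + f ce := fun f => by
    rw [hT, Finset.sum_insert (by simp [hne.symm, hχ1.symm, hce1.symm]),
      Finset.sum_insert (by simp [hχe.symm, hcee.symm]), Finset.sum_pair hcχ.symm]
    ring
  have hχsq : 0 < m χ * m χ := mul_self_pos.2 hχm
  have hTle : ∑ ψ ∈ T, m ψ * m ψ ≤ 4 :=
    hsum ▸ Finset.sum_le_sum_of_subset_of_nonneg (Finset.subset_univ _)
      fun ψ _ _ => mul_self_nonneg _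
  rw [hTsum, hm1, hme, hmce, neg_mul_neg] at hTle
  have hχ2 : m χ * m χ = 1 := by omega
  have hout : ∀ ψ : IrrCharacter G, ψ ∉ T → m ψ = 0 := by
    intro ψ hψ
    have hle := Finset.sum_le_sum_of_subset_of_nonneg (Finset.subset_univ (insert ψ T))
      fun φ _ _ => mul_self_nonneg (m φ)
    rw [Finset.sum_insert hψ, hTsum, hm1, hme, hmce, neg_mul_neg, hχ2, hsum] at hle
    exact mul_self_eq_zero.1 (le_antisymm (by omega) (mul_self_nonneg _))
  refine ⟨χ, (m χ : ℂ), ?_, hm χ, ?_, ?_, ?_, fun F hF => ⟨e1, ee, ce, fun g => rfl,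
    fun g => hl g, fun g => by simp [ce, hl], ?_⟩⟩
  · rcases Int.eq_one_or_neg_one_of_mul_eq_one hχ2 with e | e <;> simp [e]
  · have e := Char.card_mul_classInner (ce : G → ℂ) (χ : G → ℂ)
    rw [Char.classInner_irr_of_ne ce.2 χ.2 (fun e => hcχ (Subtype.ext e)), mul_zero] at e
    rw [e]
    exact Finset.sum_congr rfl fun g _ => by simp only [ce, hl]; ring
  · have e := Char.card_mul_classInner (χ : G → ℂ) (e1 : G → ℂ)
    rw [Char.classInner_irr_of_ne χ.2 e1.2 (fun e => hχ1 (Subtype.ext e)), mul_zero] at e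
    rw [e]
    exact Finset.sum_congr rfl fun g _ => by simp [e1]
  · have e := Char.card_mul_classInner (χ : G → ℂ) (ee : G → ℂ)
    rw [Char.classInner_irr_of_ne χ.2 ee.2 (fun e => hχe (Subtype.ext e)), mul_zero] at e
    rw [e]
    refine Finset.sum_congr rfl fun g _ => ?_
    simp only [ee, hl, map_intCast]; ring
  · rw [← Finset.sum_subset (Finset.subset_univ T) fun ψ _ hψ => hF ψ (by rw [hm, hout ψ hψ]; simp)]
    rw [hT, Finset.sum_insert (by simp [hne.symm, hχ1.symm, hce1.symm]),
      Finset.sum_insert (by simp [hχe.symm, hcee.symm]), Finset.sum_pair hcχ.symm]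
    ring

/-- If eight divides the order there is a normal elementary abelian subgroup of order at most
four. -/
theorem exists_small_normal_of_dvd [Finite G] {x : G} (hx : orderOf x = 2)
    (hC : Nat.card (cent x) = 4) (hCe : ∀ c ∈ cent x, c * c = 1) (h8 : 8 ∣ Nat.card G) :
    ∃ E : Subgroup G, E.Normal ∧ IsElementaryAbelian 2 E ∧
      (Nat.card E = 2 ∨ Nat.card E = 4) := by
  classical
  have := Fintype.ofFinite G
  have := Fintype.ofFinite (IrrCharacter G)
  have := Fact.mk Nat.prime_two
  obtain ⟨ε, hε⟩ := exists_sign_hom hx hC h8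
  obtain ⟨χ, a, ha, hχx, hsq0, hs0, hse0, hsupp⟩ := exists_char_pair hx hC ε hε
  -- a Sylow subgroup and its central involution
  have hxP : IsPGroup 2 (Subgroup.zpowers x) :=
    IsPGroup.of_card (n := 1) (by rw [Nat.card_zpowers, hx, pow_one])
  obtain ⟨T, hxT⟩ := hxP.exists_le_sylow
  replace hxT : x ∈ (T : Subgroup G) := hxT (Subgroup.mem_zpowers x)
  have hT8 : 8 ∣ Nat.card (T : Subgroup G) := by
    rw [Sylow.card_eq_multiplicity]
    have : 2 ^ 3 ∣ Nat.card G := h8
    rw [Nat.prime_two.pow_dvd_iff_le_factorization Nat.card_pos.ne'] at this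
    exact pow_dvd_pow 2 this
  have hTne : Nontrivial (T : Subgroup G) := Finite.one_lt_card_iff_nontrivial.1
    (lt_of_lt_of_le (by norm_num) (Nat.le_of_dvd Nat.card_pos hT8))
  have := IsPGroup.center_nontrivial T.isPGroup'
  have hdvd : 2 ∣ Nat.card (Subgroup.center (T : Subgroup G)) := by
    obtain ⟨k, hk⟩ := IsPGroup.iff_card.1 (T.isPGroup'.to_subgroup (Subgroup.center _))
    rcases k with _ | k
    · rw [pow_zero] at hk
      exact absurd hk (Finite.one_lt_card (α := Subgroup.center (T : Subgroup G))).ne'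
    · exact hk ▸ dvd_pow_self 2 (Nat.succ_ne_zero k)
  obtain ⟨z, hz⟩ := exists_prime_orderOf_dvd_card' 2 hdvd
  set w : G := ((z : (T : Subgroup G)) : G) with hwdef
  have hw : orderOf w = 2 := by rwa [hwdef, Subgroup.orderOf_coe, Subgroup.orderOf_coe]
  have hwT : w ∈ (T : Subgroup G) := (z : (T : Subgroup G)).2
  have hwc : ∀ y ∈ (T : Subgroup G), y * w = w * y := fun y hy =>
    congrArg Subtype.val (Subgroup.mem_center_iff.1 z.2 ⟨y, hy⟩)
  have hTw : (T : Subgroup G) ≤ cent w := fun y hy => mem_cent.2 (hwc y hy)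
  have hwx : w ∈ cent x := mem_cent.2 (hwc x hxT).symm
  have hnc : ∀ g : G, g * x * g⁻¹ ≠ w := fun g e => by
    have h1 := Nat.le_of_dvd Nat.card_pos (hT8.trans (Subgroup.card_dvd_of_le hTw))
    rw [← e, card_cent_conj, hC] at h1
    omega
  have hwne : w ≠ x := fun e => hnc 1 (by rw [e]; group)
  have hx1 := Involution.ne_one hx
  have hw1 := Involution.ne_one hw
  have hxw1 : x * w ≠ 1 := fun e => hwne (by
    rw [eq_inv_of_mul_eq_one_right e, Involution.inv_eq hx])
  -- the four group
  have hVset : ∀ c ∈ cent x, c = 1 ∨ c = x ∨ c = w ∨ c = x * w := by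
    intro c hc
    by_contra hne
    push Not at hne
    obtain ⟨n1, n2, n3, n4⟩ := hne
    have hs : (({1, x, w, x * w, c} : Finset G) : Set G) ⊆ (cent x : Set G) := by
      simp [Set.insert_subset_iff, self_mem_cent, hwx, hc,
        (cent x).mul_mem (self_mem_cent x) hwx]
    have hle := Set.ncard_le_ncard hs (Set.toFinite _)
    rw [Set.ncard_coe_finset, ← Nat.card_coe_set_eq] at hle
    simp only [SetLike.coe_sort_coe] at hle
    rw [hC, Finset.card_insert_of_notMem (by simp [hx1.symm, hw1.symm, hxw1.symm, n1.symm]),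
      Finset.card_insert_of_notMem (by simp [hwne.symm, hw1, n2.symm]),
      Finset.card_insert_of_notMem (by simp [hx1, n3.symm]),
      Finset.card_insert_of_notMem (by simp [n4.symm]), Finset.card_singleton] at hle
    omega
  have hVT : cent x ≤ (T : Subgroup G) := fun c hc => by
    rcases hVset c hc with rfl | rfl | rfl | rfl
    · exact one_mem _
    · exact hxT
    · exact hwT
    · exact mul_mem hxT hwT
  have hxw : IsConj x (x * w) := by
    have : Group.IsNilpotent (T : Subgroup G) := T.isPGroup'.isNilpotent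
    have hlt : (cent x).subgroupOf (T : Subgroup G) < ⊤ := by
      refine lt_top_iff_ne_top.2 fun e => ?_
      rw [Subgroup.subgroupOf_eq_top] at e
      have := Nat.le_of_dvd Nat.card_pos (hT8.trans (Subgroup.card_dvd_of_le e))
      omega
    obtain ⟨g, hgN, hgV⟩ := SetLike.exists_of_lt
      (Group.normalizerCondition_of_isNilpotent (G := (T : Subgroup G)) _ hlt)
    have hgV' : (g : G) ∉ cent x := fun e => hgV (Subgroup.mem_subgroupOf.2 e)
    have hm : (g : G) * x * (g : G)⁻¹ ∈ cent x := by
      have := conj_mem_of_mem_normalizer hgN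
        (show (⟨x, hxT⟩ : (T : Subgroup G)) ∈ (cent x).subgroupOf T from
          Subgroup.mem_subgroupOf.2 (self_mem_cent x))
      exact Subgroup.mem_subgroupOf.1 this
    rcases hVset _ hm with e | e | e | e
    · exact absurd (conj_eq_one_iff.1 e) hx1
    · exact absurd (mem_cent.2 (conj_eq_iff.1 e)) hgV'
    · exact absurd e (hnc _)
    · exact isConj_iff.2 ⟨_, e⟩
  have hεw : ε w = 1 := by
    obtain ⟨c, hc⟩ := isConj_iff.1 hxw
    have := congrArg ε hc
    rw [map_mul, map_mul, map_mul, map_inv, mul_comm (ε c) (ε x), mul_inv_cancel_right] at this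
    exact (mul_eq_left.1 this.symm)
  -- the classes
  set nx : ℕ := (cent x).index with hnx
  set nw : ℕ := (cent w).index with hnw
  have hG4 : Nat.card G = 4 * nx := by rw [← hC, hnx, Subgroup.card_mul_index]
  have hnwodd : Odd nw := by
    rw [← Nat.not_even_iff_odd, even_iff_two_dvd]
    intro hd
    have h1 := T.not_dvd_index' Subgroup.index_ne_zero_of_finite
    exact h1 (hd.trans (Subgroup.index_dvd_of_le hTw))
  set d : ℂ := (χ : G → ℂ) 1 with hd
  have hd0 : d ≠ 0 := Char.IsIrrCharacter.apply_one_ne_zero χ.2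
  set b : ℂ := (χ : G → ℂ) w with hb
  have hG0 : (Nat.card G : ℂ) ≠ 0 := Nat.cast_ne_zero.2 Nat.card_pos.ne'
  have hnxC : (nx : ℂ) ≠ 0 := Nat.cast_ne_zero.2 Subgroup.index_ne_zero_of_finite
  have haa : a * a = 1 := by rcases ha with e | e <;> rw [e] <;> norm_num
  -- the pairs with product outside the kernel
  have hf : ∀ z : G, ε z = -1 → 2 * (ClassCount.fibreCount x w z : ℂ) =
      (nw : ℂ) * (1 + a * b * (χ : G → ℂ) z⁻¹ / d) := by
    intro z hz
    have e := ClassCount.card_mul_fibreCount x w z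
    obtain ⟨e1, ee, ce, h1, he, hc, hsum⟩ := hsupp (fun ψ => (ψ : G → ℂ) 1 *
      ClassCount.omega (ψ : G → ℂ) x * ClassCount.omega (ψ : G → ℂ) w * (ψ : G → ℂ) z⁻¹)
      (fun ψ h0 => by simp [ClassCount.omega, h0])
    rw [hsum] at e
    have hzi : ε z⁻¹ = -1 := by rw [map_inv, hz]; rfl
    simp only [ClassCount.omega, ClassCount.card_class_eq_index, h1, he, hc, hε, hεw, hzi,
      map_one, hχx, ← hd, ← hb] at e
    rw [show (Nat.card G : ℂ) = 4 * nx by rw [hG4]; push_cast; rfl] at e
    refine mul_left_cancel₀ (mul_ne_zero (two_ne_zero' ℂ) hnxC) ?_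
    rw [show 2 * (nx : ℂ) * (2 * (ClassCount.fibreCount x w z : ℂ)) =
      4 * nx * (ClassCount.fibreCount x w z : ℂ) by ring, e]
    simp only [← hnx, ← hnw, Units.val_neg, Units.val_one, Int.cast_neg, Int.cast_one]
    field_simp
    ring
  have hfx : ClassCount.fibreCount x w x = 1 := by
    rw [ClassCount.fibreCount]
    have key : ∀ g : G, (IsConj x g ∧ IsConj w (g⁻¹ * x)) ↔ g = x * w := by
      intro g
      constructor
      · rintro ⟨hg, hg'⟩
        have g2 : orderOf g = 2 := by rw [← Involution.orderOf_eq_of_isConj hg, hx]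
        have g2' : orderOf (g⁻¹ * x) = 2 := by rw [← Involution.orderOf_eq_of_isConj hg', hw]
        have hgc : g ∈ cent x := by
          have e := Involution.mul_self g2'
          rw [Involution.inv_eq g2] at e
          refine mem_cent.2 ?_
          calc g * x = (g * x)⁻¹ := (inv_eq_of_mul_eq_one_right e).symm
            _ = x * g := by rw [mul_inv_rev, Involution.inv_eq g2, Involution.inv_eq hx]
        rcases hVset g hgc with e | e | e | e
        · rw [e, orderOf_one] at g2; norm_num at g2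
        · rw [e, inv_mul_cancel, orderOf_one] at g2'; norm_num at g2'
        · obtain ⟨c, hc⟩ := isConj_iff.1 hg
          exact absurd (hc.trans e) (hnc c)
        · exact e
      · rintro rfl
        refine ⟨hxw, ?_⟩
        rw [mul_inv_rev, Involution.inv_eq hw, Involution.inv_eq hx, mul_assoc,
          Involution.mul_self hx, mul_one]
    rw [Nat.card_congr (Equiv.subtypeEquivRight key)]
    exact Nat.card_eq_one_iff_exists.2 ⟨⟨x * w, rfl⟩, fun y => Subtype.ext y.2⟩
  have hr : (2 : ℂ) - nw = nw * (b / d) := by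
    have e := hf x hε
    rw [hfx, Involution.inv_eq hx, hχx] at e
    linear_combination e + (nw : ℂ) * (b / d) * haa
  -- the values of the character outside the kernel
  have hcoset : ∀ z : G, ε z = -1 → ∃ m : ℤ, Odd m ∧ a * (χ : G → ℂ) z⁻¹ = m ∧
      (2 * (ClassCount.fibreCount x w z) : ℤ) = nw + (2 - nw) * m := by
    intro z hz
    set f := ClassCount.fibreCount x w z with hfz
    have e : (2 * f : ℂ) - nw = (2 - nw) * (a * (χ : G → ℂ) z⁻¹) := by
      rw [hr, hf z hz]; field_simp; ring
    have hne : (2 : ℤ) - nw ≠ 0 := by obtain ⟨j, hj⟩ := hnwodd; omega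
    have hint : IsIntegral ℤ (a * (χ : G → ℂ) z⁻¹) := by
      refine IsIntegral.mul ?_ (Char.IsCharacter.isIntegral (Char.IsIrrCharacter.isCharacter χ.2) _)
      rw [← hχx]; exact Char.IsCharacter.isIntegral (Char.IsIrrCharacter.isCharacter χ.2) _
    have hq : a * (χ : G → ℂ) z⁻¹ =
        algebraMap ℚ ℂ (((2 * f - nw : ℤ) : ℚ) / ((2 - nw : ℤ) : ℚ)) := by
      rw [map_div₀, map_intCast, map_intCast]
      push_cast
      have hne' : (2 : ℂ) - nw ≠ 0 := by
        intro h0
        apply hne
        have : (((2 : ℤ) - nw : ℤ) : ℂ) = ((0 : ℤ) : ℂ) := by push_cast; exact h0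
        exact_mod_cast this
      rw [e]; field_simp
    rw [hq, isIntegral_algebraMap_iff (algebraMap ℚ ℂ).injective] at hint
    obtain ⟨m, hm⟩ := IsIntegrallyClosed.isIntegral_iff.mp hint
    have hm' : a * (χ : G → ℂ) z⁻¹ = m := by rw [hq, ← hm]; simp
    have e2 : (2 * f : ℤ) = nw + (2 - nw) * m := by
      rw [hm'] at e
      have : ((2 * f : ℤ) : ℂ) = ((nw + (2 - nw) * m : ℤ) : ℂ) := by
        push_cast; linear_combination e
      exact_mod_cast this
    refine ⟨m, ?_, hm', e2⟩
    obtain ⟨j, hj⟩ := hnwodd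
    rcases Int.even_or_odd m with ⟨k, hk⟩ | ho
    · exfalso
      rw [hj, hk] at e2
      push_cast at e2
      ring_nf at e2
      omega
    · exact ho
  set S1 := (Finset.univ : Finset G).filter (fun z => ε z = -1) with hS1
  set S0 := (Finset.univ : Finset G).filter (fun z => ¬ ε z = -1) with hS0
  have hS : S1.card = 2 * nx ∧ S0.card = 2 * nx := by
    have e1 : S1.card = S0.card := by
      refine Finset.card_bij' (fun z _ => x * z) (fun z _ => x * z) ?_ ?_ ?_ ?_
      · intro z hz
        simp only [hS1, hS0, Finset.mem_filter, Finset.mem_univ, true_and] at hz ⊢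
        rw [map_mul, hε, hz]; decide
      · intro z hz
        simp only [hS1, hS0, Finset.mem_filter, Finset.mem_univ, true_and] at hz ⊢
        rw [map_mul, hε, (Int.units_eq_one_or (ε z)).resolve_right hz, mul_one]
      · intro z _; rw [← mul_assoc, Involution.mul_self hx, one_mul]
      · intro z _; rw [← mul_assoc, Involution.mul_self hx, one_mul]
    have e2 : S1.card + S0.card = Nat.card G := by
      rw [hS1, hS0, Finset.card_filter_add_card_filter_not, Finset.card_univ,
        Nat.card_eq_fintype_card]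
    omega
  have hval : ∀ z, ((ε z : ℤ) : ℂ) = if ε z = -1 then -1 else 1 := fun z => by
    rcases Int.units_eq_one_or (ε z) with e | e <;> simp [e]
  have hnorm : ∑ z ∈ S1, (χ : G → ℂ) z * conj ((χ : G → ℂ) z) = 2 * nx := by
    have e := Char.card_mul_classInner (χ : G → ℂ) (χ : G → ℂ)
    rw [Char.classInner_irr_self χ.2, mul_one, ← Finset.sum_filter_add_sum_filter_not Finset.univ
      (fun z => ε z = -1), ← hS1, ← hS0, hG4] at e
    rw [← Finset.sum_filter_add_sum_filter_not Finset.univ (fun z => ε z = -1), ← hS1, ← hS0,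
      Finset.sum_congr (s₁ := S1) rfl fun z hz => by rw [hval, if_pos (Finset.mem_filter.1 hz).2],
      Finset.sum_congr (s₁ := S0) rfl fun z hz => by rw [hval, if_neg (Finset.mem_filter.1 hz).2],
      ← Finset.mul_sum, ← Finset.mul_sum] at hsq0
    push_cast at e
    linear_combination (-1 / 2 : ℂ) * e + (-1 / 2 : ℂ) * hsq0
  have hsum1 : ∑ z ∈ S1, (χ : G → ℂ) z = 0 := by
    rw [← Finset.sum_filter_add_sum_filter_not Finset.univ (fun z => ε z = -1), ← hS1, ← hS0] at hs0
    rw [← Finset.sum_filter_add_sum_filter_not Finset.univ (fun z => ε z = -1), ← hS1, ← hS0,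
      Finset.sum_congr (s₁ := S1) rfl fun z hz => by rw [hval, if_pos (Finset.mem_filter.1 hz).2],
      Finset.sum_congr (s₁ := S0) rfl fun z hz => by rw [hval, if_neg (Finset.mem_filter.1 hz).2],
      ← Finset.mul_sum, ← Finset.mul_sum] at hse0
    linear_combination (1 / 2 : ℂ) * hs0 + (-1 / 2 : ℂ) * hse0
  choose! M hModd hMval hMf using hcoset
  have hχM : ∀ z ∈ S1, (χ : G → ℂ) z = a * (M z⁻¹ : ℂ) := fun z hz => by
    have hz' : ε z⁻¹ = -1 := by rw [map_inv, (Finset.mem_filter.1 hz).2]; rfl
    have e := hMval z⁻¹ hz'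
    rw [inv_inv] at e
    rw [← e, ← mul_assoc, haa, one_mul]
  have hconj : ∀ z, conj ((χ : G → ℂ) z) = (χ : G → ℂ) z⁻¹ := fun z =>
    (Char.IsCharacter.apply_inv (Char.IsIrrCharacter.isCharacter χ.2) z).symm
  have hsqs : ∑ z ∈ S1, M z⁻¹ * M z = (2 * nx : ℤ) := by
    have e : ((∑ z ∈ S1, M z⁻¹ * M z : ℤ) : ℂ) = ((2 * nx : ℤ) : ℂ) := by
      push_cast
      rw [← hnorm]
      refine Finset.sum_congr rfl fun z hz => ?_
      rw [hconj, hχM z hz, ← hMval z (Finset.mem_filter.1 hz).2]
      linear_combination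
    exact_mod_cast e
  have hMinv : ∀ z ∈ S1, M z⁻¹ = M z := fun z hz => by
    have e1 := hχM z hz
    have e2 : (χ : G → ℂ) z⁻¹ = a * (M z : ℂ) := by
      rw [← hMval z (Finset.mem_filter.1 hz).2, ← mul_assoc, haa, one_mul]
    rw [← hconj, e1, map_mul, map_intCast] at e2
    have ha' : conj a = a := by rcases ha with e | e <;> simp [e]
    rw [ha'] at e2
    have ha0 : a ≠ 0 := left_ne_zero_of_mul_eq_one haa
    exact_mod_cast mul_left_cancel₀ ha0 e2
  have hone : ∀ z ∈ S1, M z = 1 ∨ M z = -1 := by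
    have hge : ∀ z ∈ S1, 1 ≤ M z⁻¹ * M z := fun z hz => by
      rw [hMinv z hz]
      have hne : M z ≠ 0 := fun e => by
        have := hModd z (Finset.mem_filter.1 hz).2
        rw [e] at this; exact (Int.not_odd_zero this).elim
      have := mul_self_pos.2 hne
      omega
    have heq : ∑ z ∈ S1, (1 : ℤ) = ∑ z ∈ S1, M z⁻¹ * M z := by
      rw [hsqs, Finset.sum_const, hS.1]; simp
    intro z hz
    have := (Finset.sum_eq_sum_iff_of_le hge).1 heq z hz
    rw [hMinv z hz] at this
    exact Int.eq_one_or_neg_one_of_mul_eq_one this.symm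
  obtain ⟨z0, hz0, hMz0⟩ : ∃ z ∈ S1, M z = -1 := by
    by_contra hall
    push Not at hall
    have hone' : ∀ z ∈ S1, (χ : G → ℂ) z = a := fun z hz => by
      rw [hχM z hz, hMinv z hz, (hone z hz).resolve_right (hall z hz)]; simp
    rw [Finset.sum_congr rfl hone', Finset.sum_const, hS.1, nsmul_eq_mul] at hsum1
    rcases mul_eq_zero.1 hsum1 with e | e
    · push_cast at e
      exact hnxC (by linear_combination (1 / 2 : ℂ) * e)
    · rw [e, mul_zero] at haa; exact zero_ne_one haa
  have hεz0 : ε z0 = -1 := (Finset.mem_filter.1 hz0).2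
  -- all but one member of the class of `w` invert `z0`
  set Cw : Set G := {w' | IsConj w w'} with hCw
  set S : Set G := {w' | IsConj w w' ∧ IsConj x (z0 * w')} with hSdef
  have hCwcard : Cw.ncard = nw := by
    rw [← Nat.card_coe_set_eq]
    exact ClassCount.card_class_eq_index w
  have hScard : S.ncard + 1 = nw := by
    have e : S.ncard = ClassCount.fibreCount x w z0 := by
      rw [← Nat.card_coe_set_eq, ClassCount.fibreCount]
      refine Nat.card_congr
        { toFun := fun w' => ⟨z0 * (w' : G), w'.2.2, ?_⟩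
          invFun := fun g => ⟨(g : G)⁻¹ * z0, g.2.2, ?_⟩
          left_inv := fun w' => ?_
          right_inv := fun g => ?_ }
      · have w2 : orderOf (w' : G) = 2 := by rw [← Involution.orderOf_eq_of_isConj w'.2.1, hw]
        rw [mul_inv_rev, Involution.inv_eq w2, inv_mul_cancel_right]
        exact w'.2.1
      · have g2 : orderOf (g : G) = 2 := by rw [← Involution.orderOf_eq_of_isConj g.2.1, hx]
        have w2 : orderOf ((g : G)⁻¹ * z0) = 2 := by
          rw [← Involution.orderOf_eq_of_isConj g.2.2, hw]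
        rw [show z0 * ((g : G)⁻¹ * z0) = (g : G) * ((g : G)⁻¹ * z0 * ((g : G)⁻¹ * z0)) by group,
          Involution.mul_self w2, mul_one]
        exact g.2.1
      · refine Subtype.ext ?_
        have w2 : orderOf (w' : G) = 2 := by rw [← Involution.orderOf_eq_of_isConj w'.2.1, hw]
        show (z0 * (w' : G))⁻¹ * z0 = w'
        rw [mul_inv_rev, Involution.inv_eq w2, inv_mul_cancel_right]
      · refine Subtype.ext ?_
        have w2 : orderOf ((g : G)⁻¹ * z0) = 2 := by
          rw [← Involution.orderOf_eq_of_isConj g.2.2, hw]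
        show z0 * ((g : G)⁻¹ * z0) = g
        rw [show z0 * ((g : G)⁻¹ * z0) = (g : G) * ((g : G)⁻¹ * z0 * ((g : G)⁻¹ * z0)) by group,
          Involution.mul_self w2, mul_one]
    have h2 := hMf z0 hεz0
    rw [hMz0] at h2
    obtain ⟨j, hj⟩ := hnwodd
    omega
  obtain ⟨ws, hws⟩ : ∃ ws, Cw \ S = {ws} := by
    rw [← Set.ncard_eq_one, Set.ncard_sdiff (fun g hg => hg.1), hCwcard]
    omega
  have hwsmem : IsConj w ws ∧ ws ∉ S :=
    (Set.ext_iff.1 hws ws).2 rfl
  have hinvS : ∀ w' ∈ S, ∀ w1 ∈ S, w1 * w' * w1⁻¹ ∈ S := by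
    intro w' hw' w1 hw1'
    have w2 : orderOf w' = 2 := by rw [← Involution.orderOf_eq_of_isConj hw'.1, hw]
    have w12 : orderOf w1 = 2 := by rw [← Involution.orderOf_eq_of_isConj hw1'.1, hw]
    have u1 : orderOf (z0 * w1) = 2 := by rw [← Involution.orderOf_eq_of_isConj hw1'.2, hx]
    have u' : orderOf (z0 * w') = 2 := by rw [← Involution.orderOf_eq_of_isConj hw'.2, hx]
    refine ⟨hw'.1.trans (isConj_iff.2 ⟨w1, rfl⟩),
      hw'.2.trans (isConj_iff.2 ⟨w1 * w', ?_⟩)⟩
    have e1 : w1 * z0 * w1 = z0⁻¹ := by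
      refine eq_inv_of_mul_eq_one_left ?_
      calc w1 * z0 * w1 * z0 = w1 * ((z0 * w1) * (z0 * w1)) * w1⁻¹ := by group
        _ = 1 := by rw [Involution.mul_self u1]; group
    have e2 : w' * z0 * w' = z0⁻¹ := by
      refine eq_inv_of_mul_eq_one_left ?_
      calc w' * z0 * w' * z0 = w' * ((z0 * w') * (z0 * w')) * w'⁻¹ := by group
        _ = 1 := by rw [Involution.mul_self u']; group
    calc w1 * w' * (z0 * w') * (w1 * w')⁻¹ = w1 * (w' * z0 * w') * (w'⁻¹ * w1⁻¹) := by group
      _ = w1 * z0⁻¹ * w1 * (w1⁻¹ * w'⁻¹ * w1⁻¹) := by rw [e2]; group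
      _ = w1 * (w1 * z0 * w1) * w1 * (w1⁻¹ * w'⁻¹ * w1⁻¹) := by rw [e1]
      _ = (w1 * w1) * z0 * (w1 * w1) * (w1⁻¹ * w'⁻¹ * w1⁻¹) := by group
      _ = z0 * (w1 * w' * w1⁻¹) := by
          rw [Involution.mul_self w12, Involution.inv_eq w2, Involution.inv_eq w12]; group
  have hcommws : ∀ w1, IsConj w w1 → w1 * ws = ws * w1 := by
    intro w1 hw1'
    by_cases hS' : w1 ∈ S
    · refine conj_eq_iff.1 ?_
      by_contra hne
      have hm : w1 * ws * w1⁻¹ ∈ S := by
        by_contra hn
        exact hne ((Set.ext_iff.1 hws _).1 ⟨hwsmem.1.trans (isConj_iff.2 ⟨w1, rfl⟩), hn⟩)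
      have := hinvS _ hm w1 hS'
      have w12 : orderOf w1 = 2 := by rw [← Involution.orderOf_eq_of_isConj hw1', hw]
      rw [Involution.inv_eq w12, show w1 * (w1 * ws * w1) * w1 = (w1 * w1) * ws * (w1 * w1) by group,
        Involution.mul_self w12, one_mul, mul_one] at this
      exact hwsmem.2 this
    · have : w1 = ws := (Set.ext_iff.1 hws w1).1 ⟨hw1', hS'⟩
      rw [this]
  have hcomm : ∀ u v, IsConj w u → IsConj w v → u * v = v * u := by
    intro u v hu hv
    obtain ⟨g, hg⟩ := isConj_iff.1 (hwsmem.1.symm.trans hv)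
    have hu' : IsConj w (g⁻¹ * u * g) := hu.trans (isConj_iff.2 ⟨g⁻¹, by simp⟩)
    have e := hcommws _ hu'
    calc u * v = g * (g⁻¹ * u * g * ws) * g⁻¹ := by rw [← hg]; group
      _ = v * u := by rw [e, ← hg]; group
  -- the normal subgroup
  set E := Subgroup.closure Cw with hE
  have hEN : E.Normal := by
    refine ⟨fun n hn g => ?_⟩
    have hle : E ≤ E.comap (MulAut.conj g).toMonoidHom := by
      refine (Subgroup.closure_le _).2 fun y hy => ?_
      exact Subgroup.subset_closure (IsConj.trans hy (isConj_iff.2 ⟨g, rfl⟩))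
    exact hle hn
  have hEab : ∀ u ∈ E, ∀ v ∈ E, u * v = v * u := by
    have h1 : ∀ u ∈ Cw, ∀ v ∈ E, v * u = u * v := by
      intro u hu v hv
      have hle : E ≤ cent u := (Subgroup.closure_le _).2 fun y hy => mem_cent.2 (hcomm y u hy hu)
      exact mem_cent.1 (hle hv)
    intro u hu v hv
    have hle : E ≤ cent v := (Subgroup.closure_le _).2 fun y hy => mem_cent.2 (h1 y hy v hv).symm
    exact mem_cent.1 (hle hu)
  have hE2 : ∀ u ∈ E, u * u = 1 := by
    intro u hu
    induction hu using Subgroup.closure_induction with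
    | mem y hy => exact Involution.mul_self (by rw [← Involution.orderOf_eq_of_isConj hy, hw])
    | one => simp
    | mul a b ha hb iha ihb =>
      rw [show a * b * (a * b) = a * (b * a) * b by group, hEab b hb a ha,
        show a * (a * b) * b = (a * a) * (b * b) by group, iha, ihb, one_mul]
    | inv a _ iha => rw [← mul_inv_rev, iha, inv_one]
  have hEker : ∀ u ∈ E, ε u = 1 := by
    have hle : E ≤ ε.ker := (Subgroup.closure_le _).2 fun y hy => by
      obtain ⟨c, hc⟩ := isConj_iff.1 (show IsConj w y from hy)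
      show y ∈ ε.ker
      rw [MonoidHom.mem_ker, ← hc, map_mul, map_mul, map_inv, hεw, mul_one, mul_inv_cancel]
    exact fun u hu => hle hu
  let ψ : E →* E :=
    { toFun := fun e => e * ⟨x * e * x⁻¹, hEN.conj_mem e e.2 x⟩
      map_one' := Subtype.ext (by simp)
      map_mul' := fun p q => Subtype.ext (by
        simp only [Subgroup.coe_mul]
        rw [show (p : G) * q * (x * ((p : G) * q) * x⁻¹) =
          p * ((q : G) * (x * p * x⁻¹)) * (x * q * x⁻¹) by group,
          hEab q q.2 _ (hEN.conj_mem p p.2 x)]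
        group) }
  have hker : ∀ e : E, ψ e = 1 → (e : G) = 1 ∨ (e : G) = w := by
    intro e he
    have he' : (e : G) * (x * e * x⁻¹) = 1 := congrArg Subtype.val he
    have hc : (e : G) ∈ cent x := by
      have h1 : x * (e : G) * x⁻¹ = e := by
        rw [eq_inv_of_mul_eq_one_right he']
        exact inv_eq_of_mul_eq_one_right (hE2 e e.2)
      exact mem_cent.2 (conj_eq_iff.1 h1).symm
    rcases hVset _ hc with q | q | q | q
    · exact Or.inl q
    · have := hEker e e.2; rw [q, hε] at this; exact absurd this (by decide)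
    · exact Or.inr q
    · have := hEker e e.2; rw [q, map_mul, hε, hεw] at this; exact absurd this (by decide)
  have hrange : ∀ e : E, ψ (ψ e) = 1 := by
    intro e
    refine Subtype.ext ?_
    show (e : G) * (x * e * x⁻¹) * (x * ((e : G) * (x * e * x⁻¹)) * x⁻¹) = 1
    rw [show x * ((e : G) * (x * e * x⁻¹)) * x⁻¹ = x * e * x⁻¹ * (x * x * e * (x * x)⁻¹) by group,
      Involution.mul_self hx, inv_one, one_mul, mul_one,
      show (e : G) * (x * e * x⁻¹) * (x * e * x⁻¹ * e) = e * (x * ((e : G) * e) * x⁻¹) * e by group,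
      hE2 e e.2, mul_one, mul_inv_cancel, mul_one, hE2 e e.2]
  have hk2 : Nat.card ψ.ker ≤ 2 := by
    have hw' : w ∈ E := Subgroup.subset_closure (IsConj.refl w)
    refine (Nat.card_le_card_of_injective (fun e : ψ.ker =>
      (⟨((e : E) : G) = 1, inferInstance⟩ : Σ' p : Prop, Decidable p).1) ?_).trans_eq ?_
    · intro e e' hee
      have hee' : (((e : E) : G) = 1) = (((e' : E) : G) = 1) := hee
      rcases hker e e.2 with q | q <;> rcases hker e' e'.2 with q' | q'
      · exact Subtype.ext (Subtype.ext (q.trans q'.symm))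
      · exact absurd (q'.symm.trans (hee' ▸ q)) hw1
      · exact absurd (q.symm.trans (hee'.symm ▸ q')) hw1
      · exact Subtype.ext (Subtype.ext (q.trans q'.symm))
    · simp [Nat.card_eq_fintype_card]
  have hE4 : Nat.card E ≤ 4 := by
    have e1 := ψ.ker.index_mul_card
    rw [Subgroup.index_ker] at e1
    have e2 : Nat.card ψ.range ≤ Nat.card ψ.ker := by
      refine Subgroup.card_le_of_le fun y hy => ?_
      obtain ⟨e, rfl⟩ := hy
      exact hrange e
    nlinarith
  have hwE : w ∈ E := Subgroup.subset_closure (IsConj.refl w)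
  refine ⟨E, hEN, ⟨⟨⟨fun p q => Subtype.ext (hEab p p.2 q q.2)⟩⟩,
    fun u hu => by rw [sq]; exact hE2 u hu⟩, ?_⟩
  obtain ⟨j, hj⟩ := IsPGroup.iff_card.1 (show IsPGroup 2 E from fun e =>
    ⟨1, Subtype.ext (by rw [pow_one, Subgroup.coe_pow, sq]; exact hE2 e e.2)⟩)
  have h1 : 1 < Nat.card E := Finite.one_lt_card_iff_nontrivial.2
    ⟨⟨⟨w, hwE⟩, 1, fun e => hw1 (congrArg Subtype.val e)⟩⟩
  rw [hj] at h1 hE4 ⊢
  rcases j with _ | _ | _ | j
  · norm_num at h1
  · exact Or.inl (by norm_num)
  · exact Or.inr (by norm_num)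
  · have h2j : 0 < 2 ^ j := by positivity
    rw [pow_succ, pow_succ, pow_succ] at hE4
    omega

/-- The Brauer-Suzuki-Wall situation with `|K| = 2`. -/
theorem Hyp.alternatingFive_or_normal [Finite G] {t s : G} {K : Subgroup G} (h : Hyp t s K)
    (h2 : Nat.card K = 2) :
    Nonempty (G ≃* alternatingGroup (Fin 5)) ∨
      ∃ E : Subgroup G, E.Normal ∧ IsElementaryAbelian 2 E ∧ Nat.card E = 4 := by
  have := Fact.mk Nat.prime_five
  rcases h.structure_of_two h2 with ⟨-, hn⟩ | ⟨y, u, hy, hu, ha, hn⟩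
  · right
    have hct : Nat.card (cent t) = 4 := by rw [h.card_cent_t, h2]
    have hG : Nat.card G = 12 := by rw [h.card_eq, h2, hn]
    -- the involutions are the non-identity elements of the centralizer
    have hset : {g : G | orderOf g = 2} = (cent t : Set G) \ {1} := by
      refine (Set.eq_of_subset_of_ncard_le (fun g hg => ?_) ?_ (Set.toFinite _)).symm
      · exact Involution.orderOf_of_sq (h.sq_of_mem_cent h2 h.ht hg.1) hg.2
      · rw [h.ncard_involutions, hn, Set.ncard_sdiff_singleton_of_mem (cent t).one_mem,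
          ← Nat.card_coe_set_eq]
        simp only [SetLike.coe_sort_coe, hct]; rfl
    refine ⟨cent t, ⟨fun g hg c => ?_⟩, ⟨⟨⟨fun p q => Subtype.ext ?_⟩⟩, fun g hg => by
      rw [sq]; exact h.sq_of_mem_cent h2 h.ht hg⟩, hct⟩
    · by_cases hg1 : g = 1
      · simp [hg1]
      · have : orderOf (c * g * c⁻¹) = 2 := by
          rw [Involution.orderOf_conj]
          exact Involution.orderOf_of_sq (h.sq_of_mem_cent h2 h.ht hg) hg1
        exact ((Set.ext_iff.1 hset _).1 this).1
    · have e := h.sq_of_mem_cent h2 h.ht ((cent t).mul_mem p.2 q.2)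
      show (p : G) * q = q * p
      calc (p : G) * q = ((p : G) * q)⁻¹ := (inv_eq_of_mul_eq_one_right e).symm
        _ = q * p := by
          rw [mul_inv_rev, inv_eq_of_mul_eq_one_right (h.sq_of_mem_cent h2 h.ht p.2),
            inv_eq_of_mul_eq_one_right (h.sq_of_mem_cent h2 h.ht q.2)]
  · left
    have hG : Nat.card G = 60 := by rw [h.card_eq, h2, hn]
    obtain ⟨-, -, hc, -, hNcard, -⟩ := h.real_facts h2 hy hu
    have hfac : (Nat.card G).factorization 5 = 1 := by
      rw [hG, show (60 : ℕ) = 5 * 12 by norm_num, Nat.factorization_mul (by norm_num) (by norm_num),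
        Finsupp.add_apply, (by norm_num : Nat.Prime 5).factorization_self,
        Nat.factorization_eq_zero_of_not_dvd (by norm_num)]
    let P : Sylow 5 G := Sylow.ofCard (cent y) (by rw [ha, hfac, pow_one])
    refine PSL2.mulEquiv_alternatingFive hG (fun g => ?_) fun h1 => ?_
    · have hN0 : orderOf g ≠ 0 := (orderOf_pos g).ne'
      have hd : orderOf g ∣ 60 := hG ▸ orderOf_dvd_natCard g
      rcases Nat.even_or_odd (orderOf g) with hev | hodd
      · obtain ⟨k, hk⟩ := even_iff_two_dvd.1 hev
        have h2k : orderOf (g ^ k) = 2 := by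
          rw [orderOf_pow' g (show k ≠ 0 by omega), hk, Nat.gcd_eq_right (dvd_mul_left k 2)]
          exact Nat.mul_div_cancel _ (by omega)
        have hg := h.sq_of_mem_cent h2 h2k (mem_cent.2 (Commute.self_pow g k).eq)
        have := Nat.le_of_dvd two_pos (orderOf_dvd_of_pow_eq_one (show g ^ 2 = 1 by rw [sq]; exact hg))
        simp only [Set.mem_insert_iff, Set.mem_singleton_iff]
        omega
      · have h15 : orderOf g ∣ 15 := by
          refine (Nat.Coprime.dvd_of_dvd_mul_right ?_ (show orderOf g ∣ 15 * 4 from hd))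
          exact (Nat.coprime_two_right.2 hodd).pow_right 2
        have hne : orderOf g ≠ 15 := fun e => by
          have h5 : orderOf (g ^ 3) = 5 := by
            rw [orderOf_pow' g three_ne_zero, e]; rfl
          have hx5 : IsPGroup 5 (Subgroup.zpowers (g ^ 3)) :=
            IsPGroup.of_card (n := 1) (by rw [Nat.card_zpowers, h5, pow_one])
          obtain ⟨R, hR⟩ := hx5.exists_le_sylow
          obtain ⟨c, hcR⟩ := MulAction.exists_smul_eq G R P
          have hm : c * g ^ 3 * c⁻¹ ∈ cent y := by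
            have e' := congrArg Sylow.toSubgroup hcR
            rw [Sylow.coe_subgroup_smul, Sylow.coe_ofCard] at e'
            rw [← e']
            exact ⟨g ^ 3, hR (Subgroup.mem_zpowers _), rfl⟩
          have hne1 : c * g ^ 3 * c⁻¹ ≠ 1 := fun e' => by
            rw [conj_eq_one_iff] at e'
            rw [e', orderOf_one] at h5; norm_num at h5
          have hm' : c * g * c⁻¹ ∈ cent (c * g ^ 3 * c⁻¹) :=
            conj_mem_cent (mem_cent.2 (Commute.self_pow g 3).eq)
          rw [(hc _ hm hne1).2] at hm'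
          have := Subgroup.orderOf_dvd_natCard _ hm'
          rw [Involution.orderOf_conj, e, ha] at this
          norm_num at this
        have hle := Nat.le_of_dvd (by norm_num) h15
        simp only [Set.mem_insert_iff, Set.mem_singleton_iff]
        generalize orderOf g = m at *
        interval_cases m <;> omega
    · have : Subsingleton (Sylow 5 G) := (Nat.card_eq_one_iff_unique.1 h1).1
      have htop : Subgroup.normalizer ((P : Subgroup G) : Set G) = ⊤ :=
        Subgroup.normalizer_eq_top_iff.2 P.normal_of_subsingleton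
      rw [Sylow.coe_ofCard] at htop
      rw [htop, Subgroup.card_top, hG, ha] at hNcard
      norm_num at hNcard

end Cfsg.Agent.BSW
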