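/-
Groups with an involution whose centralizer is dihedral of order eight.

* `hyp_of_dihedral` : such a group without subgroup of index 2 satisfies `Hyp` with `|K| = 4`
* `Hyp.card_cases` : the order is 168 or 360
* `Hyp.isSimpleGroup` : the group is simple
-/
import Cfsg.Agent.Lib.BSW.Local
import Cfsg.Agent.S0107
import Cfsg.Agent.Lib.Transfer.DihedralFusion

set_option autoImplicit false
open Cfsg

namespace Cfsg.Agent.BSW

variable {G : Type*} [Group G]

theorem dihedral_four_central : ∀ d : DihedralGroup 4, (∀ x, d * x = x * d) →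
    d = 1 ∨ d = DihedralGroup.r 2 := by decide +kernel

theorem dihedral_four_facts :
    (DihedralGroup.r (1 : ZMod 4)) ^ 2 = DihedralGroup.r 2 ∧
    ∀ x : DihedralGroup 4,
      (DihedralGroup.sr 0 : DihedralGroup 4) * x = x * DihedralGroup.sr 0 →
      (∃ i, x = DihedralGroup.r i) → x = 1 ∨ x = DihedralGroup.r 2 := by decide +kernel

theorem dihedral_four_cases : ∀ x : DihedralGroup 4,
    (∃ i, x = DihedralGroup.r i) ∨ (∃ i, x * DihedralGroup.sr 0 = DihedralGroup.r i) := by
  decide +kernel

section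

variable {t : G} (ht : orderOf t = 2) (e : cent t ≃* DihedralGroup 4)
include ht

theorem equiv_apply_self : e ⟨t, self_mem_cent t⟩ = DihedralGroup.r 2 := by
  refine (dihedral_four_central _ fun x => ?_).resolve_left fun h => ?_
  · obtain ⟨c, rfl⟩ := e.surjective x
    rw [← map_mul, ← map_mul]
    exact congrArg e (Subtype.ext (mem_cent.1 c.2).symm)
  · rw [map_eq_one_iff e e.injective] at h
    exact Involution.ne_one ht (congrArg Subtype.val h)

include e in
theorem exists_sylow_of_dihedral [Finite G] :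
    ∃ P : Sylow 2 G, (P : Subgroup G) = cent t := by
  have := Fact.mk Nat.prime_two
  have hc : IsPGroup 2 (cent t) :=
    IsPGroup.of_card (n := 3) (by rw [Nat.card_congr e.toEquiv, DihedralGroup.nat_card]; norm_num)
  obtain ⟨P, hP⟩ := hc.exists_le_sylow
  refine ⟨P, le_antisymm (fun g hg => ?_) hP⟩
  have : Nontrivial (P : Subgroup G) :=
    ⟨⟨⟨t, hP (self_mem_cent t)⟩, 1, fun h => Involution.ne_one ht (congrArg Subtype.val h)⟩⟩
  have := P.isPGroup'.center_nontrivial
  obtain ⟨z, hz⟩ := exists_ne (1 : Subgroup.center (P : Subgroup G))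
  have hzc : ∀ a ∈ (P : Subgroup G), a * (z.1 : G) = (z.1 : G) * a := fun a ha =>
    congrArg Subtype.val (Subgroup.mem_center_iff.1 z.2 ⟨a, ha⟩)
  have hzt : (z.1 : G) ∈ cent t := mem_cent.2 (hzc t (hP (self_mem_cent t))).symm
  have h2 := dihedral_four_central (e ⟨z.1, hzt⟩) fun x => by
    obtain ⟨c, rfl⟩ := e.surjective x
    rw [← map_mul, ← map_mul]
    exact congrArg e (Subtype.ext (hzc c (hP c.2)).symm)
  rcases h2 with h2 | h2
  · have h3 : (z.1 : G) = 1 := congrArg Subtype.val ((map_eq_one_iff e e.injective).1 h2)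
    exact absurd (Subtype.ext (Subtype.ext h3)) hz
  · rw [← equiv_apply_self ht e, EmbeddingLike.apply_eq_iff_eq] at h2
    have hzt' : (z.1 : G) = t := congrArg Subtype.val h2
    exact mem_cent.2 (hzt' ▸ hzc g hg)

include e in
/-- A group without subgroup of index two having an involution with dihedral centralizer of order
eight satisfies the hypotheses of Brauer, Suzuki and Wall. -/
theorem hyp_of_dihedral [Finite G] (hidx : ∀ H : Subgroup G, H.index ≠ 2) :
    ∃ (s : G) (K : Subgroup G), Hyp t s K ∧ Nat.card K = 4 := by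
  have := Fact.mk Nat.prime_two
  obtain ⟨P, hP⟩ := exists_sylow_of_dihedral ht e
  have hO : pResidual 2 G = ⊤ := by
    by_contra hne
    obtain ⟨H, hH⟩ := Transfer.exists_index_two_iff.2 hne
    exact hidx H hH
  have hconj : ∀ x y : G, orderOf x = 2 → orderOf y = 2 → IsConj x y := fun x y hx hy =>
    isConj_iff.2 (S0107.result P 2 le_rfl ⟨(MulEquiv.subgroupCongr hP).trans e⟩ hO x y hx hy)
  have het := equiv_apply_self ht e
  set a : cent t := e.symm (DihedralGroup.r 1) with ha
  set b : cent t := e.symm (DihedralGroup.sr 0) with hb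
  have hea : e a = DihedralGroup.r 1 := e.apply_symm_apply _
  have heb : e b = DihedralGroup.sr 0 := e.apply_symm_apply _
  have hao : orderOf (a : G) = 4 := by
    rw [Subgroup.orderOf_coe, ← e.orderOf_eq, hea, DihedralGroup.orderOf_r_one]
  have hat : a ^ 2 = ⟨t, self_mem_cent t⟩ := e.injective (by
    rw [map_pow, hea, het, dihedral_four_facts.1])
  have hmem : ∀ x ∈ Subgroup.zpowers (a : G), ∃ hx : x ∈ cent t,
      ∃ i, e ⟨x, hx⟩ = DihedralGroup.r i := by
    intro x hx
    obtain ⟨k, rfl⟩ := Subgroup.mem_zpowers_iff.1 hx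
    refine ⟨(cent t).zpow_mem a.2 k, k, ?_⟩
    rw [show (⟨(a : G) ^ k, (cent t).zpow_mem a.2 k⟩ : cent t) = a ^ k from
      Subtype.ext (by simp), map_zpow, hea, DihedralGroup.r_one_zpow]
  have hback : ∀ (c : cent t) (i : ZMod 4), e c = DihedralGroup.r i →
      (c : G) ∈ Subgroup.zpowers (a : G) := by
    intro c i hc
    obtain ⟨k, rfl⟩ := ZMod.intCast_surjective i
    rw [show c = a ^ k from e.injective (by
      rw [map_zpow, hea, DihedralGroup.r_one_zpow, hc]), SubgroupClass.coe_zpow]
    exact Subgroup.zpow_mem _ (Subgroup.mem_zpowers _) k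
  have htK : t ∈ Subgroup.zpowers (a : G) := by
    have h1 : (a : G) ^ 2 = t := by rw [← SubgroupClass.coe_pow, hat]
    have := Subgroup.pow_mem _ (Subgroup.mem_zpowers (a : G)) 2
    rwa [h1] at this
  refine ⟨(b : G), Subgroup.zpowers (a : G), ?_, by rw [Nat.card_zpowers, hao]⟩
  have hbo : orderOf (b : G) = 2 := by
    rw [Subgroup.orderOf_coe, ← e.orderOf_eq, heb, DihedralGroup.orderOf_sr]
  have hcomm : ∀ x ∈ Subgroup.zpowers (a : G), ∀ y ∈ Subgroup.zpowers (a : G), x * y = y * x := by
    intro x hx y hy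
    obtain ⟨k, rfl⟩ := Subgroup.mem_zpowers_iff.1 hx
    obtain ⟨l, rfl⟩ := Subgroup.mem_zpowers_iff.1 hy
    exact (Commute.zpow_zpow (Commute.refl _) k l).eq
  exact
    { ht := ht
      hs := hbo
      comm := hcomm
      le_cent := fun x hx => (hmem x hx).1
      t_mem := htK
      s_mem := b.2
      s_not := fun h => by
        obtain ⟨hx, i, hi⟩ := hmem _ h
        exact absurd (heb.symm.trans hi) (by simp)
      cent_le := fun g hg => by
        rcases dihedral_four_cases (e ⟨g, hg⟩) with ⟨i, hi⟩ | ⟨i, hi⟩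
        · exact Subgroup.mem_sup_left (hback _ i hi)
        · rw [← heb, ← map_mul] at hi
          have hm : g * b ∈ Subgroup.zpowers (a : G) := hback _ i hi
          rw [show g = g * b * b by rw [mul_assoc, Involution.mul_self hbo, mul_one]]
          exact mul_mem (Subgroup.mem_sup_left hm) (Subgroup.mem_sup_right (Subgroup.mem_zpowers _))
      fix := fun x hx hc => by
        obtain ⟨hxc, i, hi⟩ := hmem x hx
        have hbx : b * (⟨x, hxc⟩ : cent t) = ⟨x, hxc⟩ * b := Subtype.ext hc
        have := congrArg e hbx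
        rw [map_mul, map_mul, heb] at this
        rcases dihedral_four_facts.2 _ this ⟨i, hi⟩ with h | h
        · exact Or.inl (congrArg Subtype.val ((map_eq_one_iff e e.injective).1 h))
        · rw [← het, EmbeddingLike.apply_eq_iff_eq] at h
          exact Or.inr (congrArg Subtype.val h)
      inv := fun x hx => by
        obtain ⟨hxc, i, hi⟩ := hmem x hx
        refine congrArg Subtype.val (?_ : b * ⟨x, hxc⟩ * b⁻¹ = (⟨x, hxc⟩ : cent t)⁻¹)
        apply e.injective
        rw [map_mul, map_mul, map_inv, map_inv, heb, hi]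
        simp
      ti := fun g x hx hx1 hgx => by
        have key : ∀ y ∈ Subgroup.zpowers (a : G), orderOf y = 2 → y = t := by
          intro y hy hy2
          obtain ⟨hyc, i, hi⟩ := hmem y hy
          have hc2 : (DihedralGroup.r i : DihedralGroup 4) * DihedralGroup.r i = 1 := by
            rw [← hi, ← map_mul, map_eq_one_iff e e.injective]
            exact Subtype.ext (Involution.mul_self hy2)
          have hi2 : ∀ i : ZMod 4, (DihedralGroup.r i : DihedralGroup 4) * DihedralGroup.r i = 1 →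
              DihedralGroup.r i = 1 ∨ (DihedralGroup.r i : DihedralGroup 4) = DihedralGroup.r 2 := by
            decide +kernel
          rcases hi2 i hc2 with h | h
          · rw [h, map_eq_one_iff e e.injective] at hi
            exact absurd (congrArg Subtype.val hi) (Involution.ne_one hy2)
          · rw [h, ← het, EmbeddingLike.apply_eq_iff_eq] at hi
            exact congrArg Subtype.val hi
        have hdvd : orderOf x ∣ 4 := hao ▸ orderOf_dvd_of_mem_zpowers hx
        obtain ⟨m, hm⟩ : ∃ m : ℕ, x ^ m = t := by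
          rcases (Nat.dvd_prime_pow Nat.prime_two (m := 2)).1 hdvd with ⟨k, hk, hxk⟩
          interval_cases k
          · exact absurd (orderOf_eq_one_iff.1 hxk) hx1
          · exact ⟨1, by rw [pow_one]; exact key x hx hxk⟩
          · refine ⟨2, key _ (Subgroup.pow_mem _ hx 2) ?_⟩
            rw [orderOf_pow, hxk]; rfl
        have h2 : g * t * g⁻¹ ∈ Subgroup.zpowers (a : G) := by
          have := Subgroup.pow_mem _ hgx m
          rwa [conj_pow, hm] at this
        exact mem_cent.2 (conj_eq_iff.1 (key _ h2 (by rw [Involution.orderOf_conj, ht])))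
      all_conj := hconj }

end

namespace Hyp

variable {t s : G} {K : Subgroup G} (h : Hyp t s K)
include h

theorem card_cases [Finite G] (h4 : Nat.card K = 4) :
    Nat.card G = 168 ∨ (Nat.card G = 360 ∧ Data t K 9 5) := by
  obtain ⟨q, a, hidx, hc, hor, hz⟩ := h.char_facts h4.ge
  rcases hc with ⟨hq, ha⟩ | ⟨hq, ha⟩
  · rw [h4] at hq ha; subst hq; subst ha
    refine Or.inr ⟨by rw [h.card_eq, h4, hidx],
      ⟨h4.ge, hidx, Or.inl ⟨by rw [h4], by rw [h4]⟩, hor, hz⟩⟩
  · rw [h4] at hq ha
    obtain rfl : q = 7 := by omega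
    obtain rfl : a = 3 := by omega
    exact Or.inl (by rw [h.card_eq, h4, hidx])

theorem cent_le_of_invols [Finite G] {N : Subgroup G} (hN : ∀ u, orderOf u = 2 → u ∈ N) :
    cent t ≤ N := by
  refine fun g hg => ?_
  have hs' : s ∈ N := hN s h.hs
  have hk : ∀ k ∈ K, k ∈ N := fun k hk => by
    have := N.mul_mem (hN _ (h.orderOf_not_mem (h.mul_s_mem_cent hk) (h.mul_s_not_mem hk))) hs'
    rwa [mul_assoc, Involution.mul_self h.hs, mul_one] at this
  by_cases hgK : g ∈ K
  · exact hk g hgK
  · obtain ⟨k, hk', rfl⟩ := h.exists_eq_mul_s hg hgK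
    exact N.mul_mem (hk k hk') hs'

theorem isSimpleGroup [Finite G] (h4 : Nat.card K = 4)
    (he : Nonempty (cent t ≃* DihedralGroup 4)) : IsSimpleGroup G := by
  have := Fact.mk Nat.prime_two
  obtain ⟨e⟩ := he
  have hinv : ∀ u : G, orderOf u = 2 → Nat.card (cent u) = 8 := fun u hu => by
    rw [h.card_cent_involution hu, h4]
  have hGd : Nat.card G = 168 ∨ Nat.card G = 360 := (h.card_cases h4).imp id And.left
  obtain ⟨P, hP⟩ := exists_sylow_of_dihedral h.ht e
  -- normal subgroups of odd order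
  have hoddbot : ∀ R : Subgroup G, R.Normal → Odd (Nat.card R) → R = ⊥ := by
    intro R hR hodd
    have hfree : ∀ u : G, orderOf u = 2 → ∀ x ∈ R, u * x = x * u → x = 1 := by
      intro u hu x hx hc
      have h1 : orderOf x ∣ 2 ^ 3 := by
        rw [show (2 : ℕ) ^ 3 = Nat.card (cent u) from (hinv u hu).symm]
        exact Subgroup.orderOf_dvd_natCard _ (mem_cent.2 hc.symm)
      have h2 := hodd.of_dvd_nat (Subgroup.orderOf_dvd_natCard R hx)
      exact orderOf_eq_one_iff.1 (Nat.eq_one_of_dvd_coprimes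
        ((Nat.coprime_two_left.2 h2).pow_left 3) h1 dvd_rfl)
    have hI : ∀ u : G, orderOf u = 2 → ∀ x ∈ R, u * x * u⁻¹ = x⁻¹ := fun u hu =>
      (inverts_of_free R (Involution.mul_self hu) (fun x hx => hR.conj_mem x hx u) (hfree u hu)).1
    rw [Subgroup.eq_bot_iff_forall]
    intro x hx
    have e2 := hI (t * s) (h.orderOf_not_mem (h.mul_s_mem_cent h.t_mem) (h.mul_s_not_mem h.t_mem))
      x hx
    rw [show t * s * x * (t * s)⁻¹ = t * (s * x * s⁻¹) * t⁻¹ by group, hI s h.hs x hx,
      hI t h.ht _ (R.inv_mem hx), inv_inv] at e2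
    have hxx : x * x = 1 := mul_eq_one_iff_eq_inv.2 e2
    exact orderOf_eq_one_iff.1 (Nat.eq_one_of_dvd_coprimes
      (Nat.coprime_two_left.2 (hodd.of_dvd_nat (Subgroup.orderOf_dvd_natCard R hx)))
      (orderOf_dvd_of_pow_eq_one (by rw [sq, hxx])) dvd_rfl)
  -- normal subgroups of even order
  have heven : ∀ R : Subgroup G, R.Normal → ¬ Odd (Nat.card R) →
      ∀ g : G, (∃ k, orderOf g = 2 ^ k) → g ∈ R := by
    intro R hR hev g ⟨k, hk⟩
    obtain ⟨u0, hu0⟩ := exists_prime_orderOf_dvd_card' (G := R) 2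
      ((Nat.not_odd_iff_even.1 hev).two_dvd)
    have hall : ∀ u : G, orderOf u = 2 → u ∈ R := fun u hu => by
      obtain ⟨c, hc⟩ := isConj_iff.1 (h.all_conj (u0 : G) u (by rw [Subgroup.orderOf_coe, hu0]) hu)
      exact hc ▸ hR.conj_mem _ u0.2 c
    obtain ⟨Q, hQ⟩ := (IsPGroup.of_card (n := k)
      (by rw [Nat.card_zpowers, hk]) : IsPGroup 2 (Subgroup.zpowers g)).exists_le_sylow
    obtain ⟨c, hc⟩ := MulAction.exists_smul_eq G Q P
    have hm : c * g * c⁻¹ ∈ cent t := by
      rw [← hP, ← hc, Sylow.coe_subgroup_smul]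
      exact ⟨g, hQ (Subgroup.mem_zpowers g), rfl⟩
    have := hR.conj_mem _ (h.cent_le_of_invols hall hm) c⁻¹
    simpa [mul_assoc] using this
  have : Nontrivial G := ⟨⟨t, 1, h.t_ne_one⟩⟩
  refine { eq_bot_or_eq_top_of_normal := fun N hN => ?_ }
  by_cases hodd : Odd (Nat.card N)
  · exact Or.inl (hoddbot N hN hodd)
  right
  have hCN : cent t ≤ N := by
    intro g hg
    have hg8 : orderOf g ∣ 2 ^ 3 := by
      rw [show (2 : ℕ) ^ 3 = Nat.card (cent t) from (hinv t h.ht).symm]
      exact Subgroup.orderOf_dvd_natCard _ hg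
    obtain ⟨k, -, hk⟩ := (Nat.dvd_prime_pow Nat.prime_two).1 hg8
    exact heven N hN hodd g ⟨k, hk⟩
  have hidxN : ∀ H : Subgroup N, H.index ≠ 2 := by
    intro H hH
    let S : Set G := {g | g ∈ N ∧ Odd (orderOf g)}
    let R := Subgroup.closure S
    have hS : ∀ g ∈ S, ∀ c : G, c * g * c⁻¹ ∈ S := fun g hg c =>
      ⟨hN.conj_mem g hg.1 c, by rw [Involution.orderOf_conj]; exact hg.2⟩
    have hRn : R.Normal := ⟨fun x hx c => by
      have hle : R ≤ R.comap (MulAut.conj c).toMonoidHom := by
        rw [Subgroup.closure_le]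
        exact fun g hg => Subgroup.subset_closure (hS g hg c)
      exact hle hx⟩
    have hHn : H.Normal := Subgroup.normal_of_index_eq_two hH
    have hRH : ∀ g : N, (g : G) ∈ R → g ∈ H := by
      intro g hg
      have hle : R ≤ H.map N.subtype := by
        rw [Subgroup.closure_le]
        rintro x ⟨hx, hxo⟩
        obtain ⟨m, hm⟩ := hxo
        refine ⟨⟨x, hx⟩, ?_, rfl⟩
        have h2 : (⟨x, hx⟩ : N) ^ 2 ∈ H := by
          have := H.pow_index_mem (⟨x, hx⟩ : N); rwa [hH] at this
        have he : (⟨x, hx⟩ : N) = ((⟨x, hx⟩ : N) ^ 2) ^ (m + 1) := Subtype.ext (by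
          rw [SubgroupClass.coe_pow, SubgroupClass.coe_pow, ← pow_mul,
            show 2 * (m + 1) = orderOf x + 1 by omega, pow_succ, pow_orderOf_eq_one, one_mul])
        show (⟨x, hx⟩ : N) ∈ H
        rw [he]
        exact H.pow_mem h2 _
      obtain ⟨y, hy, hye⟩ := hle hg
      exact Subtype.ext hye ▸ hy
    by_cases hRodd : Odd (Nat.card R)
    · have hRbot : R = ⊥ := hoddbot R hRn hRodd
      have hN2 : IsPGroup 2 N := by
        intro g
        obtain ⟨k, m, hm, hkm⟩ :=
          Nat.exists_eq_pow_mul_and_not_dvd (orderOf_pos (g : G)).ne' 2 (by norm_num)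
        refine ⟨k, Subtype.ext ?_⟩
        have hmem : (g : G) ^ 2 ^ k ∈ R := Subgroup.subset_closure
          ⟨N.pow_mem g.2 _, by
            rw [orderOf_pow' _ (by positivity), hkm, Nat.gcd_eq_right (dvd_mul_right _ m),
              Nat.mul_div_cancel_left _ (by positivity)]
            exact Nat.odd_iff.2 (by omega)⟩
        rw [hRbot, Subgroup.mem_bot] at hmem
        simpa using hmem
      have hPN : N = (P : Subgroup G) := P.is_maximal' hN2 (hP ▸ hCN)
      have hsub : {u : G | orderOf u = 2} ⊆ (N : Set G) := fun u hu =>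
        heven N hN hodd u ⟨1, by rw [pow_one]; exact hu⟩
      have hle := Set.ncard_le_ncard hsub (Set.toFinite _)
      rw [h.ncard_involutions, ← Nat.card_coe_set_eq] at hle
      change _ ≤ Nat.card N at hle
      rw [hPN, hP, hinv t h.ht] at hle
      have := h.card_eq
      rw [h4] at this
      rcases hGd with e' | e' <;> omega
    · have htop : ∀ g : N, g ∈ H := by
        intro g
        obtain ⟨k, m, hm, hkm⟩ :=
          Nat.exists_eq_pow_mul_and_not_dvd (orderOf_pos (g : G)).ne' 2 (by norm_num)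
        refine hRH g ?_
        have hm0 : m ≠ 0 := fun e => hm (e ▸ dvd_zero 2)
        have h2 : (g : G) ^ m ∈ R := heven R hRn hRodd _ ⟨k, by
          rw [orderOf_pow' _ hm0, hkm, Nat.gcd_eq_right (dvd_mul_left m _),
            Nat.mul_div_cancel _ (Nat.pos_of_ne_zero hm0)]⟩
        have h1 : (g : G) ^ 2 ^ k ∈ R := Subgroup.subset_closure
          ⟨N.pow_mem g.2 _, by
            rw [orderOf_pow' _ (by positivity), hkm, Nat.gcd_eq_right (dvd_mul_right _ m),
              Nat.mul_div_cancel_left _ (by positivity)]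
            exact Nat.odd_iff.2 (by omega)⟩
        obtain ⟨i, j, hij⟩ : ∃ i j : ℤ, (2 : ℤ) ^ k * i + (m : ℤ) * j = 1 := by
          refine ⟨Nat.gcdA (2 ^ k) m, Nat.gcdB (2 ^ k) m, ?_⟩
          have hb := Nat.gcd_eq_gcd_ab (2 ^ k) m
          rw [(Nat.Coprime.pow_left k ((Nat.prime_two.coprime_iff_not_dvd).2 hm)).gcd_eq_one] at hb
          push_cast at hb
          exact hb.symm
        have hge : (g : G) = ((g : G) ^ 2 ^ k) ^ i * ((g : G) ^ m) ^ j := by
          rw [← zpow_natCast (g : G) (2 ^ k), ← zpow_natCast (g : G) m, ← zpow_mul, ← zpow_mul,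
            ← zpow_add]
          push_cast
          rw [hij, zpow_one]
        rw [hge]
        exact R.mul_mem (R.zpow_mem h1 _) (R.zpow_mem h2 _)
      rw [(Subgroup.eq_top_iff' H).2 htop, Subgroup.index_top] at hH
      norm_num at hH
  -- apply the counting to `N`
  let t' : N := ⟨t, hCN (self_mem_cent t)⟩
  have ht' : orderOf t' = 2 := by rw [← Subgroup.orderOf_coe]; exact h.ht
  let f : cent t' ≃* cent t :=
    { toFun := fun c => ⟨(c.1 : G), mem_cent.2 (congrArg Subtype.val (mem_cent.1 c.2))⟩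
      invFun := fun c => ⟨⟨c, hCN c.2⟩, mem_cent.2 (Subtype.ext (mem_cent.1 c.2))⟩
      left_inv := fun c => rfl
      right_inv := fun c => rfl
      map_mul' := fun c d => rfl }
  obtain ⟨s', K', h', h4'⟩ := hyp_of_dihedral ht' (f.trans e) hidxN
  have hcN : Nat.card N = 168 ∨ Nat.card N = 360 := (h'.card_cases h4').imp id And.left
  have hd := Subgroup.card_subgroup_dvd_card N
  refine Subgroup.eq_top_of_card_eq N ?_
  rcases hcN with a1 | a1 <;> rcases hGd with a2 | a2 <;> rw [a1, a2] at hd ⊢ <;> norm_num at hd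

end Hyp

end Cfsg.Agent.BSW
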