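import Cfsg.Agent.EqLemmas

/-!
# A field from a half-transitive fixed-point-free abelian group of automorphisms

`exists_field` : an abelian group `D` of fixed-point-free automorphisms of a finite abelian group
`A` of odd order `2|D| + 1` is the group of non-zero squares of a field structure on `A`.
-/

set_option autoImplicit false

namespace Cfsg.Agent.BSW.Line

/-- A bare copy of `Fin k`, to carry the constructed field. -/
def Carrier (k : ℕ) : Type := Fin k

variable {A : Type*} [AddCommGroup A] [Finite A] {D : Type*} [Finite D]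

/-- An invariant subgroup is trivial or everything. -/
theorem invariant_eq_bot_or_top (φ : D → AddMonoid.End A) (hodd : Odd (Nat.card A))
    (hcard : 2 * Nat.card D + 1 = Nat.card A)
    (hfree : ∀ w : A, w ≠ 0 → Function.Injective fun d => φ d w) (hne : ∀ d w, φ d w = 0 → w = 0)
    (W : AddSubgroup A) (hW : ∀ d, ∀ x ∈ W, φ d x ∈ W) : W = ⊥ ∨ W = ⊤ := by
  classical
  rcases eq_or_ne W ⊥ with h | h
  · exact Or.inl h
  refine Or.inr (AddSubgroup.eq_top_of_card_eq W ?_)
  obtain ⟨w, hw, hw0⟩ := (AddSubgroup.bot_or_exists_ne_zero W).resolve_left h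
  have hle : Nat.card D + 1 ≤ Nat.card W := by
    have : Nat.card (Option D) ≤ Nat.card W := by
      refine Nat.card_le_card_of_injective
        (fun o => o.elim (0 : W) fun d => ⟨φ d w, hW d w hw⟩) ?_
      rintro (_ | d) (_ | d') e
      · rfl
      · exact absurd (hne d' w (congrArg Subtype.val e).symm) hw0
      · exact absurd (hne d w (congrArg Subtype.val e)) hw0
      · exact congrArg some (hfree w hw0 (congrArg Subtype.val e))
    rwa [Finite.card_option] at this
  obtain ⟨k, hk⟩ := W.card_addSubgroup_dvd_card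
  rcases k with _ | _ | k
  · exfalso
    have := Nat.card_pos (α := A)
    omega
  · rw [hk, Nat.mul_one]
  · exfalso
    rcases Nat.eq_zero_or_pos k with rfl | hk0
    · exact Nat.not_even_iff_odd.mpr hodd ⟨Nat.card W, by rw [hk]; ring⟩
    · nlinarith

/-- The field. -/
theorem exists_field (φ : D → AddMonoid.End A) (hcomm : ∀ d d', φ d * φ d' = φ d' * φ d)
    (hone : ∃ d₀, φ d₀ = 1) (hinj : Function.Injective φ)
    (hmul : ∀ d d', ∃ d'', φ d * φ d' = φ d'') (hodd : Odd (Nat.card A))
    (hcard : 2 * Nat.card D + 1 = Nat.card A) (hD : 2 ≤ Nat.card D)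
    (hfree : ∀ w : A, w ≠ 0 → Function.Injective fun d => φ d w) (hne : ∀ d w, φ d w = 0 → w = 0) :
    ∃ (F : Type) (_ : Field F) (_ : Fintype F) (θ : F ≃+ A) (v : D → F),
      ringChar F ≠ 2 ∧ (∀ d x, θ (v d * x) = φ d (θ x)) ∧ (∀ d, IsSquare (v d) ∧ v d ≠ 0) ∧
      ∀ s : F, IsSquare s → s ≠ 0 → ∃ d, v d = s := by
  classical
  let S : Set (AddMonoid.End A) := Set.range φ
  let R := Subring.closure S
  have hcen : ∀ r ∈ R, ∀ d, r * φ d = φ d * r := by
    intro r hr d
    have hle : R ≤ Subring.centralizer {φ d} := Subring.closure_le.mpr (by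
      rintro _ ⟨d', rfl⟩
      exact Subring.mem_centralizer_iff.mpr fun g hg => by rw [Set.mem_singleton_iff.mp hg, hcomm])
    exact (Subring.mem_centralizer_iff.mp (hle hr) _ rfl).symm
  have hkey : ∀ r ∈ R, r ≠ 0 → ∀ x : A, r x = 0 → x = 0 := by
    intro r hr hr0 x hx
    rcases invariant_eq_bot_or_top φ hodd hcard hfree hne (AddMonoidHom.ker (r : A →+ A))
      (fun d y hy => by
        have hy' : r y = 0 := hy
        show (r * φ d) y = 0
        rw [hcen r hr d]
        show φ d (r y) = 0
        rw [hy', map_zero]) with h | h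
    · exact (AddSubgroup.eq_bot_iff_forall _).mp h x hx
    · refine absurd ?_ hr0
      ext y
      exact (AddMonoidHom.mem_ker).mp (h ▸ AddSubgroup.mem_top y)
  have hA2 : 1 < Nat.card A := by omega
  obtain ⟨e, he⟩ : ∃ e : A, e ≠ 0 := by
    have : Nontrivial A := Finite.one_lt_card_iff_nontrivial.mp hA2
    exact exists_ne 0
  have hRe : ∀ r : R, (r : AddMonoid.End A) e = 0 → r = 0 := fun r hr => by
    by_contra hne'
    exact he (hkey r r.2 (fun h => hne' (Subtype.ext h)) e hr)
  -- evaluation at `e`
  let ev : R →+ A :=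
    { toFun := fun r => (r : AddMonoid.End A) e
      map_zero' := rfl
      map_add' := fun _ _ => rfl }
  have hev : Function.Bijective ev := by
    refine ⟨(injective_iff_map_eq_zero ev).mpr hRe, ?_⟩
    rcases invariant_eq_bot_or_top φ hodd hcard hfree hne ev.range (fun d y hy => by
      obtain ⟨r, rfl⟩ := hy
      exact ⟨⟨φ d, Subring.subset_closure ⟨d, rfl⟩⟩ * r, rfl⟩) with h | h
    · exfalso
      have h1 : ev 1 ∈ ev.range := ⟨1, rfl⟩
      rw [h, AddSubgroup.mem_bot] at h1
      exact he h1
    · exact AddMonoidHom.range_eq_top.mp h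
  letI : Finite R := Finite.of_injective ev hev.1
  letI : CommRing R := Subring.closureCommRingOfComm (by
    rintro _ ⟨d, rfl⟩ _ ⟨d', rfl⟩
    exact hcomm d d')
  haveI : Nontrivial R := ⟨⟨0, 1, fun h =>
    he (congrArg (fun r : R => (r : AddMonoid.End A) e) h).symm⟩⟩
  haveI : NoZeroDivisors R := ⟨fun {r r'} h => by
    by_contra hne'
    push Not at hne'
    refine he ((hkey r' r'.2 (fun h' => hne'.2 (Subtype.ext h'))) e
      ((hkey r r.2 (fun h' => hne'.1 (Subtype.ext h'))) _ ?_))
    exact congrArg (fun s : R => (s : AddMonoid.End A) e) h⟩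
  haveI : IsDomain R := NoZeroDivisors.to_isDomain R
  letI : Field R := (Finite.isField_of_domain R).toField
  let k := Nat.card R
  let eq : Carrier k ≃ R := (Finite.equivFin R).symm
  letI : Field (Carrier k) := eq.field
  letI : Fintype (Carrier k) := inferInstanceAs (Fintype (Fin k))
  let ρ : Carrier k ≃+* R := eq.ringEquiv
  let θ : Carrier k ≃+ A := ρ.toAddEquiv.trans (AddEquiv.ofBijective ev hev)
  let v : D → Carrier k := fun d => ρ.symm ⟨φ d, Subring.subset_closure ⟨d, rfl⟩⟩
  have hθv : ∀ d x, θ (v d * x) = φ d (θ x) := by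
    intro d x
    show ev (ρ (v d * x)) = φ d (ev (ρ x))
    rw [map_mul, RingEquiv.apply_symm_apply]
    rfl
  have hF : Fintype.card (Carrier k) = Nat.card A := by
    rw [← Nat.card_eq_fintype_card, Nat.card_congr θ.toEquiv]
  have hchar : ringChar (Carrier k) ≠ 2 := fun h => by
    have := FiniteField.even_card_of_char_two h
    rw [hF] at this
    exact Nat.not_odd_iff.mpr this hodd
  have hv0 : ∀ d, v d ≠ 0 := fun d h => by
    have := hθv d 1
    rw [h, zero_mul, map_zero] at this
    exact one_ne_zero (θ.injective ((hne d _ this.symm).trans (map_zero θ).symm))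
  have hvinj : Function.Injective v := fun d d' h => hinj (by
    exact congrArg Subtype.val (ρ.symm.injective h))
  have hpow : ∀ d, v d ^ Nat.card D = 1 := by
    -- multiplication by `v d` permutes the range of `v`
    intro d
    have : Fintype D := Fintype.ofFinite D
    have hmul' : ∀ d', ∃ d'', v d * v d' = v d'' := fun d' => by
      obtain ⟨d'', hd''⟩ := hmul d d'
      exact ⟨d'', by rw [← map_mul]; exact congrArg ρ.symm (Subtype.ext hd'')⟩
    choose g hg using hmul'
    have hgb : Function.Bijective g := by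
      refine Finite.injective_iff_bijective.mp fun x y hxy => hvinj (mul_left_cancel₀ (hv0 d) ?_)
      rw [hg, hg, hxy]
    have h1 : ∏ d', v d' = ∏ d', v d * v d' := by
      simp only [hg]
      exact (hgb.prod_comp v).symm
    rw [Finset.prod_mul_distrib, Finset.prod_const, Finset.card_univ, ← Nat.card_eq_fintype_card,
      right_eq_mul₀ (Finset.prod_ne_zero_iff.mpr fun x _ => hv0 x)] at h1
    exact h1
  have hhalf : Fintype.card (Carrier k) / 2 = Nat.card D := by omega
  have hvsq : ∀ d, IsSquare (v d) := fun d => by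
    rw [FiniteField.isSquare_iff hchar (hv0 d), hhalf]
    exact hpow d
  refine ⟨Carrier k, inferInstance, inferInstance, θ, v, hchar, hθv, fun d => ⟨hvsq d, hv0 d⟩, ?_⟩
  intro s hs hs0
  by_contra hns
  push Not at hns
  -- the polynomial `X ^ |D| - 1` would have too many roots
  have : Fintype D := Fintype.ofFinite D
  let T : Finset (Carrier k) := insert s (Finset.univ.image v)
  have hT : T.card = Nat.card D + 1 := by
    rw [Finset.card_insert_of_notMem (by simpa using hns), Finset.card_image_of_injective _ hvinj,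
      Finset.card_univ, Nat.card_eq_fintype_card]
  have hsub : T ⊆ (Polynomial.nthRoots (Nat.card D) (1 : Carrier k)).toFinset := by
    intro x hx
    rw [Multiset.mem_toFinset, Polynomial.mem_nthRoots (by omega)]
    rcases Finset.mem_insert.mp hx with rfl | hx
    · rw [← hhalf]
      exact (FiniteField.isSquare_iff hchar hs0).mp hs
    · obtain ⟨d, -, rfl⟩ := Finset.mem_image.mp hx
      exact hpow d
  have := (Finset.card_le_card hsub).trans ((Multiset.toFinset_card_le _).trans (Polynomial.card_nthRoots _ _))
  omega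

end Cfsg.Agent.BSW.Line
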