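/-
The theorem of Brauer, Suzuki and Wall from the hypotheses as usually stated.

* `hyp_of_statement` : the structure `Hyp` from the usual hypotheses
-/
import Cfsg.Agent.Lib.BSW.Two

set_option autoImplicit false

namespace Cfsg.Agent.BSW

variable {G : Type*} [Group G]

theorem hyp_of_statement [Finite G] {t : G} (ht : orderOf t = 2) {K : Subgroup G}
    (hKab : IsMulCommutative ↥K) (hKH : K ≤ Subgroup.centralizer ({t} : Set G)) (htK : t ∈ K)
    {s : G} (hs : orderOf s = 2) (hsH : s ∈ Subgroup.centralizer ({t} : Set G)) (hsK : s ∉ K)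
    (hH : K ⊔ Subgroup.zpowers s = Subgroup.centralizer ({t} : Set G))
    (hCK : K ⊓ Subgroup.centralizer ({s} : Set G) = Subgroup.zpowers t)
    (hinv : ∀ x ∈ K, s * x * s⁻¹ = x⁻¹)
    (hTI : ∀ g : G, g ∉ Subgroup.centralizer ({t} : Set G) →
      K ⊓ K.map (MulAut.conj g).toMonoidHom = ⊥)
    (hconj : ∀ x y : G, orderOf x = 2 → orderOf y = 2 → IsConj x y) : Hyp t s K where
  ht := ht
  hs := hs
  comm := fun x hx y hy => congrArg Subtype.val (hKab.is_comm.comm ⟨x, hx⟩ ⟨y, hy⟩)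
  le_cent := hKH
  t_mem := htK
  s_mem := hsH
  s_not := hsK
  cent_le := hH.ge
  fix := fun x hx hc => by
    have hm : x ∈ Subgroup.zpowers t :=
      hCK ▸ Subgroup.mem_inf.2 ⟨hx, mem_cent.2 hc.symm⟩
    obtain ⟨k, rfl⟩ := Subgroup.mem_zpowers_iff.1 hm
    rcases Int.even_or_odd k with ⟨m, rfl⟩ | ⟨m, rfl⟩
    · exact Or.inl (by rw [zpow_add, ← (Commute.refl t).mul_zpow, Involution.mul_self ht, one_zpow])
    · exact Or.inr (by rw [zpow_add, zpow_mul, zpow_one, zpow_two, Involution.mul_self ht,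
        one_zpow, one_mul])
  inv := hinv
  ti := fun g x hx hx1 hgx => by
    by_contra hg
    have hm : g * x * g⁻¹ ∈ K ⊓ K.map (MulAut.conj g).toMonoidHom :=
      Subgroup.mem_inf.2 ⟨hgx, ⟨x, hx, rfl⟩⟩
    rw [hTI g hg, Subgroup.mem_bot] at hm
    exact hx1 (conj_eq_one_iff.1 hm)
  all_conj := hconj

end Cfsg.Agent.BSW
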