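/-
Permutations of ten points: translations of the plane of order 9, a rotation and candidates for an involution.

* `tab_check` : the candidates surviving the order test generate one group
-/
import Cfsg.Agent.EqLemmas
import Mathlib.Data.Fin.VecNotation
import Mathlib.Data.Fintype.Pi
import Mathlib.Logic.Function.Iterate

set_option autoImplicit false

namespace Cfsg.Agent.BSW.Ten

/-- The point with coordinates `(i, j)`. -/
def enc (i j : ℕ) : Fin 10 := ⟨i % 3 + 3 * (j % 3), by omega⟩

/-- Translation by `(a % 3, a / 3)`, fixing the point `9`. -/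
def trans (a n : Fin 10) : Fin 10 :=
  if n = 9 then 9 else enc (a.1 % 3 + n.1 % 3) (a.1 / 3 + n.1 / 3)

/-- The rotation of order four. -/
def rot (n : Fin 10) : Fin 10 := if n = 9 then 9 else enc (2 * (n.1 / 3)) (n.1 % 3)

/-- The map inverting the rotation with values `c` at `1` and `d` at `4`. -/
def tab (c d : Fin 10) : Fin 10 → Fin 10 :=
  ![9, c, rot^[2] c, rot^[3] c, d, rot^[3] d, rot c, rot d, rot^[2] d, 0]

/-- The conditions imposed by the orders of the elements of the group. -/
def Good (c d : Fin 10) : Prop :=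
  (∀ n, tab c d (tab c d n) = n) ∧ ∀ a : Fin 10, a ≠ 9 →
    ((∀ n, (tab c d ∘ trans a)^[3] n = n) ∨ (∀ n, (tab c d ∘ trans a)^[4] n = n) ∨
      (∀ n, (tab c d ∘ trans a)^[5] n = n))

instance decidableGood (c d : Fin 10) : Decidable (Good c d) :=
  inferInstanceAs (Decidable (_ ∧ _))

theorem tab_check : ∀ c d : Fin 10, Good c d →
    ∃ j : Fin 4, ∀ n, rot^[j.1] (tab c d n) = tab 1 5 n := by
  decide +kernel

theorem rot_cycle : rot 1 = 3 ∧ rot 3 = 2 ∧ rot 2 = 6 ∧ rot 4 = 5 ∧ rot 5 = 8 ∧ rot 8 = 7 := by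
  decide +kernel

end Cfsg.Agent.BSW.Ten
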