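/-
Uniqueness of the group of order 360 with dihedral involution centralizers.

* `exists_injective_ten` : it is a fixed group of permutations of ten points
* `mulEquiv_of_dihedral` : uniqueness
* `equiv_cent_alternating_six` : the involution centralizers of `A₆`
-/
import Cfsg.Agent.Lib.BSW.Dihedral
import Cfsg.Agent.Lib.BSW.Ten
import Cfsg.Agent.S5057
import Cfsg.Agent.S0206
import Mathlib.GroupTheory.GroupAction.Quotient

set_option autoImplicit false
open Cfsg

namespace Cfsg.Agent.BSW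

variable {G : Type*} [Group G]

namespace Hyp

variable {t s : G} {K : Subgroup G} (h : Hyp t s K)
include h

/-- A rotation, an element of order three, and an involution inverting the rotation. -/
theorem exists_generators [Finite G] (h4 : Nat.card K = 4) (d : Data t K 9 5) :
    ∃ (P N : Subgroup G) (x r u : G), Nat.card P = 9 ∧
      N = Subgroup.normalizer (P : Set G) ∧ N.index = 10 ∧
      (∀ a ∈ P, a ≠ 1 → cent a = P) ∧ x ∈ P ∧ orderOf x = 3 ∧ r ∈ N ∧ orderOf r = 4 ∧
      orderOf u = 2 ∧ u * r * u⁻¹ = r⁻¹ ∧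
      (∀ g : G, g ^ 3 = 1 ∨ g ^ 4 = 1 ∨ g ^ 5 = 1) ∧
      (∀ a ∈ P, a ^ 3 = 1) ∧ r * x * r⁻¹ ∉ Subgroup.zpowers x ∧
      r * (r * x * r⁻¹) * r⁻¹ = x⁻¹ := by
  have := Fact.mk Nat.prime_two
  have := Fact.mk Nat.prime_three
  have hG : Nat.card G = 360 := by rw [h.card_G d, h4]
  obtain ⟨x, hx⟩ := exists_prime_orderOf_dvd_card' (G := G) 3 (by rw [hG]; norm_num)
  have hx1 : x ≠ 1 := fun e => by rw [e, orderOf_one] at hx; norm_num at hx
  have hxo : x ∈ out K := h.mem_out_of_coprime hx1 (by rw [hx, h4]; norm_num)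
  have hxZ := h.mem_zset_of_prime d Nat.prime_three (by norm_num) hxo (hx ▸ dvd_rfl)
  set P := cent x with hP
  have hPc : Nat.card P = 9 := (h.card_cent_zset d hxZ).1
  have hab : ∀ a ∈ P, ∀ b ∈ P, a * b = b * a := by
    have : IsMulCommutative P :=
      IsPGroup.isMulCommutative_of_card_eq_prime_sq (p := 3) (by rw [hPc]; norm_num)
    exact fun a ha b hb => congrArg Subtype.val (mul_comm' (⟨a, ha⟩ : P) ⟨b, hb⟩)
  obtain ⟨hcent, hNcard⟩ := h.abelian_facts d hPc hab
  set N := Subgroup.normalizer (P : Set G) with hN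
  have hN36 : Nat.card N = 36 := by rw [hG] at hNcard; omega
  have hNi : N.index = 10 := by
    have := N.card_mul_index; rw [hN36, hG] at this; omega
  -- the rotation
  obtain ⟨W, hWN, hW⟩ : ∃ W : Subgroup G, W ≤ N ∧ Nat.card W = 4 := by
    obtain ⟨W, hW⟩ := Sylow.exists_subgroup_card_pow_prime (G := N) 2 (n := 2) (by rw [hN36]; norm_num)
    exact ⟨W.map N.subtype, Subgroup.map_subtype_le W,
      by rw [Subgroup.card_map_of_injective N.subtype_injective, hW]; norm_num⟩
  have hfree : ∀ w ∈ W, w ≠ 1 → ∀ a ∈ P, w * a = a * w → a = 1 := by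
    intro w hw hw1 a ha hc
    by_contra ha1
    have h9 : orderOf w ∣ 9 := by
      rw [← hPc, ← hcent a ha ha1]
      exact Subgroup.orderOf_dvd_natCard _ (mem_cent.2 hc)
    exact hw1 (orderOf_eq_one_iff.1 (Nat.eq_one_of_dvd_coprimes (by norm_num)
      h9 (hW ▸ Subgroup.orderOf_dvd_natCard W hw)))
  have hinvP : ∀ w ∈ W, w ≠ 1 → w * w = 1 → ∀ a ∈ P, w * a * w⁻¹ = a⁻¹ := fun w hw hw1 hww =>
    (inverts_of_free P hww (fun a ha => conj_mem_of_mem_normalizer (hWN hw) ha)
      (hfree w hw hw1)).1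
  have hxP : x ∈ P := self_mem_cent x
  have hxx : x⁻¹ ≠ x := fun e => by
    have h2 : orderOf x ∣ 2 := orderOf_dvd_of_pow_eq_one (by
      rw [sq]; nth_rewrite 1 [← e]; exact inv_mul_cancel x)
    rw [hx] at h2; norm_num at h2
  obtain ⟨r, hrW, hr⟩ : ∃ r ∈ W, r * r ≠ 1 := by
    by_contra hall
    push Not at hall
    have : Nontrivial W := Finite.one_lt_card_iff_nontrivial.1 (by rw [hW]; norm_num)
    obtain ⟨⟨w, hw⟩, hw1⟩ := exists_ne (1 : W)
    obtain ⟨v, hv, hvn⟩ : ∃ v ∈ W, v ∉ Subgroup.zpowers w := by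
      by_contra hc
      push Not at hc
      have := Subgroup.card_le_of_le (K := Subgroup.zpowers w) (H := W) hc
      rw [hW, Nat.card_zpowers] at this
      have := orderOf_le_of_pow_eq_one (x := w) (n := 2) (by norm_num) (by rw [sq]; exact hall w hw)
      omega
    have hw1' : w ≠ 1 := fun e => hw1 (Subtype.ext e)
    have hv1 : v ≠ 1 := fun e => hvn (e ▸ one_mem _)
    have hwv : w * v ≠ 1 := fun e => hvn (by
      rw [eq_inv_of_mul_eq_one_right e]; exact inv_mem (Subgroup.mem_zpowers w))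
    have e1 := hinvP (w * v) (W.mul_mem hw hv) hwv (hall _ (W.mul_mem hw hv)) x hxP
    rw [show w * v * x * (w * v)⁻¹ = w * (v * x * v⁻¹) * w⁻¹ by group,
      hinvP v hv hv1 (hall v hv) x hxP, hinvP w hw hw1' (hall w hw) _ (P.inv_mem hxP), inv_inv] at e1
    exact hxx e1.symm
  have hr4 : orderOf r = 4 := by
    have hd : orderOf r ∣ 2 ^ 2 := by
      rw [show (2 : ℕ) ^ 2 = Nat.card W by rw [hW]; norm_num]
      exact Subgroup.orderOf_dvd_natCard W hrW
    obtain ⟨k, hk, he⟩ := (Nat.dvd_prime_pow Nat.prime_two).1 hd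
    have h2 : ¬ orderOf r ∣ 2 := fun hdd => hr (by
      have := orderOf_dvd_iff_pow_eq_one.1 hdd; rwa [sq] at this)
    interval_cases k <;> simp_all
  set z := r * r with hz
  have hzo : orderOf z = 2 := by
    rw [hz, ← sq, orderOf_pow, hr4]; rfl
  have hzW : z ∈ W := W.mul_mem hrW hrW
  have hzinv : ∀ a ∈ P, z * a * z⁻¹ = a⁻¹ :=
    hinvP z hzW (Involution.ne_one hzo) (Involution.mul_self hzo)
  set y := r * x * r⁻¹ with hy
  have hyP : y ∈ P := conj_mem_of_mem_normalizer (hWN hrW) hxP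
  have hyr : r * y * r⁻¹ = x⁻¹ := by
    rw [hy, show r * (r * x * r⁻¹) * r⁻¹ = (r * r) * x * (r * r)⁻¹ by group]
    exact hzinv x hxP
  have hyx : y ∉ Subgroup.zpowers x := by
    intro hm
    obtain ⟨k, hk⟩ := mem_powers_iff_mem_zpowers.2 hm
    have hk' : x ^ (k % 3) = y := by rw [← hx, pow_mod_orderOf]; exact hk
    have := Nat.mod_lt k (show 0 < 3 by norm_num)
    interval_cases k % 3
    · rw [pow_zero, eq_comm, hy, conj_eq_one_iff] at hk'; exact hx1 hk'
    · rw [pow_one] at hk'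
      rw [← hk'] at hyr
      rw [hy] at hk'
      exact hxx (hyr.symm.trans hk'.symm)
    · have h2 : y = x⁻¹ := by
        rw [← hk', eq_inv_iff_mul_eq_one, ← pow_succ]
        exact orderOf_dvd_iff_pow_eq_one.1 hx.dvd
      have : r * y * r⁻¹ = y⁻¹ := by rw [h2, ← conj_inv, ← hy, h2]
      rw [hyr, h2, inv_inv] at this
      exact hxx this
  -- the exponent of `P` is three
  have hexp : ∀ a ∈ P, a ^ 3 = 1 := by
    intro a ha
    have hd : orderOf a ∣ 3 ^ 2 := by
      rw [show (3 : ℕ) ^ 2 = Nat.card P by rw [hPc]; norm_num]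
      exact Subgroup.orderOf_dvd_natCard P ha
    obtain ⟨k, hk, he⟩ := (Nat.dvd_prime_pow Nat.prime_three).1 hd
    interval_cases k
    · rw [orderOf_eq_one_iff.1 he, one_pow]
    · rw [← orderOf_dvd_iff_pow_eq_one, he, pow_one]
    · exfalso
      have hz' : Subgroup.zpowers a = P :=
        Subgroup.eq_of_le_of_card_ge (Subgroup.zpowers_le.2 ha) (by
          rw [Nat.card_zpowers, he, hPc]; norm_num)
      obtain ⟨i, rfl⟩ := mem_powers_iff_mem_zpowers.2 (hz'.symm ▸ hxP : x ∈ Subgroup.zpowers a)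
      obtain ⟨j, hj⟩ := mem_powers_iff_mem_zpowers.2
        (hz'.symm ▸ conj_mem_of_mem_normalizer (hWN hrW) ha : r * a * r⁻¹ ∈ Subgroup.zpowers a)
      refine hyx ?_
      rw [hy, ← conj_pow, ← hj, ← pow_mul, mul_comm, pow_mul]
      exact Subgroup.pow_mem _ (Subgroup.mem_zpowers _) j
  -- the involution
  obtain ⟨c, hc⟩ := isConj_iff.1 (h.all_conj t z h.ht hzo)
  set r' := c⁻¹ * r * c with hr'
  have hr'c : r' ∈ cent t := by
    have h1 : r ∈ cent z := mem_cent.2 (by rw [hz, mul_assoc])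
    have := conj_mem_cent (g := c⁻¹) h1
    rw [inv_inv, ← hc, show c⁻¹ * (c * t * c⁻¹) * c = t by group] at this
    exact this
  have hr'K : r' ∈ K := by
    by_contra hn
    refine hr ?_
    have := h.sq_of_not_mem hr'c hn
    rw [hr', show c⁻¹ * r * c * (c⁻¹ * r * c) = c⁻¹ * (r * r) * c by group] at this
    calc r * r = c * (c⁻¹ * (r * r) * c) * c⁻¹ := by group
      _ = 1 := by rw [this]; group
  refine ⟨P, N, x, r, c * s * c⁻¹, hPc, rfl, hNi, hcent, hxP, hx, hWN hrW, hr4,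
    by rw [Involution.orderOf_conj, h.hs], ?_, fun g => ?_, hexp, hyx, hyr⟩
  · calc c * s * c⁻¹ * r * (c * s * c⁻¹)⁻¹ = c * (s * r' * s⁻¹) * c⁻¹ := by rw [hr']; group
      _ = r⁻¹ := by rw [h.inv r' hr'K, hr']; group
  · by_cases hg1 : g = 1
    · exact Or.inl (by rw [hg1, one_pow])
    by_cases hgK : g ∈ conjInto K
    · refine Or.inr (Or.inl ?_)
      obtain ⟨e, a, ha, -, rfl⟩ := exists_eq_conj hgK
      rw [conj_pow]
      have : a ^ 4 = 1 := orderOf_dvd_iff_pow_eq_one.1 (h4 ▸ Subgroup.orderOf_dvd_natCard K ha)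
      rw [this]; group
    rcases d.dvd_or g ⟨hg1, hgK⟩ with h9 | h5
    · refine Or.inl ?_
      obtain ⟨e, he1, he2⟩ := h.exists_conj_of_card d hPc (h.card_cent_zset d ⟨⟨hg1, hgK⟩, h9⟩).1
      have := hexp _ (he2 g (self_mem_cent g))
      calc g ^ 3 = (e * (e⁻¹ * g * e) * e⁻¹) ^ 3 := by group
        _ = 1 := by rw [conj_pow, this]; group
    · refine Or.inr (Or.inr (orderOf_dvd_iff_pow_eq_one.1 ?_))
      exact (Subgroup.orderOf_dvd_natCard _ (self_mem_cent g)).trans h5

end Hyp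

/-- The standard group of permutations of ten points. -/
def stdTen : Subgroup (Equiv.Perm (Fin 10)) :=
  Subgroup.closure {f | ⇑f = Ten.trans 1 ∨ ⇑f = Ten.rot ∨ ⇑f = Ten.tab 1 5}

theorem exists_injective_ten [Finite G] [IsSimpleGroup G] (hG : Nat.card G = 360) {t s : G}
    {K : Subgroup G} (h : Hyp t s K) (h4 : Nat.card K = 4) :
    ∃ φ : G →* Equiv.Perm (Fin 10), Function.Injective φ ∧ φ.range = stdTen := by
  classical
  obtain ⟨-, d⟩ := (h.card_cases h4).resolve_left (by omega)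
  obtain ⟨P, N, x, r, u, hPc, hN, hNi, hcent, hxP, hx, hrN, hr, hu, hur, hord, hexp, hyx, hyr⟩ :=
    h.exists_generators h4 d
  set y := r * x * r⁻¹ with hy
  have hPN : P ≤ N := hN ▸ Subgroup.le_normalizer
  have hyP : y ∈ P := conj_mem_of_mem_normalizer (hN ▸ hrN) hxP
  have hx3 : x ^ 3 = 1 := hexp x hxP
  have hy3 : y ^ 3 = 1 := hexp y hyP
  have hxy : Commute x y := by
    have h1 : y ∈ cent x := by
      rw [hcent x hxP fun e => by rw [e, orderOf_one] at hx; norm_num at hx]; exact hyP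
    exact (mem_cent.1 h1).symm
  have hxm : ∀ n, x ^ n = x ^ (n % 3) := fun n => pow_eq_pow_mod n hx3
  have hym : ∀ n, y ^ n = y ^ (n % 3) := fun n => pow_eq_pow_mod n hy3
  have hu1 : u⁻¹ = u := Involution.inv_eq hu
  have hnorm : (P.subgroupOf N).Normal :=
    (Subgroup.normal_subgroupOf_iff_le_normalizer hPN).2 hN.le
  -- elements of order three in `N` lie in `P`
  have hN3 : ∀ g ∈ N, g ^ 3 = 1 → g ∈ P := by
    intro g hg h3
    have hi : (P.subgroupOf N).index = 4 := by
      have h1 := (P.subgroupOf N).card_mul_index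
      rw [Nat.card_congr (Subgroup.subgroupOfEquivOfLe hPN).toEquiv, hPc] at h1
      have h2 := N.card_mul_index
      rw [hNi, hG] at h2
      omega
    have := (P.subgroupOf N).pow_index_mem ⟨g, hg⟩
    rw [hi, Subgroup.mem_subgroupOf, SubgroupClass.coe_pow] at this
    rwa [pow_succ, h3, one_mul] at this
  have huN : u ∉ N := by
    intro huN
    have hz : r * r ≠ 1 := fun e => by
      have := orderOf_le_of_pow_eq_one (x := r) (n := 2) (by norm_num) (by rw [sq]; exact e)
      omega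
    have hzz : r * r * (r * r) = 1 := by
      rw [← pow_two, ← pow_two, ← pow_mul]
      exact orderOf_dvd_iff_pow_eq_one.1 hr.dvd
    have hinv : ∀ w ∈ N, w ≠ 1 → w * w = 1 → ∀ a ∈ P, w * a * w⁻¹ = a⁻¹ := fun w hw hw1 hww =>
      (inverts_of_free P hww (fun a ha => conj_mem_of_mem_normalizer (hN ▸ hw) ha)
        (fun a ha hc => by
          by_contra ha1
          have h9 : orderOf w ∣ 9 := by
            rw [← hPc, ← hcent a ha ha1]
            exact Subgroup.orderOf_dvd_natCard _ (mem_cent.2 hc)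
          exact hw1 (orderOf_eq_one_iff.1 (Nat.eq_one_of_dvd_coprimes (a := 9) (b := 2)
            (by norm_num) h9 (orderOf_dvd_of_pow_eq_one (by rw [sq, hww])))))).1
    have e1 := hinv u huN (Involution.ne_one hu) (Involution.mul_self hu) x hxP
    have e2 := hinv _ (N.mul_mem hrN hrN) hz hzz x hxP
    have hm : u⁻¹ * (r * r) ∈ P := by
      rw [← hcent x hxP fun e => by rw [e, orderOf_one] at hx; norm_num at hx]
      refine mem_cent.2 (conj_eq_iff.1 ?_)
      rw [show u⁻¹ * (r * r) * x * (u⁻¹ * (r * r))⁻¹ = u⁻¹ * ((r * r) * x * (r * r)⁻¹) * u by group,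
        e2, hu1]
      have e3 := congrArg (·⁻¹) e1
      simp only [mul_inv_rev, inv_inv, hu1, ← mul_assoc] at e3 ⊢
      exact e3
    have hcu : Commute u (r * r) := by
      show u * (r * r) = r * r * u
      rw [← mul_inv_eq_iff_eq_mul,
        show u * (r * r) * u⁻¹ = (u * r * u⁻¹) * (u * r * u⁻¹) by group, hur, ← mul_inv_rev,
        inv_eq_of_mul_eq_one_right hzz]
    have h2 : (u⁻¹ * (r * r)) * (u⁻¹ * (r * r)) = 1 := by
      rw [hu1, mul_assoc, ← mul_assoc (r * r) u, ← hcu.eq, mul_assoc u (r * r),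
        hzz, mul_one, Involution.mul_self hu]
    have h1 : u⁻¹ * (r * r) = 1 := orderOf_eq_one_iff.1 (Nat.eq_one_of_dvd_coprimes
      (a := 9) (b := 2) (by norm_num) (hPc ▸ Subgroup.orderOf_dvd_natCard P hm)
      (orderOf_dvd_of_pow_eq_one (by rw [sq, h2])))
    rw [inv_mul_eq_one] at h1
    rw [h1, show r * r * r * (r * r)⁻¹ = r by group] at hur
    exact hz (mul_eq_one_iff_eq_inv.2 hur)
  -- the ten points
  let v : Fin 10 → G := fun n => x ^ (n.1 % 3) * y ^ (n.1 / 3)
  let pt : Fin 10 → G ⧸ N := fun n => if n = 9 then ((1 : G) : G ⧸ N) else ((v n * u : G) : G ⧸ N)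
  have hvP : ∀ n, v n ∈ P := fun n => P.mul_mem (P.pow_mem hxP _) (P.pow_mem hyP _)
  have hv0 : v 0 = 1 := by simp [v]
  have hv1 : v 1 = x := by simp [v]
  have hlt : ∀ n : Fin 10, n ≠ 9 → n.1 < 9 := fun n hn => by
    have := n.2
    have : n.1 ≠ 9 := fun e => hn (Fin.ext e)
    omega
  have henc : ∀ i j : ℕ, v (Ten.enc i j) = x ^ i * y ^ j := by
    intro i j
    show x ^ ((i % 3 + 3 * (j % 3)) % 3) * y ^ ((i % 3 + 3 * (j % 3)) / 3) = _
    rw [show (i % 3 + 3 * (j % 3)) % 3 = i % 3 by omega,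
      show (i % 3 + 3 * (j % 3)) / 3 = j % 3 by omega, ← hxm, ← hym]
  have hvmul : ∀ a n : Fin 10, n ≠ 9 → v a * v n = v (Ten.trans a n) := by
    intro a n hn
    rw [Ten.trans, if_neg hn, henc, pow_add, pow_add]
    exact (hxy.symm.pow_pow _ _).mul_mul_mul_comm _ _
  have hv_one : ∀ k : Fin 10, k ≠ 9 → v k = 1 → k = 0 := by
    intro k hk he
    have hk9 := hlt k hk
    have he' : x ^ (k.1 % 3) * y ^ (k.1 / 3) = 1 := he
    have hjz : y ^ (k.1 / 3) ∈ Subgroup.zpowers x := by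
      rw [eq_inv_of_mul_eq_one_right he']
      exact inv_mem (Subgroup.pow_mem _ (Subgroup.mem_zpowers x) _)
    rcases (show k.1 / 3 = 0 ∨ k.1 / 3 = 1 ∨ k.1 / 3 = 2 by omega) with e | e | e
    · rw [e, pow_zero, mul_one, ← orderOf_dvd_iff_pow_eq_one, hx] at he'
      exact Fin.ext (by simp; omega)
    · rw [e, pow_one] at hjz; exact absurd hjz hyx
    · rw [e] at hjz
      refine absurd ?_ hyx
      have h2 := Subgroup.pow_mem _ hjz 2
      rwa [← pow_mul, hym, show 2 * 2 % 3 = 1 from rfl, pow_one] at h2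
  have hvinj : ∀ n m : Fin 10, n ≠ 9 → m ≠ 9 → v n = v m → n = m := by
    intro n m hn hm he
    have hdec : ∀ n m : Fin 10, n ≠ 9 → m ≠ 9 →
        Ten.enc (3 - m.1 % 3) (3 - m.1 / 3) ≠ 9 ∧
        Ten.trans (Ten.enc (3 - m.1 % 3) (3 - m.1 / 3)) m = 0 ∧
        Ten.trans (Ten.enc (3 - m.1 % 3) (3 - m.1 / 3)) n ≠ 9 ∧
        (Ten.trans (Ten.enc (3 - m.1 % 3) (3 - m.1 / 3)) n = 0 → n = m) := by decide +kernel
    obtain ⟨-, h1, h2, h3⟩ := hdec n m hn hm
    refine h3 (hv_one _ h2 ?_)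
    rw [← hvmul _ _ hn, he, hvmul _ _ hm, h1, hv0]
  have hkey : ∀ w ∈ P, u⁻¹ * w * u ∈ N → w = 1 := by
    intro w hw hm
    by_contra hw1
    have h3 : (u⁻¹ * w * u) ^ 3 = 1 := by
      conv_lhs => arg 1; arg 2; rw [← inv_inv u]
      rw [conj_pow, hexp w hw]; group
    have hm' := hN3 _ hm h3
    have hne : u⁻¹ * w * u ≠ 1 := fun e => hw1 (by
      rw [mul_assoc, inv_mul_eq_one] at e; exact mul_eq_right.1 e.symm)
    have := mem_normalizer_of_cent (g := u⁻¹) (hcent w hw hw1)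
      (by rw [inv_inv]; exact hcent _ hm' hne)
    rw [← hN] at this
    exact huN (inv_mem_iff.1 this)
  have hnot : ∀ w ∈ P, w * u ∉ N := fun w hw hm => huN (by
    have := N.mul_mem (N.inv_mem (hPN hw)) hm
    rwa [inv_mul_cancel_left] at this)
  have hsep : ∀ a ∈ P, ∀ b ∈ P, ((a * u : G) : G ⧸ N) = ((b * u : G) : G ⧸ N) → a = b := by
    intro a ha b hb he
    rw [QuotientGroup.eq] at he
    have := hkey _ (P.mul_mem (P.inv_mem ha) hb) (by
      convert he using 1
      group)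
    exact inv_mul_eq_one.1 this
  have hpt9 : pt 9 = ((1 : G) : G ⧸ N) := if_pos rfl
  have hptv : ∀ n, n ≠ 9 → pt n = ((v n * u : G) : G ⧸ N) := fun n hn => if_neg hn
  have hsep9 : ∀ n, n ≠ 9 → pt n ≠ pt 9 := fun n hn he => by
    rw [hptv n hn, hpt9, QuotientGroup.eq, mul_one] at he
    exact hnot _ (hvP n) (inv_mem_iff.1 he)
  have hinj : Function.Injective pt := by
    intro n m he
    by_cases hn : n = 9
    · subst hn
      by_contra hm
      exact hsep9 m (Ne.symm hm) he.symm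
    by_cases hm : m = 9
    · subst hm; exact absurd he (hsep9 n hn)
    rw [hptv n hn, hptv m hm] at he
    exact hvinj n m hn hm (hsep _ (hvP n) _ (hvP m) he)
  have hbij : Function.Bijective pt := (Nat.bijective_iff_injective_and_card pt).2 ⟨hinj, by
    rw [Nat.card_fin]; exact hNi.symm⟩
  let e : G ⧸ N ≃ Fin 10 := (Equiv.ofBijective pt hbij).symm
  let φ : G →* Equiv.Perm (Fin 10) :=
    e.permCongrHom.toMonoidHom.comp (MulAction.toPermHom G (G ⧸ N))
  have hφ : ∀ (g : G) (n m : Fin 10), g • pt n = pt m → φ g n = m := by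
    intro g n m he
    show e (g • e.symm n) = m
    rw [show e.symm n = pt n from rfl, he]
    exact e.apply_symm_apply m
  have hsmul : ∀ g a : G, g • ((a : G) : G ⧸ N) = ((g * a : G) : G ⧸ N) := fun g a => rfl
  have hmem9 : ∀ g ∈ N, g • pt 9 = pt 9 := fun g hg => by
    rw [hpt9, hsmul, mul_one, QuotientGroup.eq, mul_one]
    exact inv_mem hg
  have hne9 : ∀ a n : Fin 10, n ≠ 9 → Ten.trans a n ≠ 9 ∧ Ten.rot n ≠ 9 := by decide +kernel
  have hT : ∀ a n, φ (v a) n = Ten.trans a n := by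
    intro a n
    refine hφ _ _ _ ?_
    by_cases hn : n = 9
    · subst hn
      rw [show Ten.trans a 9 = 9 from if_pos rfl]
      exact hmem9 _ (hPN (hvP a))
    · rw [hptv n hn, hptv _ (hne9 a n hn).1, hsmul, ← mul_assoc, hvmul a n hn]
  have hru : u * r = r⁻¹ * u := mul_inv_eq_iff_eq_mul.1 hur
  have hru' : r * u = u * r⁻¹ := by
    rw [eq_mul_inv_iff_mul_eq, mul_assoc, hru, mul_inv_cancel_left]
  have hR : ∀ n, φ r n = Ten.rot n := by
    intro n
    refine hφ _ _ _ ?_
    by_cases hn : n = 9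
    · subst hn
      rw [show Ten.rot 9 = 9 from if_pos rfl]
      exact hmem9 _ hrN
    · rw [hptv n hn, hptv _ (hne9 0 n hn).2, hsmul]
      have h1 : r * v n = v (Ten.rot n) * r := by
        rw [Ten.rot, if_neg hn, henc]
        show r * (x ^ (n.1 % 3) * y ^ (n.1 / 3)) = _
        rw [← mul_inv_eq_iff_eq_mul,
          show r * (x ^ (n.1 % 3) * y ^ (n.1 / 3)) * r⁻¹ =
            (r * x ^ (n.1 % 3) * r⁻¹) * (r * y ^ (n.1 / 3) * r⁻¹) by group,
          ← conj_pow, ← conj_pow, ← hy, hyr,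
          show x⁻¹ = x ^ 2 from inv_eq_of_mul_eq_one_right (by rw [← pow_succ']; exact hx3),
          ← pow_mul]
        exact (hxy.pow_pow _ _).symm.eq
      rw [← mul_assoc r, h1, mul_assoc, hru', ← mul_assoc, QuotientGroup.eq]
      convert hrN using 1
      group
  have hu9 : φ u 9 = 0 := hφ _ _ _ (by
    rw [hptv 0 (by decide), hpt9, hsmul, mul_one, hv0, one_mul])
  have hu0 : φ u 0 = 9 := hφ _ _ _ (by
    rw [hptv 0 (by decide), hpt9, hsmul, hv0, one_mul, Involution.mul_self hu])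
  have hstep : ∀ n, φ u (Ten.rot n) = Ten.rot^[3] (φ u n) := by
    intro n
    have h3 : r⁻¹ = r ^ 3 := inv_eq_of_mul_eq_one_right (by
      rw [← pow_succ']
      exact orderOf_dvd_iff_pow_eq_one.1 hr.dvd)
    rw [← hR, ← Equiv.Perm.mul_apply, ← map_mul, hru, h3, map_mul, map_pow, Equiv.Perm.mul_apply,
      ← Equiv.Perm.iterate_eq_pow, show ⇑(φ r) = Ten.rot from funext hR]
  have hrot4 : ∀ n, Ten.rot^[4] n = n := by decide +kernel
  have hU : ∀ n, φ u n = Ten.tab (φ u 1) (φ u 4) n := by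
    obtain ⟨r1, r3, r2, r4, r5, r8⟩ := Ten.rot_cycle
    have h3 := hstep 1; rw [r1] at h3
    have h2 := hstep 3; rw [r3, h3, ← Function.iterate_add_apply] at h2
    have h6 := hstep 2; rw [r2, h2, ← Function.iterate_add_apply] at h6
    have h5 := hstep 4; rw [r4] at h5
    have h8 := hstep 5; rw [r5, h5, ← Function.iterate_add_apply] at h8
    have h7 := hstep 8; rw [r8, h8, ← Function.iterate_add_apply] at h7
    have hmod : ∀ k w, Ten.rot^[4 + k] w = Ten.rot^[k] w := fun k w => by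
      rw [Function.iterate_add_apply]; exact hrot4 _
    intro n
    fin_cases n
    exacts [hu0, rfl, h2.trans (hmod 2 _), h3, rfl, h5,
      h6.trans ((hmod 5 _).trans (hmod 1 _)), h7.trans ((hmod 5 _).trans (hmod 1 _)),
      h8.trans (hmod 2 _), hu9]
  have hgood : Ten.Good (φ u 1) (φ u 4) := by
    refine ⟨fun n => ?_, fun a _ => ?_⟩
    · rw [← hU, ← hU, ← Equiv.Perm.mul_apply, ← map_mul, Involution.mul_self hu, map_one]; rfl
    · have hf : ⇑(φ (u * v a)) = Ten.tab (φ u 1) (φ u 4) ∘ Ten.trans a := by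
        funext n
        rw [map_mul, Equiv.Perm.mul_apply, hT, hU]; rfl
      have key : ∀ k, (u * v a) ^ k = 1 →
          ∀ n, (Ten.tab (φ u 1) (φ u 4) ∘ Ten.trans a)^[k] n = n := fun k hk n => by
        rw [← hf, Equiv.Perm.iterate_eq_pow, ← map_pow, hk, map_one]; rfl
      exact (hord (u * v a)).imp (key 3) (Or.imp (key 4) (key 5))
  obtain ⟨j, hj⟩ := Ten.tab_check _ _ hgood
  set u0 := r ^ j.1 * u with hu0d
  have hφu0 : ⇑(φ u0) = Ten.tab 1 5 := by
    funext n
    rw [hu0d, map_mul, Equiv.Perm.mul_apply, map_pow, ← Equiv.Perm.iterate_eq_pow,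
      show ⇑(φ r) = Ten.rot from funext hR, hU, hj]
  have hφinj : Function.Injective φ := by
    rw [← MonoidHom.ker_eq_bot_iff]
    refine (MonoidHom.normal_ker φ).eq_bot_or_eq_top.resolve_right fun ht' => ?_
    have : φ u = 1 := MonoidHom.mem_ker.1 (ht' ▸ Subgroup.mem_top u)
    rw [this] at hu9
    exact absurd hu9 (by decide)
  refine ⟨φ, hφinj, ?_⟩
  -- generation
  set H := Subgroup.closure ({x, r, u0} : Set G)
  have hxH : x ∈ H := Subgroup.subset_closure (by simp)
  have hrH : r ∈ H := Subgroup.subset_closure (by simp)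
  have huH : u ∈ H := by
    rw [show u = (r ^ j.1)⁻¹ * u0 by rw [hu0d, inv_mul_cancel_left]]
    exact mul_mem (inv_mem (pow_mem hrH _)) (Subgroup.subset_closure (by simp))
  have hyH : y ∈ H := mul_mem (mul_mem hrH hxH) (inv_mem hrH)
  have hvH : ∀ n, v n ∈ H := fun n => mul_mem (pow_mem hxH _) (pow_mem hyH _)
  have hPH : P ≤ H := by
    intro a ha
    obtain ⟨n, hn⟩ := hbij.2 ((a * u : G) : G ⧸ N)
    have hn9 : n ≠ 9 := by
      rintro rfl
      rw [hpt9, QuotientGroup.eq, inv_one, one_mul] at hn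
      exact hnot a ha hn
    rw [hptv n hn9] at hn
    exact hsep _ (hvP n) a ha hn ▸ hvH n
  have hNH : N ≤ H := by
    have hle : P ⊔ Subgroup.zpowers r ≤ N := sup_le hPN (Subgroup.zpowers_le.2 hrN)
    have h36 : 36 ≤ Nat.card (P ⊔ Subgroup.zpowers r : Subgroup G) := by
      refine Nat.le_of_dvd Nat.card_pos ?_
      refine (show Nat.Coprime 9 4 by norm_num).mul_dvd_of_dvd_of_dvd ?_ ?_
      · exact hPc ▸ Subgroup.card_dvd_of_le le_sup_left
      · rw [← hr, ← Nat.card_zpowers]; exact Subgroup.card_dvd_of_le le_sup_right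
    have hN36 : Nat.card N = 36 := by
      have := N.card_mul_index; rw [hNi, hG] at this; omega
    rw [← Subgroup.eq_of_le_of_card_ge hle (hN36 ▸ h36)]
    exact sup_le hPH (Subgroup.zpowers_le.2 hrH)
  have hHtop : H = ⊤ := eq_top_iff.2 fun g _ => by
    obtain ⟨n, hn⟩ := hbij.2 ((g : G) : G ⧸ N)
    by_cases hn9 : n = 9
    · subst hn9
      rw [hpt9, QuotientGroup.eq, inv_one, one_mul] at hn
      exact hNH hn
    · rw [hptv n hn9, QuotientGroup.eq] at hn
      have := mul_mem (mul_mem (hvH n) huH) (hNH hn)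
      rwa [mul_inv_cancel_left] at this
  rw [MonoidHom.range_eq_map, ← hHtop, MonoidHom.map_closure, stdTen]
  congr 1
  have hφx : ⇑(φ x) = Ten.trans 1 := funext fun n => hv1 ▸ hT 1 n
  ext f
  simp only [Set.image_insert_eq, Set.image_singleton, Set.mem_insert_iff, Set.mem_singleton_iff,
    Set.mem_ofPred_eq]
  constructor
  · rintro (rfl | rfl | rfl)
    exacts [Or.inl hφx, Or.inr (Or.inl (funext hR)), Or.inr (Or.inr hφu0)]
  · rintro (h | h | h)
    · exact Or.inl (DFunLike.coe_injective (h.trans hφx.symm))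
    · exact Or.inr (Or.inl (DFunLike.coe_injective (h.trans (funext hR).symm)))
    · exact Or.inr (Or.inr (DFunLike.coe_injective (h.trans hφu0.symm)))

/-- Two such groups of order 360 are isomorphic. -/
theorem mulEquiv_of_dihedral {H : Type*} [Group H] [Finite G] [Finite H]
    (hG : Nat.card G = 360) (hH : Nat.card H = 360) {t : G} (ht : orderOf t = 2)
    (eG : cent t ≃* DihedralGroup 4) (hiG : ∀ M : Subgroup G, M.index ≠ 2)
    {t' : H} (ht' : orderOf t' = 2) (eH : cent t' ≃* DihedralGroup 4)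
    (hiH : ∀ M : Subgroup H, M.index ≠ 2) : Nonempty (G ≃* H) := by
  obtain ⟨s, K, h, h4⟩ := hyp_of_dihedral ht eG hiG
  obtain ⟨s', K', h', h4'⟩ := hyp_of_dihedral ht' eH hiH
  have := h.isSimpleGroup h4 ⟨eG⟩
  have := h'.isSimpleGroup h4' ⟨eH⟩
  obtain ⟨φ, hφ, hr₁⟩ := exists_injective_ten hG h h4
  obtain ⟨ψ, hψ, hr₂⟩ := exists_injective_ten hH h' h4'
  exact ⟨((MonoidHom.ofInjective hφ).trans (MulEquiv.subgroupCongr (hr₁.trans hr₂.symm))).trans
    (MonoidHom.ofInjective hψ).symm⟩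

theorem alternating_six_index_ne_two (M : Subgroup (alternatingGroup (Fin 6))) : M.index ≠ 2 := by
  intro h
  have : IsSimpleGroup (alternatingGroup (Fin 6)) := alternatingGroup.isSimpleGroup (by simp)
  have := Subgroup.normal_of_index_eq_two h
  rcases Subgroup.Normal.eq_bot_or_eq_top this with e | e <;> rw [e] at h
  · rw [Subgroup.index_bot, nat_card_alternatingGroup, Nat.card_eq_fintype_card,
      Fintype.card_fin] at h
    revert h; decide
  · rw [Subgroup.index_top] at h; norm_num at h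

def dSix : Equiv.Perm (Fin 6) := Equiv.swap 0 1 * Equiv.swap 2 3
def uSix : Equiv.Perm (Fin 6) := Equiv.swap 0 2 * Equiv.swap 1 3
def vSix : Equiv.Perm (Fin 6) := Equiv.swap 0 1 * Equiv.swap 4 5

set_option maxRecDepth 100000 in
theorem card_cent_dSix :
    Fintype.card {g : Equiv.Perm (Fin 6) // Equiv.Perm.sign g = 1 ∧ g * dSix = dSix * g} = 8 := by
  decide +kernel

theorem six_facts : Equiv.Perm.sign dSix = 1 ∧ dSix ≠ 1 ∧ dSix * dSix = 1 ∧
    Equiv.Perm.sign uSix = 1 ∧ uSix ≠ 1 ∧ uSix * uSix = 1 ∧ uSix * dSix = dSix * uSix ∧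
    Equiv.Perm.sign vSix = 1 ∧ vSix ≠ 1 ∧ vSix * vSix = 1 ∧ vSix * dSix = dSix * vSix ∧
    uSix ≠ vSix ∧ (uSix * vSix) ^ 4 = 1 ∧ (uSix * vSix) ^ 2 ≠ 1 := by decide +kernel

theorem equiv_cent_alternating_six (a : alternatingGroup (Fin 6)) (ha : orderOf a = 2) :
    Nonempty (cent a ≃* DihedralGroup 4) := by
  have := Fact.mk Nat.prime_two
  obtain ⟨d1, d2, d3, u1, u2, u3, u4, v1, v2, v3, v4, uv, w4, w2⟩ := six_facts
  let mk := fun (g : Equiv.Perm (Fin 6)) (hg : Equiv.Perm.sign g = 1) =>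
    (⟨g, Equiv.Perm.mem_alternatingGroup.2 hg⟩ : alternatingGroup (Fin 6))
  set D := mk dSix d1
  set U := mk uSix u1
  set V := mk vSix v1
  have inv2 : ∀ g hg, g ≠ 1 → g * g = 1 → orderOf (mk g hg) = 2 := fun g hg h1 h2 =>
    Involution.orderOf_of_sq (Subtype.ext h2) fun e => h1 (congrArg Subtype.val e)
  obtain ⟨c, rfl⟩ := isConj_iff.1 (S5057.conj_of D a (inv2 _ d1 d2 d3) ha)
  have hcl : Subgroup.closure ({U, V} : Set (alternatingGroup (Fin 6))) ≤ cent D := by
    rw [Subgroup.closure_le]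
    rintro g (rfl | rfl)
    exacts [mem_cent.2 (Subtype.ext u4), mem_cent.2 (Subtype.ext v4)]
  have ho : orderOf (U * V) = 4 :=
    orderOf_eq_prime_pow (p := 2) (n := 1) (fun e => w2 (by simpa using congrArg Subtype.val e))
      (Subtype.ext (by simpa using w4))
  obtain ⟨f⟩ := S0206.result U V (inv2 _ u1 u2 u3) (inv2 _ v1 v2 v3)
    (fun e => uv (congrArg Subtype.val e))
  have hc8 : Nat.card (cent D) = 8 := by
    rw [← card_cent_dSix, ← Nat.card_eq_fintype_card]
    exact Nat.card_congr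
      { toFun := fun g => ⟨g.1.1, Equiv.Perm.mem_alternatingGroup.1 g.1.2,
          congrArg Subtype.val (mem_cent.1 g.2)⟩
        invFun := fun g => ⟨⟨g.1, Equiv.Perm.mem_alternatingGroup.2 g.2.1⟩,
          mem_cent.2 (Subtype.ext g.2.2)⟩
        left_inv := fun g => rfl
        right_inv := fun g => rfl }
  have heq : Subgroup.closure ({U, V} : Set (alternatingGroup (Fin 6))) = cent D :=
    Subgroup.eq_of_le_of_card_ge hcl (by
      rw [hc8, Nat.card_congr f.toEquiv, ho, DihedralGroup.nat_card])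
  let g : cent D ≃* cent (c * D * c⁻¹) :=
    { toFun := fun w => ⟨c * w * c⁻¹, conj_mem_cent w.2⟩
      invFun := fun w => ⟨c⁻¹ * w * c, by
        have := conj_mem_cent (g := c⁻¹) w.2
        simpa [mul_assoc] using this⟩
      left_inv := fun w => Subtype.ext (by simp [mul_assoc])
      right_inv := fun w => Subtype.ext (by simp [mul_assoc])
      map_mul' := fun v w => Subtype.ext (by simp [mul_assoc]) }
  rw [ho] at f
  exact ⟨g.symm.trans ((MulEquiv.subgroupCongr heq).symm.trans f)⟩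

end Cfsg.Agent.BSW
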